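import Mathlib
import Groth.Agent.Lib.Helper5.CA.NG20
import Groth.Agent.Lib.Helper5.CA.FSField
import Groth.Agent.Lib.Helper5.CA.PerfGR

/-! Helper3: for a local `k`-algebra `B` with residue field `k`, `m/m² ≃ κ ⊗ Ω_{B/k}`; consequences for
regularity (`Ω` free of rank `dim B` iff regular). -/

set_option autoImplicit false
universe u
open TensorProduct IsLocalRing

namespace Groth.Agent.H3.KReg

/-- Cotangent spaces of equal ideals. -/
noncomputable def cotangentCongr {R : Type u} [CommRing R] {I J : Ideal R} (h : I = J) :
    I.Cotangent ≃ₗ[R] J.Cotangent := by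
  subst h
  exact LinearEquiv.refl _ _

variable (k B : Type u) [Field k] [CommRing B] [Algebra k B] [IsLocalRing B]

theorem kerCotangentToTensor_bijective
    (hres : Function.Bijective (algebraMap k (ResidueField B))) :
    Function.Bijective (KaehlerDifferential.kerCotangentToTensor k B (ResidueField B)) := by
  have hsurj : Function.Surjective (algebraMap B (ResidueField B)) := Ideal.Quotient.mk_surjective
  constructor
  · -- injective: a section gives a retraction
    let e : k ≃ₐ[k] ResidueField B := AlgEquiv.ofBijective (Algebra.ofId k (ResidueField B)) hres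
    let g : ResidueField B →ₐ[k] B ⧸ (RingHom.ker (algebraMap B (ResidueField B)) ^ 2) :=
      (Algebra.ofId k _).comp e.symm.toAlgHom
    have hg : (IsScalarTower.toAlgHom k B (ResidueField B)).kerSquareLift.comp g =
        AlgHom.id k (ResidueField B) := by
      ext x
      obtain ⟨c, rfl⟩ := e.surjective x
      simp [g, e]
    obtain ⟨l, hl⟩ := (retractionKerCotangentToTensorEquivSection
      (R := k) (P := B) (S := ResidueField B) hsurj).symm ⟨g, hg⟩
    intro x y hxy
    have := congrArg l hxy
    rwa [← LinearMap.comp_apply, ← LinearMap.comp_apply, hl] at this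
  · -- surjective: `Ω_{κ/k} = 0`
    have : Subsingleton Ω[ResidueField B⁄k] :=
      KaehlerDifferential.subsingleton_of_surjective k (ResidueField B) hres.2
    intro y
    exact (KaehlerDifferential.exact_kerCotangentToTensor_mapBaseChange k B (ResidueField B)
      hsurj y).mp (Subsingleton.elim _ _)

/-- `m/m² ≃ κ ⊗ Ω_{B/k}` as `κ`-vector spaces. -/
noncomputable def cotangentSpaceEquiv
    (hres : Function.Bijective (algebraMap k (ResidueField B))) :
    CotangentSpace B ≃ₗ[ResidueField B] (ResidueField B) ⊗[B] Ω[B⁄k] :=
  ((cotangentCongr (show maximalIdeal B = RingHom.ker (algebraMap B (ResidueField B)) from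
      (Ideal.mk_ker (I := maximalIdeal B)).symm)).trans
    (LinearEquiv.ofBijective _ (kerCotangentToTensor_bijective k B hres))).extendScalarsOfSurjective
    Ideal.Quotient.mk_surjective

theorem finrank_cotangentSpace_eq
    (hres : Function.Bijective (algebraMap k (ResidueField B))) [Module.Free B Ω[B⁄k]] :
    Module.finrank (ResidueField B) (CotangentSpace B) = Module.finrank B Ω[B⁄k] := by
  rw [(cotangentSpaceEquiv k B hres).finrank_eq, Module.finrank_baseChange]


theorem formallySmooth_of_isRegularLocalRing_of_perfectField [Algebra.EssFiniteType k B]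
    [PerfectField k] [IsRegularLocalRing B] : Algebra.FormallySmooth k B := by
  set C := Algebra.EssFiniteType.subalgebra k B with hC
  set M := Algebra.EssFiniteType.submonoid k B with hM
  set p : Ideal C := (maximalIdeal B).comap (algebraMap C B) with hp
  have hloc : IsLocalization.AtPrime B p := by
    refine IsLocalization.of_le M p.primeCompl ?_ ?_
    · intro s hs
      have hu : IsUnit (algebraMap C B s) := hs
      show s ∉ p
      intro hsp
      exact (IsLocalRing.notMem_maximalIdeal.mpr hu) hsp
    · intro r hr
      exact IsLocalRing.notMem_maximalIdeal.mp hr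
  let e : Localization.AtPrime p ≃ₐ[C] B := IsLocalization.algEquiv p.primeCompl _ _
  have hreg : IsRegularLocalRing (Localization.AtPrime p) :=
    IsRegularLocalRing.of_ringEquiv e.symm.toRingEquiv
  have : IsNoetherianRing C := Algebra.FiniteType.isNoetherianRing k C
  have : IsNoetherianRing (Localization.AtPrime p) :=
    IsLocalization.isNoetherianRing p.primeCompl _ inferInstance
  have : Algebra.IsGeometricallyReduced k (ResidueField (Localization.AtPrime p)) :=
    Groth.Agent.H5.isGeometricallyReduced_of_perfectField k _
  have hadic := ((Groth.Agent.H5.FSField.tfae k (Localization.AtPrime p)).out 0 3).mpr hreg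
  have : Algebra.FormallySmooth k k := Algebra.FormallySmooth.inst
  have hfs : Algebra.FormallySmooth k (Localization.AtPrime p) :=
    ((H5.NG.tfae4578 (k₀ := k) (k := k) (C := C) p).out 0 1).mpr hadic
  exact Algebra.FormallySmooth.of_equiv (e.restrictScalars k)

theorem main [Algebra.EssFiniteType k B]
    (hres : Function.Bijective (algebraMap k (ResidueField B)))
    (d : ℕ) (hd : ringKrullDim B = (d : WithBot ℕ∞)) :
    ((Module.Free B Ω[B⁄k] ∧ Module.finrank B Ω[B⁄k] = d) → IsRegularLocalRing B) ∧
      (PerfectField k → IsRegularLocalRing B →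
        Module.Free B Ω[B⁄k] ∧ Module.finrank B Ω[B⁄k] = d) := by
  have : IsNoetherianRing B := Algebra.EssFiniteType.isNoetherianRing k B
  constructor
  · rintro ⟨hfree, hrank⟩
    rw [IsRegularLocalRing.iff_finrank_cotangentSpace, finrank_cotangentSpace_eq k B hres, hrank,
      hd]
  · intro hperf hreg
    have hfs := formallySmooth_of_isRegularLocalRing_of_perfectField k B
    have hfree : Module.Free B Ω[B⁄k] := Module.free_of_flat_of_isLocalRing
    refine ⟨hfree, ?_⟩
    have h1 := (IsRegularLocalRing.iff_finrank_cotangentSpace (R := B)).mp hreg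
    rw [finrank_cotangentSpace_eq k B hres, hd] at h1
    exact_mod_cast h1

end Groth.Agent.H3.KReg
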