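import Mathlib
import Groth.Prelude
import Groth.Agent.Lib.Helper1.CMFlat
import Groth.Agent.Lib.Helper6.FlatGD
import Groth.Agent.Lib.Helper6.FlatLoc

/-! Helper3: Cohen–Macaulayness descends along faithfully flat ring maps. -/

set_option autoImplicit false
universe u
open TensorProduct

namespace Groth.Agent.H3.CMDesc

theorem isCohenMacaulayRing_of_faithfullyFlat (R S : Type u) [CommRing R] [CommRing S]
    [IsNoetherianRing R] [Algebra R S] [Module.FaithfullyFlat R S]
    [hS : LocCoh.IsCohenMacaulayRing S] : LocCoh.IsCohenMacaulayRing R := by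
  refine { isCohenMacaulayLocalRing_localization := ?_ }
  intro P hP
  obtain ⟨q, hq, hlies⟩ := Ideal.exists_isPrime_liesOver_of_faithfullyFlat (B := S) P
  have hqF : (⟨q, hq⟩ : PrimeSpectrum S) ∈ Module.support S S := by
    rw [Module.support_eq_zeroLocus, PrimeSpectrum.mem_zeroLocus]
    intro x hx
    have : x = 0 := by
      have := Module.mem_annihilator.mp hx 1
      simpa using this
    rw [this]
    exact Ideal.zero_mem _
  obtain ⟨Q, hQ, hQq, hQP, hmin⟩ := Groth.Agent.H6.FlatGD.exists_going_down (A := R) (B := S) S q hqF P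
    (le_of_eq hlies.over)
  subst hQP
  haveI : IsNoetherianRing (Localization.AtPrime (Q.comap (algebraMap R S))) :=
    IsLocalization.isNoetherianRing (Q.comap (algebraMap R S)).primeCompl _ inferInstance
  refine { supportDim_eq_depth := ?_ }
  have hS1 := (hS.isCohenMacaulayLocalRing_localization Q).supportDim_eq_depth
  obtain ⟨h3, h4⟩ := Groth.Agent.H6.FlatLoc.depth_and_dim_localized_tensor (A := R) (B := S) R S Q
  obtain ⟨h5, h6⟩ := Groth.Agent.H6.FlatGD.fibLocMod_depth_dim_zero (A := R) (B := S) S Q hmin
  haveI : Module.Finite S (TensorProduct R S R) := Groth.Agent.H1.finite_tensor_of_finite R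
  obtain ⟨h7, h8⟩ := Groth.Agent.H6.SkLoc.depth_and_dim_congr (TensorProduct R S R)
    (TensorProduct.AlgebraTensorModule.rid R S S) Q
  have e1 := Groth.Agent.H6.FiberDict.locEquiv S Q
  have e2 := Groth.Agent.H6.FiberDict.locEquiv R (Q.comap (algebraMap R S))
  have hd1 : LocCoh.depth (Localization.AtPrime Q) (LocalizedModule Q.primeCompl S) =
      LocCoh.depth (Localization.AtPrime Q) (Localization.AtPrime Q) :=
    Groth.Agent.H6.HomKer.idealDepth_congr _ e1
  have hd2 : LocCoh.depth (Localization.AtPrime (Q.comap (algebraMap R S)))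
      (LocalizedModule (Q.comap (algebraMap R S)).primeCompl R) =
      LocCoh.depth (Localization.AtPrime (Q.comap (algebraMap R S)))
        (Localization.AtPrime (Q.comap (algebraMap R S))) :=
    Groth.Agent.H6.HomKer.idealDepth_congr _ e2
  rw [← Module.supportDim_eq_of_equiv e1, ← hd1, ← h7, ← h8, h3, h4, h5, h6] at hS1
  rw [← Module.supportDim_eq_of_equiv e2, ← hd2]
  simpa using hS1

end Groth.Agent.H3.CMDesc
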