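import Mathlib
import Groth.Prelude.Def_EGA4b
import Groth.Agent.S0543
import Groth.Agent.S0546
import Groth.Agent.Lib.Helper1.ComplFlat
import Groth.Agent.Lib.Helper1.ComplFlat2

/-! Helper3: the map of completions induced by a ring map, and its flatness. -/

set_option autoImplicit false
universe u
open IsLocalRing

namespace Groth.Agent.H3.CplMap

section general

variable {A B : Type u} [CommRing A] [CommRing B] (f : A →+* B) (𝔞 : Ideal A) (𝔫 : Ideal B)

theorem pow_le_comap (h : 𝔞.map f ≤ 𝔫) (n : ℕ) : 𝔞 ^ n ≤ (𝔫 ^ n).comap f := by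
  rw [← Ideal.map_le_iff_le_comap, Ideal.map_pow]
  exact Ideal.pow_right_mono h n

/-- The maps `Â → B/𝔫ⁿ`. -/
noncomputable def level (h : 𝔞.map f ≤ 𝔫) (n : ℕ) :
    AdicCompletion 𝔞 A →+* B ⧸ 𝔫 ^ n :=
  (Ideal.quotientMap (𝔫 ^ n) f (pow_le_comap f 𝔞 𝔫 h n)).comp (AdicCompletion.evalₐ 𝔞 n).toRingHom

theorem level_mk (h : 𝔞.map f ≤ 𝔫) (n : ℕ)
    (s : AdicCompletion.AdicCauchySequence 𝔞 A) :
    level f 𝔞 𝔫 h n (AdicCompletion.mk 𝔞 A s) =
      Ideal.Quotient.mk (𝔫 ^ n) (f (s n)) := by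
  simp [level]

theorem level_of (h : 𝔞.map f ≤ 𝔫) (n : ℕ) (a : A) :
    level f 𝔞 𝔫 h n (algebraMap A (AdicCompletion 𝔞 A) a) =
      Ideal.Quotient.mk (𝔫 ^ n) (f a) := by
  simp [level]

theorem level_compat (h : 𝔞.map f ≤ 𝔫) {k n : ℕ} (hle : k ≤ n) :
    (Ideal.Quotient.factorPow 𝔫 hle).comp (level f 𝔞 𝔫 h n) = level f 𝔞 𝔫 h k := by
  ext x
  induction x using AdicCompletion.induction_on with
  | h s =>
    rw [RingHom.comp_apply, level_mk, level_mk]
    simp only [Ideal.Quotient.factorPow, Ideal.Quotient.factor_mk]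
    have h1 := AdicCompletion.Ideal.mk_eq_mk 𝔞 hle s
    rw [Ideal.Quotient.eq] at h1 ⊢
    rw [← map_sub]
    exact pow_le_comap f 𝔞 𝔫 h k h1

/-- The canonical map `Â → B^`. -/
noncomputable def cplMap (h : 𝔞.map f ≤ 𝔫) :
    AdicCompletion 𝔞 A →+* AdicCompletion 𝔫 B :=
  AdicCompletion.liftRingHom 𝔫 (level f 𝔞 𝔫 h) (fun hle => level_compat f 𝔞 𝔫 h hle)

theorem evalₐ_cplMap (h : 𝔞.map f ≤ 𝔫) (n : ℕ) (x : AdicCompletion 𝔞 A) :
    AdicCompletion.evalₐ 𝔫 n (cplMap f 𝔞 𝔫 h x) = level f 𝔞 𝔫 h n x :=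
  AdicCompletion.evalₐ_liftRingHom 𝔫 _ _ n x

theorem cplMap_of (h : 𝔞.map f ≤ 𝔫) (a : A) :
    cplMap f 𝔞 𝔫 h (algebraMap A (AdicCompletion 𝔞 A) a) =
      algebraMap B (AdicCompletion 𝔫 B) (f a) := by
  apply AdicCompletion.ext_evalₐ
  intro n
  rw [evalₐ_cplMap, level_of]
  simp

end general


section CF

open Groth.Agent.H1.ComplFlat

variable (A : Type u) [CommRing A] [IsNoetherianRing A] (I : Ideal A)
  (N : Type u) [AddCommGroup N] [Module A N] [Module (AdicCompletion I A) N]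
  [IsScalarTower A (AdicCompletion I A) N]

/-- A module over `Â` which is flat over `A` and `IÂ`-adically complete is flat over `Â`. -/
theorem flat_over_completion [Module.Flat A N]
    [IsHausdorff (I.map (algebraMap A (AdicCompletion I A))) N]
    [IsPrecomplete (I.map (algebraMap A (AdicCompletion I A))) N] :
    Module.Flat (AdicCompletion I A) N := by
  have hI : I.FG := IsNoetherian.noetherian I
  have : IsNoetherianRing (AdicCompletion I A) := Groth.Agent.S0543.result A I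
  refine flat_of_flat_quotients (I.map (algebraMap A (AdicCompletion I A))) fun m => ?_
  have hflat : Module.Flat (A ⧸ I ^ m) (N ⧸ (I ^ m • ⊤ : Submodule A N)) :=
    flat_quotient_of_flat N (I ^ m)
  have hrs : (((I.map (algebraMap A (AdicCompletion I A))) ^ m •
      (⊤ : Submodule (AdicCompletion I A) N)).restrictScalars A) =
      I ^ m • (⊤ : Submodule A N) := by
    rw [← Ideal.map_pow, Ideal.smul_restrictScalars, Submodule.restrictScalars_top]
  let ψ : (N ⧸ ((I.map (algebraMap A (AdicCompletion I A))) ^ m •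
      (⊤ : Submodule (AdicCompletion I A) N))) ≃ₗ[A] N ⧸ (I ^ m • ⊤ : Submodule A N) :=
    (Submodule.Quotient.restrictScalarsEquiv A _).symm ≪≫ₗ Submodule.quotEquivOfEq _ _ hrs
  have hψ : ∀ x : N, ψ (Submodule.Quotient.mk x) = Submodule.Quotient.mk x := fun x => rfl
  refine flat_of_ringEquiv_semilinear (ringQuotEquiv I hI m) ψ.toAddEquiv ?_
  intro b p
  obtain ⟨r, rfl⟩ := Ideal.Quotient.mk_surjective b
  obtain ⟨x, rfl⟩ := Submodule.Quotient.mk_surjective _ p
  obtain ⟨a, ha⟩ := Ideal.Quotient.mk_surjective (AdicCompletion.evalₐ I m r)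
  change ψ (Submodule.Quotient.mk (r • x)) = _ • ψ (Submodule.Quotient.mk x)
  rw [ringQuotEquiv_mk, hψ, hψ, ← ha]
  change _ = Submodule.Quotient.mk (a • x)
  rw [Submodule.Quotient.eq]
  have h1 : r - algebraMap A (AdicCompletion I A) a ∈
      (I.map (algebraMap A (AdicCompletion I A))) ^ m := by
    rw [← evalₐ_eq_zero_iff I hI m, map_sub, ← ha]
    simp
  have h2 : (r - algebraMap A (AdicCompletion I A) a) • x ∈
      ((I.map (algebraMap A (AdicCompletion I A))) ^ m •
        (⊤ : Submodule (AdicCompletion I A) N)) :=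
    Submodule.smul_mem_smul h1 Submodule.mem_top
  rw [← hrs, Submodule.restrictScalars_mem]
  convert h2 using 1
  rw [sub_smul, algebraMap_smul]

end CF


section Local

variable (A A' : Type u) [CommRing A] [CommRing A'] [IsNoetherianRing A] [IsNoetherianRing A']
  [IsLocalRing A] [IsLocalRing A'] [Algebra A A'] [IsLocalHom (algebraMap A A')]

theorem map_maximalIdeal_le : (maximalIdeal A).map (algebraMap A A') ≤ maximalIdeal A' :=
  ((IsLocalRing.local_hom_TFAE (algebraMap A A')).out 0 2).mp ‹IsLocalHom (algebraMap A A')›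

/-- The map of completions induced by a local homomorphism. -/
noncomputable def cplHom : EGA4.Cpl A →+* EGA4.Cpl A' :=
  cplMap (algebraMap A A') (maximalIdeal A) (maximalIdeal A') (map_maximalIdeal_le A A')

theorem cplHom_of (a : A) :
    cplHom A A' (algebraMap A (EGA4.Cpl A) a) = algebraMap A' (EGA4.Cpl A') (algebraMap A A' a) :=
  cplMap_of _ _ _ _ a

theorem isScalarTower_cpl : IsScalarTower A A' (EGA4.Cpl A') :=
  IsScalarTower.of_algebraMap_eq fun _ => rfl

/-- For a flat local homomorphism `A → A'` of Noetherian local rings, `Â → Â'` is faithfully flat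
(and compatible with `A → A'`). -/
theorem exists_cpl_tower [Module.Flat A A'] :
    ∃ (_ : Algebra (EGA4.Cpl A) (EGA4.Cpl A')),
      IsScalarTower A (EGA4.Cpl A) (EGA4.Cpl A') ∧
      Module.FaithfullyFlat (EGA4.Cpl A) (EGA4.Cpl A') := by
  let _ : Algebra (EGA4.Cpl A) (EGA4.Cpl A') := (cplHom A A').toAlgebra
  have h2 : IsScalarTower A A' (EGA4.Cpl A') := isScalarTower_cpl A A'
  have h1 : IsScalarTower A (EGA4.Cpl A) (EGA4.Cpl A') :=
    IsScalarTower.of_algebraMap_eq fun a => (cplHom_of A A' a).symm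
  refine ⟨inferInstance, h1, ?_⟩
  have hflatA : Module.Flat A (EGA4.Cpl A') := Module.Flat.trans A A' (EGA4.Cpl A')
  have hNS : IsNoetherianRing (EGA4.Cpl A') := Groth.Agent.S0543.result A' _
  have hJ : ((maximalIdeal A).map (algebraMap A (EGA4.Cpl A))).map
      (algebraMap (EGA4.Cpl A) (EGA4.Cpl A')) ≤ maximalIdeal (EGA4.Cpl A') := by
    rw [Ideal.map_map, ← IsScalarTower.algebraMap_eq, IsScalarTower.algebraMap_eq A A' (EGA4.Cpl A'),
      ← Ideal.map_map, AdicCompletion.maximalIdeal_eq_map]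
    exact Ideal.map_mono (map_maximalIdeal_le A A')
  have hcomp : IsAdicComplete (((maximalIdeal A).map (algebraMap A (EGA4.Cpl A))).map
      (algebraMap (EGA4.Cpl A) (EGA4.Cpl A'))) (EGA4.Cpl A') :=
    Groth.Agent.S0546.result (EGA4.Cpl A') _ (maximalIdeal (EGA4.Cpl A')) hJ
      (IsNoetherian.noetherian _) (EGA4.Cpl A')
  have hcomp' : IsAdicComplete ((maximalIdeal A).map (algebraMap A (EGA4.Cpl A))) (EGA4.Cpl A') :=
    (IsAdicComplete.map_algebraMap_iff _ _).mp hcomp
  have hflat : Module.Flat (EGA4.Cpl A) (EGA4.Cpl A') :=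
    flat_over_completion A (maximalIdeal A) (EGA4.Cpl A')
  have hloc : IsLocalHom (algebraMap (EGA4.Cpl A) (EGA4.Cpl A')) := by
    refine ((IsLocalRing.local_hom_TFAE _).out 0 2).mpr ?_
    rw [AdicCompletion.maximalIdeal_eq_map]
    exact hJ
  exact Module.FaithfullyFlat.of_flat_of_isLocalHom

end Local

end Groth.Agent.H3.CplMap
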