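import Mathlib
import Groth.Agent.Lib.Helper8.NormalHomBC
import Groth.Agent.Lib.Helper5.CA.NG34
import Groth.Agent.Lib.Helper1.RegFlat

/-!
# Base change of regular homomorphisms (helper3)
-/

set_option autoImplicit false

open TensorProduct

namespace Groth.Agent.H3.RegHomBC

universe u

open Groth.Agent.H8.GNorm Groth.Agent.H8.NHB

/-- The hypothesis "geometrically regular fibres". -/
def GeomRegFibres (A B : Type u) [CommRing A] [CommRing B] [Algebra A B] : Prop :=
  ∀ (p : Ideal A) [p.IsPrime] (K : Type u) [Field K] [Algebra p.ResidueField K],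
    Module.Finite p.ResidueField K → IsRegularRing (K ⊗[p.ResidueField] p.Fiber B)

/-- Fibre rings of a Noetherian algebra are Noetherian. -/
theorem isNoetherianRing_fiber (A C : Type u) [CommRing A] [CommRing C] [Algebra A C]
    [IsNoetherianRing C] (p : Ideal A) [p.IsPrime] : IsNoetherianRing (p.Fiber C) := by
  have : Algebra.EssFiniteType C (C ⊗[A] p.ResidueField) := inferInstance
  have : IsNoetherianRing (C ⊗[A] p.ResidueField) := Algebra.EssFiniteType.isNoetherianRing C _
  exact isNoetherianRing_of_ringEquiv _ (Algebra.TensorProduct.comm A C p.ResidueField).toRingEquiv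

/-- `K ⊗ N` is Noetherian for `K` finite over the field `k` and `N` Noetherian. -/
theorem isNoetherianRing_tensor_finite (k N K : Type u) [Field k] [CommRing N] [Algebra k N]
    [IsNoetherianRing N] [Field K] [Algebra k K] [Module.Finite k K] :
    IsNoetherianRing (K ⊗[k] N) := by
  have : Module.Finite N (N ⊗[k] K) := inferInstance
  have : IsNoetherianRing (N ⊗[k] K) := IsNoetherianRing.of_finite N _
  exact isNoetherianRing_of_ringEquiv _ (Algebra.TensorProduct.comm k N K).toRingEquiv

section

variable (A B A' : Type u) [CommRing A] [CommRing B] [CommRing A'] [Algebra A B] [Algebra A A']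

theorem isRegularRing_fibre_baseChange (h : GeomRegFibres A B) (p' : Ideal A') [p'.IsPrime]
    [IsNoetherianRing ((p'.under A).Fiber B)] [IsNoetherianRing (p'.Fiber (A' ⊗[A] B))]
    (K : Type u) [Field K] [Algebra p'.ResidueField K] (hfin : Module.Finite p'.ResidueField K) :
    IsRegularRing (K ⊗[p'.ResidueField] p'.Fiber (A' ⊗[A] B)) := by
  have hlies : p'.LiesOver (p'.under A) := ⟨rfl⟩
  let ρ : (p'.under A).ResidueField →+* p'.ResidueField :=
    Ideal.ResidueField.map (p'.under A) p' (algebraMap A A') hlies.over
  let _ : Algebra A' K :=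
    ((algebraMap p'.ResidueField K).comp (algebraMap A' p'.ResidueField)).toAlgebra
  have : IsScalarTower A' p'.ResidueField K := IsScalarTower.of_algebraMap_eq fun _ => rfl
  let _ : Algebra A K := ((algebraMap A' K).comp (algebraMap A A')).toAlgebra
  have : IsScalarTower A A' K := IsScalarTower.of_algebraMap_eq fun _ => rfl
  let _ : Algebra (p'.under A).ResidueField K := ((algebraMap p'.ResidueField K).comp ρ).toAlgebra
  have : IsScalarTower A (p'.under A).ResidueField K := by
    refine IsScalarTower.of_algebraMap_eq fun a => ?_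
    show algebraMap p'.ResidueField K (algebraMap A' p'.ResidueField (algebraMap A A' a)) =
      algebraMap p'.ResidueField K (ρ (algebraMap A (p'.under A).ResidueField a))
    congr 1
    exact (Ideal.ResidueField.map_algebraMap (p'.under A) p' (algebraMap A A') hlies.over a).symm
  let e : K ⊗[p'.ResidueField] p'.Fiber (A' ⊗[A] B) ≃+*
      K ⊗[(p'.under A).ResidueField] (p'.under A).Fiber B :=
    (isoBC A B A' p' K).trans (isoF A B (p'.under A) K).symm
  have := hfin
  have : IsNoetherianRing (K ⊗[p'.ResidueField] p'.Fiber (A' ⊗[A] B)) :=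
    isNoetherianRing_tensor_finite _ _ _
  have : IsNoetherianRing (K ⊗[(p'.under A).ResidueField] (p'.under A).Fiber B) :=
    isNoetherianRing_of_ringEquiv (K ⊗[p'.ResidueField] p'.Fiber (A' ⊗[A] B)) e
  have hgr : CAlg.IsGeometricallyRegular (p'.under A).ResidueField ((p'.under A).Fiber B) :=
    fun k' _ _ hk' => h (p'.under A) k' hk'
  have := H5.NG.isRegularRing_baseChange_of_isGeometricallyRegular (p'.under A).ResidueField
    ((p'.under A).Fiber B) K hgr
  exact IsRegularRing.of_ringEquiv
    (R := K ⊗[(p'.under A).ResidueField] (p'.under A).Fiber B) e.symm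


theorem geomRegFibres_baseChange [IsNoetherianRing B] [IsNoetherianRing (A' ⊗[A] B)]
    (h : GeomRegFibres A B) : GeomRegFibres A' (A' ⊗[A] B) := by
  intro p' _ K _ _ hfin
  have : IsNoetherianRing (p'.Fiber (A' ⊗[A] B)) := isNoetherianRing_fiber A' _ p'
  have : IsNoetherianRing ((p'.under A).Fiber B) := isNoetherianRing_fiber A B _
  exact isRegularRing_fibre_baseChange A B A' h p' K hfin

/-- The fibre of `A' ⊗[A] B` over `p'` as a base change of the fibre of `B` over `p' ∩ A`. -/
theorem isNoetherianRing_fiber_baseChange_of_finiteType [Algebra.FiniteType A A']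
    (p' : Ideal A') [p'.IsPrime] [IsNoetherianRing ((p'.under A).Fiber B)] :
    IsNoetherianRing (p'.Fiber (A' ⊗[A] B)) := by
  have hlies : p'.LiesOver (p'.under A) := ⟨rfl⟩
  let ρ : (p'.under A).ResidueField →+* p'.ResidueField :=
    Ideal.ResidueField.map (p'.under A) p' (algebraMap A A') hlies.over
  let _ : Algebra (p'.under A).ResidueField p'.ResidueField := ρ.toAlgebra
  have : IsScalarTower A (p'.under A).ResidueField p'.ResidueField := by
    refine IsScalarTower.of_algebraMap_eq fun a => ?_
    rw [IsScalarTower.algebraMap_apply A A' p'.ResidueField]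
    exact (Ideal.ResidueField.map_algebraMap (p'.under A) p' (algebraMap A A') hlies.over a).symm
  have : Algebra.EssFiniteType A p'.ResidueField := Algebra.EssFiniteType.comp A A' _
  have : Algebra.EssFiniteType (p'.under A).ResidueField p'.ResidueField :=
    Algebra.EssFiniteType.of_comp A _ _
  have hN : IsNoetherianRing (p'.ResidueField ⊗[(p'.under A).ResidueField] (p'.under A).Fiber B) :=
    H5.NG.isNoetherianRing_tensor_of_essFiniteType _ _ _
  let e : p'.ResidueField ⊗[(p'.under A).ResidueField] (p'.under A).Fiber B ≃+*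
      p'.Fiber (A' ⊗[A] B) :=
    (Algebra.TensorProduct.cancelBaseChange A (p'.under A).ResidueField p'.ResidueField
      p'.ResidueField B).toRingEquiv.trans
    (Algebra.TensorProduct.cancelBaseChange A A' p'.ResidueField p'.ResidueField B).symm.toRingEquiv
  exact isNoetherianRing_of_ringEquiv
    (p'.ResidueField ⊗[(p'.under A).ResidueField] (p'.under A).Fiber B) e

end

/-- Descent of regularity along a field extension `K → L`, over a base ring. -/
theorem isRegularRing_tensor_descent' (A B K L : Type u) [CommRing A] [CommRing B]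
    [Algebra A B] [Field K] [Algebra A K] [Field L] [Algebra A L]
    [Algebra K L] [IsScalarTower A K L] [IsNoetherianRing (K ⊗[A] B)]
    (h1 : IsRegularRing (L ⊗[A] B)) : IsRegularRing (K ⊗[A] B) := by
  have h2 : IsRegularRing (L ⊗[K] (K ⊗[A] B)) :=
    IsRegularRing.of_ringEquiv (R := L ⊗[A] B)
      (Algebra.TensorProduct.cancelBaseChange A K L L B).symm.toRingEquiv
  have h3 : IsRegularRing ((K ⊗[A] B) ⊗[K] L) :=
    IsRegularRing.of_ringEquiv (R := L ⊗[K] (K ⊗[A] B))
      (Algebra.TensorProduct.comm K L (K ⊗[A] B)).toRingEquiv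
  exact H5.NG.isRegularRing_of_faithfullyFlat (K ⊗[A] B) ((K ⊗[A] B) ⊗[K] L)

section

variable (A B A' : Type u) [CommRing A] [CommRing B] [CommRing A'] [Algebra A B] [Algebra A A']

theorem geomRegFibres_of_baseChange [IsNoetherianRing B] [Module.FaithfullyFlat A A']
    (h : GeomRegFibres A' (A' ⊗[A] B)) : GeomRegFibres A B := by
  intro p _ K _ _ hfin
  have := hfin
  obtain ⟨p', hp', hlies⟩ := Ideal.exists_isPrime_liesOver_of_faithfullyFlat (B := A') p
  let ρ : p.ResidueField →+* p'.ResidueField :=
    Ideal.ResidueField.map p p' (algebraMap A A') hlies.over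
  let _ : Algebra p.ResidueField p'.ResidueField := ρ.toAlgebra
  obtain ⟨K', _, _, _, _, hT1, hT2, hK'⟩ := exists_compositum p.ResidueField p'.ResidueField K
  let _ : Algebra A' K' :=
    ((algebraMap p'.ResidueField K').comp (algebraMap A' p'.ResidueField)).toAlgebra
  have : IsScalarTower A' p'.ResidueField K' := IsScalarTower.of_algebraMap_eq fun _ => rfl
  let _ : Algebra A K' := ((algebraMap A' K').comp (algebraMap A A')).toAlgebra
  have : IsScalarTower A A' K' := IsScalarTower.of_algebraMap_eq fun _ => rfl
  let _ : Algebra A K := ((algebraMap p.ResidueField K).comp (algebraMap A p.ResidueField)).toAlgebra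
  have : IsScalarTower A p.ResidueField K := IsScalarTower.of_algebraMap_eq fun _ => rfl
  have : IsScalarTower A K K' := by
    refine IsScalarTower.of_algebraMap_eq fun a => ?_
    show algebraMap p'.ResidueField K' (algebraMap A' p'.ResidueField (algebraMap A A' a)) =
      algebraMap K K' (algebraMap p.ResidueField K (algebraMap A p.ResidueField a))
    rw [← IsScalarTower.algebraMap_apply p.ResidueField K K',
      IsScalarTower.algebraMap_apply p.ResidueField p'.ResidueField K']
    congr 1
    exact (Ideal.ResidueField.map_algebraMap p p' (algebraMap A A') hlies.over a).symm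
  have h1 : IsRegularRing (K' ⊗[A] B) :=
    have := h p' K' hK'
    IsRegularRing.of_ringEquiv (R := K' ⊗[p'.ResidueField] p'.Fiber (A' ⊗[A] B))
      (isoBC A B A' p' K')
  have : IsNoetherianRing (p.Fiber B) := isNoetherianRing_fiber A B p
  have : IsNoetherianRing (K ⊗[p.ResidueField] p.Fiber B) := isNoetherianRing_tensor_finite _ _ _
  have : IsNoetherianRing (K ⊗[A] B) :=
    isNoetherianRing_of_ringEquiv (K ⊗[p.ResidueField] p.Fiber B) (isoF A B p K)
  have h2 : IsRegularRing (K ⊗[A] B) := isRegularRing_tensor_descent' A B K K' h1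
  exact IsRegularRing.of_ringEquiv (R := K ⊗[A] B) (isoF A B p K).symm

end

end Groth.Agent.H3.RegHomBC
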