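import Mathlib
import Groth.Agent.Lib.Helper3.CA.RegHomBC
import Groth.Agent.Lib.Helper3.FlatDescent

/-!
# Descent of regular homomorphisms along a faithfully flat second map (helper3)
-/

set_option autoImplicit false

open TensorProduct

namespace Groth.Agent.H3.RegHomBC

universe u

section

variable (A B C : Type u) [CommRing A] [CommRing B] [CommRing C]
    [Algebra A B] [Algebra B C] [Algebra A C] [IsScalarTower A B C]
    (p : Ideal A) [p.IsPrime] (K : Type u) [Field K] [Algebra p.ResidueField K]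
    [Algebra A K] [IsScalarTower A p.ResidueField K]

/-- `K ⊗[κ(p)] (κ(p) ⊗[A] B) ≃ B ⊗[A] K`. -/
noncomputable def eR : K ⊗[p.ResidueField] p.Fiber B ≃+* B ⊗[A] K :=
  (Algebra.TensorProduct.cancelBaseChange A p.ResidueField K K B).toRingEquiv.trans
    (Algebra.TensorProduct.comm A K B).toRingEquiv

/-- `K ⊗[κ(p)] (κ(p) ⊗[A] C) ≃ (B ⊗[A] K) ⊗[B] C`. -/
noncomputable def eT : K ⊗[p.ResidueField] p.Fiber C ≃+* (B ⊗[A] K) ⊗[B] C :=
  (Algebra.TensorProduct.cancelBaseChange A p.ResidueField K K C).toRingEquiv.trans <|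
  (Algebra.TensorProduct.comm A K C).toRingEquiv.trans <|
  (Algebra.TensorProduct.cancelBaseChange A B C C K).symm.toRingEquiv.trans
    (Algebra.TensorProduct.comm B C (B ⊗[A] K)).toRingEquiv

end

theorem descent_aux (A B C : Type u) [CommRing A] [CommRing B] [CommRing C]
    [Algebra A B] [Algebra B C] [Algebra A C] [IsScalarTower A B C] [Module.FaithfullyFlat B C]
    (p : Ideal A) [p.IsPrime] [IsNoetherianRing (p.Fiber C)]
    (K : Type u) [Field K] [Algebra p.ResidueField K] [Module.Finite p.ResidueField K] :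
    IsNoetherianRing (K ⊗[p.ResidueField] p.Fiber B) ∧
      (IsRegularRing (K ⊗[p.ResidueField] p.Fiber C) →
        IsRegularRing (K ⊗[p.ResidueField] p.Fiber B)) := by
  let _ : Algebra A K := ((algebraMap p.ResidueField K).comp (algebraMap A p.ResidueField)).toAlgebra
  have : IsScalarTower A p.ResidueField K := IsScalarTower.of_algebraMap_eq fun _ => rfl
  have : IsNoetherianRing (K ⊗[p.ResidueField] p.Fiber C) := isNoetherianRing_tensor_finite _ _ _
  have hT : IsNoetherianRing ((B ⊗[A] K) ⊗[B] C) :=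
    isNoetherianRing_of_ringEquiv (K ⊗[p.ResidueField] p.Fiber C) (eT A B C p K)
  have hff : Module.FaithfullyFlat (B ⊗[A] K) ((B ⊗[A] K) ⊗[B] C) := inferInstance
  have hR : IsNoetherianRing (B ⊗[A] K) :=
    Groth.Agent.H1.RegFlat.isNoetherianRing_of_faithfullyFlat (B ⊗[A] K) ((B ⊗[A] K) ⊗[B] C)
  have hR' : IsNoetherianRing (K ⊗[p.ResidueField] p.Fiber B) :=
    isNoetherianRing_of_ringEquiv (B ⊗[A] K) (eR A B p K).symm
  refine ⟨hR', fun hreg => ?_⟩
  have h1 : IsRegularRing ((B ⊗[A] K) ⊗[B] C) :=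
    IsRegularRing.of_ringEquiv (R := K ⊗[p.ResidueField] p.Fiber C) (eT A B C p K)
  have h2 : IsRegularRing (B ⊗[A] K) :=
    H5.NG.isRegularRing_of_faithfullyFlat (B ⊗[A] K) ((B ⊗[A] K) ⊗[B] C)
  exact IsRegularRing.of_ringEquiv (R := B ⊗[A] K) (eR A B p K).symm

theorem isRegularHom_of_comp_of_faithfullyFlat (A B C : Type u) [CommRing A] [CommRing B]
    [CommRing C] [Algebra A B] [Algebra B C] [Algebra A C] [IsScalarTower A B C]
    (hAC : CAlg.IsRegularHom A C) [Module.FaithfullyFlat B C] : CAlg.IsRegularHom A B := by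
  obtain ⟨hf, h1⟩ := hAC
  refine ⟨Groth.Agent.H3.flat_of_flat_of_faithfullyFlat A B C, fun p _ => ?_⟩
  obtain ⟨hN, hG⟩ := h1 p
  refine ⟨?_, fun K _ _ hfin => ?_⟩
  · have h2 := (descent_aux A B C p p.ResidueField).1
    exact isNoetherianRing_of_ringEquiv (p.ResidueField ⊗[p.ResidueField] p.Fiber B)
      (Algebra.TensorProduct.lid p.ResidueField (p.Fiber B)).toRingEquiv
  · have := hfin
    exact (descent_aux A B C p K).2 (hG K hfin)

end Groth.Agent.H3.RegHomBC
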