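import Mathlib
import Groth.Agent.Lib.Helper3.CA.RegHomBC

/-!
# Regular homomorphisms: transport along isomorphisms, localization (helper3)
-/

set_option autoImplicit false

open TensorProduct

namespace Groth.Agent.H3.RegHomBC

universe u

theorem isRegularHom_of_algEquiv (R S S' : Type u) [CommRing R] [CommRing S] [CommRing S']
    [Algebra R S] [Algebra R S'] (e : S ≃ₐ[R] S') (h : CAlg.IsRegularHom R S) :
    CAlg.IsRegularHom R S' := by
  obtain ⟨hf, h1⟩ := h
  refine ⟨Module.Flat.of_linearEquiv e.symm.toLinearEquiv, fun p _ => ?_⟩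
  obtain ⟨hN, hG⟩ := h1 p
  let ep : p.Fiber S ≃ₐ[p.ResidueField] p.Fiber S' :=
    Algebra.TensorProduct.congr (AlgEquiv.refl : p.ResidueField ≃ₐ[p.ResidueField] p.ResidueField) e
  refine ⟨isNoetherianRing_of_ringEquiv (p.Fiber S) ep.toRingEquiv, fun K _ _ hfin => ?_⟩
  have := hG K hfin
  let eK : K ⊗[p.ResidueField] p.Fiber S ≃ₐ[K] K ⊗[p.ResidueField] p.Fiber S' :=
    Algebra.TensorProduct.congr (AlgEquiv.refl : K ≃ₐ[K] K) ep
  exact IsRegularRing.of_ringEquiv (R := K ⊗[p.ResidueField] p.Fiber S) eK.toRingEquiv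

theorem isRegularHom_baseChange_of_isNoetherianRing (A B A' : Type u) [CommRing A] [CommRing B]
    [CommRing A'] [Algebra A B] [Algebra A A'] [IsNoetherianRing B]
    [IsNoetherianRing (A' ⊗[A] B)] (h : CAlg.IsRegularHom A B) :
    CAlg.IsRegularHom A' (A' ⊗[A] B) := by
  obtain ⟨hf, h1⟩ := h
  refine ⟨inferInstance, fun p' _ => ⟨isNoetherianRing_fiber A' _ p', fun k' _ _ hfin => ?_⟩⟩
  exact geomRegFibres_baseChange A B A' (fun p _ K _ _ hK => (h1 p).2 K hK) p' k' hfin

theorem isRegularHom_localization (A B : Type u) [CommRing A] [CommRing B] [IsNoetherianRing B]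
    [Algebra A B] (h : CAlg.IsRegularHom A B) (S : Submonoid A)
    (A' B' : Type u) [CommRing A'] [CommRing B'] [Algebra A A'] [Algebra B B'] [Algebra A' B']
    [Algebra A B'] [IsScalarTower A A' B'] [IsScalarTower A B B'] [IsLocalization S A']
    [IsLocalization (Algebra.algebraMapSubmonoid B S) B'] :
    CAlg.IsRegularHom A' B' := by
  have h1 : Algebra.IsPushout A B A' B' := Algebra.isPushout_of_isLocalization S A' B B'
  have h2 : Algebra.IsPushout A A' B B' := h1.symm
  let e : A' ⊗[A] B ≃ₐ[A'] B' := Algebra.IsPushout.equiv A A' B B'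
  have : IsNoetherianRing B' :=
    IsLocalization.isNoetherianRing (Algebra.algebraMapSubmonoid B S) B' inferInstance
  have : IsNoetherianRing (A' ⊗[A] B) := isNoetherianRing_of_ringEquiv B' e.symm.toRingEquiv
  exact isRegularHom_of_algEquiv A' (A' ⊗[A] B) B' e
    (isRegularHom_baseChange_of_isNoetherianRing A B A' h)

end Groth.Agent.H3.RegHomBC
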