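import Mathlib
import Groth.Agent.Lib.Helper3.CA.CMDescent
import Groth.Agent.Lib.Helper3.CA.RegHomDesc
import Groth.Agent.Lib.Helper3.CA.RegHomLoc
import Groth.Agent.Lib.Helper3.CA.CplMap
import Groth.Agent.Lib.Helper6.Liai3

/-! Helper3: Cohen–Macaulay fibres: composition with a regular homomorphism, descent along a
faithfully flat map, and formal fibres. -/

set_option autoImplicit false
universe u
open TensorProduct

namespace Groth.Agent.H3.CMFib

open Groth.Agent.H3.RegHomBC Groth.Agent.H6.Liai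

/-- A regular homomorphism with Cohen–Macaulay source and Noetherian target has Cohen–Macaulay
target. -/
theorem cm_of_isRegularHom (R T : Type u) [CommRing R] [CommRing T] [Algebra R T]
    [IsNoetherianRing T] [LocCoh.IsCohenMacaulayRing R] (h : CAlg.IsRegularHom R T) :
    LocCoh.IsCohenMacaulayRing T := by
  have hflat : Module.Flat R T := h.1
  refine Groth.Agent.H1.CMFlat.isCohenMacaulayRing_of_flat_of_fibres (R := R) (S := T) fun P _ => ?_
  obtain ⟨hN, hG⟩ := h.2 P
  have h3 : IsRegularRing (P.ResidueField ⊗[P.ResidueField] P.Fiber T) :=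
    hG P.ResidueField inferInstance
  have h4 : IsRegularRing (P.Fiber T) :=
    IsRegularRing.of_ringEquiv (R := P.ResidueField ⊗[P.ResidueField] P.Fiber T)
      (Algebra.TensorProduct.lid P.ResidueField _).toRingEquiv
  exact Groth.Agent.H1.CMFlat.isCohenMacaulayRing_of_isRegularRing _

section

variable (A B C : Type u) [CommRing A] [CommRing B] [CommRing C]
    [Algebra A B] [Algebra B C] [Algebra A C] [IsScalarTower A B C]

/-- `p.Fiber B ≃ B ⊗[A] κ(p)`. -/
noncomputable def fR (p : Ideal A) [p.IsPrime] : p.Fiber B ≃+* B ⊗[A] p.ResidueField :=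
  (Algebra.TensorProduct.lid p.ResidueField (p.Fiber B)).symm.toRingEquiv.trans
    (eR A B p p.ResidueField)

/-- `p.Fiber C ≃ (B ⊗[A] κ(p)) ⊗[B] C`. -/
noncomputable def fT (p : Ideal A) [p.IsPrime] :
    p.Fiber C ≃+* (B ⊗[A] p.ResidueField) ⊗[B] C :=
  (Algebra.TensorProduct.lid p.ResidueField (p.Fiber C)).symm.toRingEquiv.trans
    (eT A B C p p.ResidueField)

theorem cmFibres_comp [IsNoetherianRing C]
    (hB : ∀ (p : Ideal A) [p.IsPrime], LocCoh.IsCohenMacaulayRing (p.Fiber B))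
    (hBC : CAlg.IsRegularHom B C) (p : Ideal A) [p.IsPrime] :
    LocCoh.IsCohenMacaulayRing (p.Fiber C) := by
  have h1 : LocCoh.IsCohenMacaulayRing (B ⊗[A] p.ResidueField) :=
    cm_of_ringEquiv (hA := hB p) (fR A B p)
  have hNC : IsNoetherianRing (p.Fiber C) := isNoetherianRing_fiber A C p
  have hNT : IsNoetherianRing ((B ⊗[A] p.ResidueField) ⊗[B] C) :=
    isNoetherianRing_of_ringEquiv (p.Fiber C) (fT A B C p)
  have hreg : CAlg.IsRegularHom (B ⊗[A] p.ResidueField) ((B ⊗[A] p.ResidueField) ⊗[B] C) :=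
    isRegularHom_baseChange_of_isNoetherianRing B C (B ⊗[A] p.ResidueField) hBC
  have hflat : Module.Flat (B ⊗[A] p.ResidueField) ((B ⊗[A] p.ResidueField) ⊗[B] C) := hreg.1
  have h2 : LocCoh.IsCohenMacaulayRing ((B ⊗[A] p.ResidueField) ⊗[B] C) :=
    cm_of_isRegularHom (B ⊗[A] p.ResidueField) _ hreg
  exact cm_of_ringEquiv (hA := h2) (fT A B C p).symm

theorem cmFibres_of_comp [IsNoetherianRing B] [Module.FaithfullyFlat B C]
    (hC : ∀ (p : Ideal A) [p.IsPrime], LocCoh.IsCohenMacaulayRing (p.Fiber C))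
    (p : Ideal A) [p.IsPrime] : LocCoh.IsCohenMacaulayRing (p.Fiber B) := by
  have h1 : LocCoh.IsCohenMacaulayRing ((B ⊗[A] p.ResidueField) ⊗[B] C) :=
    cm_of_ringEquiv (hA := hC p) (fT A B C p)
  have hNB : IsNoetherianRing (p.Fiber B) := isNoetherianRing_fiber A B p
  have hNR : IsNoetherianRing (B ⊗[A] p.ResidueField) :=
    isNoetherianRing_of_ringEquiv (p.Fiber B) (fR A B p)
  have hff : Module.FaithfullyFlat (B ⊗[A] p.ResidueField) ((B ⊗[A] p.ResidueField) ⊗[B] C) :=
    inferInstance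
  have h2 : LocCoh.IsCohenMacaulayRing (B ⊗[A] p.ResidueField) :=
    Groth.Agent.H3.CMDesc.isCohenMacaulayRing_of_faithfullyFlat _
      ((B ⊗[A] p.ResidueField) ⊗[B] C)
  exact cm_of_ringEquiv (hA := h2) (fR A B p).symm

end

section

variable (A A' : Type u) [CommRing A] [CommRing A'] [IsNoetherianRing A] [IsNoetherianRing A']
  [IsLocalRing A] [IsLocalRing A'] [Algebra A A'] [IsLocalHom (algebraMap A A')]

theorem hasCMFormalFibres_of_CM_hom [Module.Flat A A']
    (hf : ∀ (p : Ideal A) [p.IsPrime], LocCoh.IsCohenMacaulayRing (p.Fiber A'))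
    (hA' : CAlg.IsRegularHom A' (EGA4.Cpl A')) : EGA4.HasCMFormalFibres A := by
  obtain ⟨_, h1, h3⟩ := Groth.Agent.H3.CplMap.exists_cpl_tower A A'
  have h2 := Groth.Agent.H3.CplMap.isScalarTower_cpl A A'
  have hNS : IsNoetherianRing (EGA4.Cpl A') := Groth.Agent.S0543.result A' _
  have hNR : IsNoetherianRing (EGA4.Cpl A) := Groth.Agent.S0543.result A _
  have hAS : ∀ (p : Ideal A) [p.IsPrime], LocCoh.IsCohenMacaulayRing (p.Fiber (EGA4.Cpl A')) :=
    fun p _ => cmFibres_comp A A' (EGA4.Cpl A') hf hA' p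
  intro p _
  exact cmFibres_of_comp A (EGA4.Cpl A) (EGA4.Cpl A') hAS p

end

end Groth.Agent.H3.CMFib
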