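import Mathlib
import Groth.Agent.Lib.Helper5.EtSrc.Smooth
import Groth.Agent.Lib.Helper1.FFSource

/-!
# Smoothness descends along smooth faithfully flat extensions of the source (helper3)

For `A → B → C` with `B → C` smooth and faithfully flat and `A → C` smooth, `A → B` is smooth.
-/

set_option autoImplicit false
universe u
open TensorProduct MvPolynomial
namespace Groth.Agent.H3.SmoothDescent

open Algebra in
/-- Standard smooth algebras lift along surjections. -/
theorem exists_smooth_lift {R B C : Type u} [CommRing R] [CommRing B] [CommRing C] [Algebra R B]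
    [Algebra B C] [Algebra R C] [IsScalarTower R B C]
    (hsurj : Function.Surjective (algebraMap R B)) [Algebra.IsStandardSmooth B C] :
    ∃ (E : Type u) (_ : CommRing E) (_ : Algebra R E) (_ : Algebra.IsStandardSmooth R E)
      (ψ : E →ₐ[R] C),
      Function.Surjective ψ ∧
        RingHom.ker ψ = (RingHom.ker (algebraMap R B)).map (algebraMap R E) := by
  obtain ⟨ι, σ, _, _, ⟨𝓟⟩⟩ := (‹Algebra.IsStandardSmooth B C›).out
  classical
  have := Fintype.ofFinite σ
  have hmap : Function.Surjective
      (MvPolynomial.map (algebraMap R B) : MvPolynomial ι R → MvPolynomial ι B) :=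
    MvPolynomial.map_surjective _ hsurj
  choose r' hr' using fun j => hmap (𝓟.relation j)
  let 𝒩 : PreSubmersivePresentation R (MvPolynomial ι R ⧸ Ideal.span (Set.range r')) ι σ :=
    PreSubmersivePresentation.naive (v := r') 𝓟.map 𝓟.map_inj
  let E := Localization.Away 𝒩.jacobian
  have hΔ : IsUnit (algebraMap _ E 𝒩.jacobian) := IsLocalization.Away.algebraMap_isUnit _
  let P' : SubmersivePresentation R E _ _ :=
    { toPreSubmersivePresentation := .comp (.localizationAway E 𝒩.jacobian) 𝒩,
      jacobian_isUnit := by simp [Algebra.smul_def, -isUnit_map_iff, hΔ] }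
  have hEt : Algebra.IsStandardSmooth R E := ⟨_, _, inferInstance, inferInstance, ⟨P'⟩⟩
  -- the map to `C`
  let φ : MvPolynomial ι R →ₐ[R] C := MvPolynomial.aeval 𝓟.val
  have hφ : ∀ p, φ p = MvPolynomial.aeval 𝓟.val (MvPolynomial.map (algebraMap R B) p) :=
    fun p => (MvPolynomial.aeval_map_algebraMap B 𝓟.val p).symm
  have hφr : ∀ j, φ (r' j) = 0 := by
    intro j
    rw [hφ, hr']
    exact 𝓟.aeval_val_relation j
  have hφI : ∀ a ∈ Ideal.span (Set.range r'), φ a = 0 := by
    intro a ha
    have : Ideal.span (Set.range r') ≤ RingHom.ker φ := by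
      rw [Ideal.span_le]
      rintro _ ⟨j, rfl⟩
      exact hφr j
    exact this ha
  let ψ₀ : (MvPolynomial ι R ⧸ Ideal.span (Set.range r')) →ₐ[R] C :=
    Ideal.Quotient.liftₐ _ φ hφI
  have hψ₀mk : ∀ x, ψ₀ (Ideal.Quotient.mk _ x) = φ x := fun x => rfl
  have hψ₀Δ : ψ₀ 𝒩.jacobian = 𝓟.jacobian := by
    rw [PreSubmersivePresentation.jacobian_eq_jacobiMatrix_det,
      PreSubmersivePresentation.jacobian_eq_jacobiMatrix_det]
    change ψ₀ (Ideal.Quotient.mk _ 𝒩.jacobiMatrix.det) = _
    rw [hψ₀mk, AlgHom.map_det, Generators.algebraMap_apply, AlgHom.map_det]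
    congr 1
    ext i j
    simp only [AlgHom.mapMatrix_apply, Matrix.map_apply]
    rw [PreSubmersivePresentation.jacobiMatrix_apply, PreSubmersivePresentation.jacobiMatrix_apply,
      hφ, ← MvPolynomial.pderiv_map]
    congr 2
    exact hr' j
  have hunit : IsUnit (ψ₀ 𝒩.jacobian) := by rw [hψ₀Δ]; exact 𝓟.jacobian_isUnit
  let ψ : E →ₐ[R] C := IsLocalization.liftAlgHom (M := Submonoid.powers 𝒩.jacobian) (f := ψ₀)
    (by
      rintro ⟨_, n, rfl⟩
      simpa using hunit.pow n)
  have hψalg : ∀ x, ψ (algebraMap _ E x) = ψ₀ x := fun x => by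
    simp [ψ]
  -- surjectivity
  have hφsurj : Function.Surjective φ := by
    intro c
    obtain ⟨p, hp⟩ := 𝓟.algebraMap_surjective c
    obtain ⟨q, rfl⟩ := hmap p
    refine ⟨q, ?_⟩
    rw [hφ, ← hp, Generators.algebraMap_apply]
  have hψsurj : Function.Surjective ψ := by
    intro c
    obtain ⟨q, rfl⟩ := hφsurj c
    exact ⟨algebraMap _ E (Ideal.Quotient.mk _ q), by rw [hψalg, hψ₀mk]⟩
  refine ⟨E, inferInstance, inferInstance, hEt, ψ, hψsurj, ?_⟩
  -- the kernel
  have hkerφ : RingHom.ker φ = Ideal.span (Set.range r') ⊔
      (RingHom.ker (algebraMap R B)).map (MvPolynomial.C : R →+* MvPolynomial ι R) := by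
    have h1 : RingHom.ker φ = (RingHom.ker (MvPolynomial.aeval (R := B) 𝓟.val)).comap
        (MvPolynomial.map (algebraMap R B) : MvPolynomial ι R →+* MvPolynomial ι B) := by
      ext p
      simp only [RingHom.mem_ker, Ideal.mem_comap]
      rw [hφ]
    have h2 : RingHom.ker (MvPolynomial.aeval (R := B) 𝓟.val) =
        (Ideal.span (Set.range r')).map
          (MvPolynomial.map (algebraMap R B) : MvPolynomial ι R →+* MvPolynomial ι B) := by
      rw [← Generators.ker_eq_ker_aeval_val, ← 𝓟.span_range_relation_eq_ker, Ideal.map_span]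
      congr 1
      ext p
      constructor
      · rintro ⟨j, rfl⟩
        exact ⟨r' j, ⟨j, rfl⟩, hr' j⟩
      · rintro ⟨_, ⟨j, rfl⟩, rfl⟩
        exact ⟨j, (hr' j).symm⟩
    rw [h1, h2, Ideal.comap_map_of_surjective _ hmap, ← RingHom.ker_eq_comap_bot,
      MvPolynomial.ker_map]
  have hkerψ₀ : RingHom.ker ψ₀ = (RingHom.ker (algebraMap R B)).map (algebraMap R _) := by
    have : RingHom.ker ψ₀ = (RingHom.ker φ).map (Ideal.Quotient.mk _) :=
      Ideal.ker_quotient_lift (φ : MvPolynomial ι R →+* C) _
    rw [this, hkerφ, Ideal.map_sup, Ideal.map_quotient_self, bot_sup_eq, Ideal.map_map]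
    rfl
  have hker : RingHom.ker ψ = (RingHom.ker ψ₀).map (algebraMap _ E) := by
    rw [← IsLocalization.map_under (Submonoid.powers 𝒩.jacobian) E (RingHom.ker ψ)]
    congr 1
    ext x
    simp only [Ideal.under, Ideal.mem_comap, RingHom.mem_ker]
    rw [hψalg]
  rw [hker, hkerψ₀, Ideal.map_map, ← IsScalarTower.algebraMap_eq]

open Algebra in
/-- injectivity half of `Algebra.Extension.tensorH1CotangentOfFormallyEtale`, which does not need
the map of extensions to be formally étale -/
theorem injective_liftBaseChange_h1Cotangent_map {R S T : Type u} [CommRing R] [CommRing S]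
    [CommRing T] [Algebra R S] [Algebra R T] [Algebra S T] [IsScalarTower R S T]
    {P : Extension.{u} R S} {Q : Extension.{u} R T} (f : P.Hom Q)
    [alg : Algebra P.Ring Q.Ring] (halg : algebraMap P.Ring Q.Ring = f.toRingHom) [Module.Flat S T]
    (H₂ : Function.Bijective ((f.mapKer halg).liftBaseChange Q.Ring)) :
    Function.Injective ((Extension.H1Cotangent.map f).liftBaseChange T) := by
  rw [injective_iff_map_eq_zero]
  intro x hx
  apply Module.Flat.lTensor_preserves_injective_linearMap _ Extension.h1Cotangentι_injective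
  apply (Extension.tensorCotangent f halg H₂).injective
  simp only [map_zero]
  rw [← Extension.h1Cotangentι.map_zero, ← hx]
  change ((Extension.Cotangent.map f).liftBaseChange T ∘ₗ Extension.h1Cotangentι.baseChange T) x =
    (Extension.h1Cotangentι ∘ₗ _) x
  congr 1
  ext x
  simp

open Algebra in
/-- `H¹(L_{B/A})` dies after base change to a standard smooth `B`-algebra that is formally smooth
over `A`. -/
theorem subsingleton_tensor_h1Cotangent {A B C : Type u} [CommRing A] [CommRing B] [CommRing C]
    [Algebra A B] [Algebra B C] [Algebra A C] [IsScalarTower A B C] [Algebra.IsStandardSmooth B C]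
    [Algebra.FormallySmooth A C] : Subsingleton (C ⊗[B] H1Cotangent A B) := by
  let P : Extension A B := (Generators.self A B).toExtension
  let _ : Algebra P.Ring C := ((algebraMap B C).comp (algebraMap P.Ring B)).toAlgebra
  have : IsScalarTower P.Ring B C := .of_algebraMap_eq' rfl
  obtain ⟨E, _, _, hEs, ψ, hψs, hker⟩ :=
    exists_smooth_lift (R := P.Ring) (B := B) (C := C) P.algebraMap_surjective
  let _ : Algebra A E := ((algebraMap P.Ring E).comp (algebraMap A P.Ring)).toAlgebra
  have : IsScalarTower A P.Ring E := .of_algebraMap_eq' rfl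
  have : IsScalarTower A P.Ring C := .of_algebraMap_eq fun a => by
    rw [IsScalarTower.algebraMap_apply A B C, IsScalarTower.algebraMap_apply A P.Ring B]
    rfl
  let Q : Extension A C := .ofSurjective (ψ.restrictScalars A) hψs
  let f : P.Hom Q :=
    { toRingHom := algebraMap P.Ring E
      toRingHom_algebraMap := fun x => (IsScalarTower.algebraMap_apply A P.Ring E x).symm
      algebraMap_toRingHom := fun x => by
        change ψ (algebraMap P.Ring E x) = _
        rw [ψ.commutes]
        rfl }
  have : FormallySmooth A P.Ring := inferInstanceAs (FormallySmooth A (MvPolynomial B A))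
  have : Algebra.Smooth P.Ring E := inferInstance
  have : FormallySmooth A Q.Ring := FormallySmooth.comp A P.Ring E
  let _ : Algebra P.Ring Q.Ring := (inferInstance : Algebra P.Ring E)
  have hflat : Module.Flat P.Ring Q.Ring := (inferInstance : Module.Flat P.Ring E)
  have H₂ : Function.Bijective ((f.mapKer rfl).liftBaseChange Q.Ring) :=
    Groth.Agent.H5.EtSrc.bijective_liftBaseChange_of_flat (R := P.Ring) (E := Q.Ring) P.ker Q.ker
      hker (f.mapKer rfl) (fun x => rfl)
  have : Module.Flat B C := inferInstance
  have hinj := injective_liftBaseChange_h1Cotangent_map f rfl H₂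
  have : Subsingleton Q.H1Cotangent := (Extension.equivH1CotangentOfFormallySmooth Q).subsingleton
  exact hinj.subsingleton

open Algebra in
/-- `H¹(L_{B/A})` dies after base change to a smooth `B`-algebra that is formally smooth over `A` -/
theorem subsingleton_tensor_h1Cotangent_of_smooth {A B C : Type u} [CommRing A] [CommRing B]
    [CommRing C] [Algebra A B] [Algebra B C] [Algebra A C] [IsScalarTower A B C]
    [Algebra.Smooth B C] [Algebra.FormallySmooth A C] : Subsingleton (C ⊗[B] H1Cotangent A B) := by
  have hloc : RingHom.Locally RingHom.IsStandardSmooth (algebraMap B C) :=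
    (RingHom.smooth_iff_locally_isStandardSmooth (f := algebraMap B C)).mp
      (RingHom.smooth_algebraMap.mpr inferInstance)
  obtain ⟨s, hs, hst⟩ := hloc
  refine ⟨fun x y => ?_⟩
  rw [← sub_eq_zero]
  refine Module.eq_zero_of_isLocalized_span (R := C) s hs
    (fun r => Localization.Away r.1 ⊗[B] H1Cotangent A B)
    (fun r => AlgebraTensorModule.rTensor B (H1Cotangent A B)
      (Algebra.linearMap C (Localization.Away r.1))) (x - y) ?_
  intro r
  have h1 : (algebraMap B (Localization.Away r.1)).IsStandardSmooth := by
    rw [IsScalarTower.algebraMap_eq B C (Localization.Away r.1)]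
    exact hst r.1 r.2
  have h2 : Algebra.IsStandardSmooth B (Localization.Away r.1) :=
    RingHom.isStandardSmooth_algebraMap.mp h1
  have h3 : Algebra.FormallySmooth C (Localization.Away r.1) :=
    Algebra.FormallySmooth.of_isLocalization (Submonoid.powers r.1)
  have h4 : Algebra.FormallySmooth A (Localization.Away r.1) :=
    Algebra.FormallySmooth.comp A C (Localization.Away r.1)
  have := subsingleton_tensor_h1Cotangent (A := A) (B := B) (C := Localization.Away r.1)
  exact Subsingleton.elim _ _

open Algebra KaehlerDifferential in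
/-- the differentials of `B/A` are flat when some faithfully flat formally smooth `B`-algebra is
formally smooth over `A` -/
theorem flat_kaehlerDifferential_of_formallySmooth {A B C : Type u} [CommRing A] [CommRing B]
    [CommRing C] [Algebra A B] [Algebra B C] [Algebra A C] [IsScalarTower A B C]
    [Algebra.FormallySmooth B C] [Module.FaithfullyFlat B C] [Algebra.FormallySmooth A C] :
    Module.Flat B Ω[B⁄A] := by
  have hinj : Function.Injective (mapBaseChange A B C) := by
    rw [injective_iff_map_eq_zero]
    intro x hx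
    obtain ⟨y, rfl⟩ := (H1Cotangent.exact_δ_mapBaseChange A B C x).mp hx
    rw [Subsingleton.elim y 0, map_zero]
  have hex : Function.Exact (mapBaseChange A B C) (map A B C C) := exact_mapBaseChange_map A B C
  obtain ⟨l, hl⟩ := Module.projective_lifting_property (map A B C C) LinearMap.id
    (map_surjective A B C)
  obtain ⟨-, r, hr⟩ := ((hex.split_tfae').out 0 1 rfl rfl).mp ⟨hinj, l, hl⟩
  have h1 : Module.Flat C (C ⊗[B] Ω[B⁄A]) := Module.Flat.of_retract (mapBaseChange A B C) r hr
  exact Module.Flat.of_flat_tensorProduct _ _ C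

/-- **Smoothness descends along smooth faithfully flat extensions of the source.** -/
theorem smooth_of_smooth_of_faithfullyFlat {A B C : Type u} [CommRing A] [CommRing B]
    [CommRing C] [Algebra A B] [Algebra B C] [Algebra A C] [IsScalarTower A B C]
    [Algebra.Smooth B C] [Module.FaithfullyFlat B C] [Algebra.Smooth A C] : Algebra.Smooth A B := by
  have hfp : Algebra.FinitePresentation A B :=
    Groth.Agent.H1.FFSource.finitePresentation_of_faithfullyFlat (R := A) (A := B) (B := C)
  refine ⟨?_, hfp⟩
  rw [Algebra.formallySmooth_iff]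
  constructor
  · have := flat_kaehlerDifferential_of_formallySmooth (A := A) (B := B) (C := C)
    exact Module.Flat.projective_of_finitePresentation
  · have := subsingleton_tensor_h1Cotangent_of_smooth (A := A) (B := B) (C := C)
    exact Module.FaithfullyFlat.lTensor_reflects_triviality B C _

end Groth.Agent.H3.SmoothDescent
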