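import Mathlib

/-! Helper3: local rings of localizations; finite domains with prescribed fraction field. -/

set_option autoImplicit false
universe u
open TensorProduct

namespace Groth.Agent.H3.FFDom

section Loc

variable {T T' : Type u} [CommRing T] [CommRing T'] [Algebra T T'] (M : Submonoid T)
  [IsLocalization M T']

/-- The local ring of a localization `T' = M⁻¹T` at a prime `Q` is the local ring of `T` at the
contraction of `Q`. -/
noncomputable def atPrimeEquivComap (Q : Ideal T') [Q.IsPrime] :
    Localization.AtPrime (Q.comap (algebraMap T T')) ≃+* Localization.AtPrime Q :=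
  have : IsLocalization.AtPrime (Localization.AtPrime Q) (Q.comap (algebraMap T T')) :=
    IsLocalization.isLocalization_isLocalization_atPrime_isLocalization M _ _
  (IsLocalization.algEquiv (Q.comap (algebraMap T T')).primeCompl
    (Localization.AtPrime (Q.comap (algebraMap T T'))) (Localization.AtPrime Q)).toRingEquiv

/-- A prime `q` of `T` disjoint from `M`: its local ring is the local ring of `M⁻¹T` at `qT'`. -/
theorem exists_atPrimeEquivMap (q : Ideal T) [q.IsPrime] (hd : Disjoint (M : Set T) (q : Set T)) :
    ∃ (Q : Ideal T') (_ : Q.IsPrime), Q.comap (algebraMap T T') = q ∧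
      Nonempty (Localization.AtPrime q ≃+* Localization.AtPrime Q) := by
  have hprime : (q.map (algebraMap T T')).IsPrime :=
    IsLocalization.isPrime_of_isPrime_disjoint M _ q inferInstance hd
  have hcomap : (q.map (algebraMap T T')).comap (algebraMap T T') = q :=
    IsLocalization.under_map_of_isPrime_disjoint M _ inferInstance hd
  refine ⟨q.map (algebraMap T T'), hprime, hcomap, ?_⟩
  have h1 : IsLocalization.AtPrime (Localization.AtPrime (q.map (algebraMap T T')))
      ((q.map (algebraMap T T')).comap (algebraMap T T')) :=
    IsLocalization.isLocalization_isLocalization_atPrime_isLocalization M _ _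
  have h2 : IsLocalization.AtPrime (Localization.AtPrime (q.map (algebraMap T T'))) q := by
    convert h1 using 2
    all_goals exact hcomap.symm
  exact ⟨(IsLocalization.algEquiv q.primeCompl (Localization.AtPrime q)
    (Localization.AtPrime (q.map (algebraMap T T')))).toRingEquiv⟩

end Loc

section Dom

/-- A finite sub-`R`-algebra of a finite extension `L` of `K = Frac R` with fraction field `L`. -/
theorem exists_finite_subalgebra_isFractionRing
    (R K L : Type u) [CommRing R] [IsDomain R] [Field K] [Algebra R K] [IsFractionRing R K]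
    [Field L] [Algebra K L] [Algebra R L] [IsScalarTower R K L] [Module.Finite K L] :
    ∃ B : Subalgebra R L, Module.Finite R B ∧ IsFractionRing B L := by
  classical
  obtain ⟨s, hs⟩ := (Module.Finite.fg_top : (⊤ : Submodule K L).FG)
  obtain ⟨y, hy, hint⟩ := exists_integral_multiples R K s
  let B : Subalgebra R L := Algebra.adjoin R ((fun x => y • x) '' (s : Set L))
  have hfin : Module.Finite R B := by
    refine Algebra.finite_adjoin_of_finite_of_isIntegral (s.finite_toSet.image _) ?_
    rintro _ ⟨x, hx, rfl⟩
    exact hint x hx
  refine ⟨B, hfin, ?_⟩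
  -- every element of `L` has a nonzero `R`-multiple in `B`
  have key : ∀ z : L, ∃ r : R, r ≠ 0 ∧ r • z ∈ B := by
    intro z
    have hz : z ∈ Submodule.span K (s : Set L) := by rw [hs]; trivial
    induction hz using Submodule.span_induction with
    | mem x hx => exact ⟨y, hy, Algebra.subset_adjoin ⟨x, hx, rfl⟩⟩
    | zero => exact ⟨1, one_ne_zero, by simp⟩
    | add a b _ _ ha hb =>
      obtain ⟨r1, hr1, h1⟩ := ha
      obtain ⟨r2, hr2, h2⟩ := hb
      refine ⟨r1 * r2, mul_ne_zero hr1 hr2, ?_⟩
      have : (r1 * r2) • (a + b) = r2 • (r1 • a) + r1 • (r2 • b) := by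
        simp only [smul_add, mul_smul]
        rw [smul_comm r1 r2 a]
      rw [this]
      exact B.add_mem (B.smul_mem h1 _) (B.smul_mem h2 _)
    | smul c a _ ha =>
      obtain ⟨r1, hr1, h1⟩ := ha
      obtain ⟨⟨n, d⟩, hnd⟩ := IsLocalization.surj (nonZeroDivisors R) c
      have hd : (d : R) ≠ 0 := nonZeroDivisors.ne_zero d.2
      refine ⟨d * r1, mul_ne_zero hd hr1, ?_⟩
      have : ((d : R) * r1) • (c • a) = n • (r1 • a) := by
        simp only [Algebra.smul_def, IsScalarTower.algebraMap_apply R K L, map_mul]
        simp only at hnd
        rw [← hnd]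
        simp only [map_mul]
        ring
      rw [this]
      exact B.smul_mem h1 _
  refine IsFractionRing.of_field (R := B) (K := L) fun z => ?_
  obtain ⟨r, hr, hrz⟩ := key z
  refine ⟨⟨r • z, hrz⟩, algebraMap R B r, ?_⟩
  have h1 : algebraMap (↥B) L (algebraMap R (↥B) r) = algebraMap R L r := rfl
  have h2 : algebraMap R L r ≠ 0 := by
    rw [IsScalarTower.algebraMap_apply R K L]
    intro h
    have h3 := (map_eq_zero (algebraMap K L)).mp h
    exact hr ((IsFractionRing.injective R K) (h3.trans (map_zero _).symm))
  rw [h1]
  change z = r • z / _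
  rw [Algebra.smul_def, mul_div_cancel_left₀ _ h2]

end Dom

end Groth.Agent.H3.FFDom
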