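import Mathlib
import Groth.Prelude.Def_EGA4b
import Groth.Agent.Lib.Helper8.Japanese.NormalLocus
import Groth.Agent.Lib.Helper3.CA.FFDom1
import Groth.Agent.Lib.Helper7.Reg1
import Groth.Agent.Lib.Helper1.RegNormal

/-! Helper3: openness of the normal locus of a Noetherian ring (reduction to the domain case). -/

set_option autoImplicit false
universe u

namespace Groth.Agent.H3.NorLoc

open Groth.Agent.H3.FFDom

/-- If `A_p` is a domain (`A` Noetherian), then `A_g` is a domain for some `g ∉ p`. -/
theorem exists_away_isDomain (A : Type u) [CommRing A] [IsNoetherianRing A] (p : Ideal A)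
    [p.IsPrime] (h : IsDomain (Localization.AtPrime p)) :
    ∃ g, g ∉ p ∧ IsDomain (Localization.Away g) := by
  classical
  set I : Ideal A := RingHom.ker (algebraMap A (Localization.AtPrime p)) with hI
  have hfg : I.FG := IsNoetherian.noetherian I
  obtain ⟨s, hs⟩ := hfg
  have hkill : ∀ a ∈ I, ∃ m : p.primeCompl, (m : A) * a = 0 := by
    intro a ha
    rw [hI, RingHom.mem_ker, IsLocalization.map_eq_zero_iff p.primeCompl] at ha
    exact ha
  have hs' : ∀ a ∈ s, a ∈ I := fun a ha => hs ▸ Ideal.subset_span ha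
  choose! m hm using hkill
  set g : A := ∏ a ∈ s, (m a : A) with hg
  have hgp : g ∉ p := by
    have : g ∈ p.primeCompl := by
      rw [hg]
      exact Submonoid.prod_mem _ (fun a _ => (m a).2)
    exact this
  have hgI : ∀ a ∈ I, g * a = 0 := by
    intro a ha
    rw [← hs] at ha
    induction ha using Submodule.span_induction with
    | mem x hx =>
      rw [hg, ← Finset.mul_prod_erase s _ hx, mul_comm (m x : A), mul_assoc, hm x (hs' x hx),
        mul_zero]
    | zero => simp
    | add x y _ _ hx hy => rw [mul_add, hx, hy, add_zero]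
    | smul c x _ hx => rw [smul_eq_mul, mul_left_comm, hx, mul_zero]
  refine ⟨g, hgp, ?_⟩
  have hunit : IsUnit (algebraMap A (Localization.AtPrime p) g) :=
    IsLocalization.map_units (M := p.primeCompl) (Localization.AtPrime p) ⟨g, hgp⟩
  let φ : Localization.Away g →+* Localization.AtPrime p := IsLocalization.Away.lift g hunit
  have hφ : Function.Injective φ := by
    rw [injective_iff_map_eq_zero]
    intro x hx
    obtain ⟨a, ⟨_, n, rfl⟩, rfl⟩ := IsLocalization.exists_mk'_eq (Submonoid.powers g) x
    have h1 : φ (algebraMap A _ a) = 0 := by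
      have := IsLocalization.mk'_spec (Localization.Away g) a (⟨g ^ n, n, rfl⟩ : Submonoid.powers g)
      rw [← this, map_mul, hx, zero_mul]
    have h2 : algebraMap A (Localization.AtPrime p) a = 0 := by
      rw [← h1]
      exact (IsLocalization.Away.lift_eq g hunit a).symm
    have h3 : a ∈ I := h2
    rw [IsLocalization.mk'_eq_zero_iff]
    exact ⟨⟨g, 1, pow_one g⟩, hgI a h3⟩
  exact hφ.isDomain φ

/-- Normality of the local ring transfers between `T` and a localization `T'`. -/
theorem nor_iff_comap {T T' : Type u} [CommRing T] [CommRing T'] [Algebra T T'] (M : Submonoid T)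
    [IsLocalization M T'] (Q : Ideal T') [Q.IsPrime] :
    (IsDomain (Localization.AtPrime (Q.comap (algebraMap T T'))) ∧
      IsIntegrallyClosed (Localization.AtPrime (Q.comap (algebraMap T T')))) ↔
    (IsDomain (Localization.AtPrime Q) ∧ IsIntegrallyClosed (Localization.AtPrime Q)) := by
  let e := atPrimeEquivComap M Q
  constructor
  · rintro ⟨h1, h2⟩
    exact ⟨MulEquiv.isDomain _ e.symm.toMulEquiv, IsIntegrallyClosed.of_equiv e⟩
  · rintro ⟨h1, h2⟩
    exact ⟨MulEquiv.isDomain _ e.toMulEquiv, IsIntegrallyClosed.of_equiv e.symm⟩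


/-- Key lemma: if an open subset `U` of the normal locus contains all minimal primes lying in the
normal locus, then every point of the normal locus has an open neighbourhood in the normal locus. -/
theorem exists_open_nhd (A : Type u) [CommRing A] [IsNoetherianRing A] (p : PrimeSpectrum A)
    (hp : p ∈ EGA4.norLocus A) (U : Set (PrimeSpectrum A)) (hU : IsOpen U)
    (hUN : U ⊆ EGA4.norLocus A)
    (hmin : ∀ q : PrimeSpectrum A, q.asIdeal ∈ minimalPrimes A → q ∈ EGA4.norLocus A → q ∈ U) :
    ∃ V : Set (PrimeSpectrum A), IsOpen V ∧ p ∈ V ∧ V ⊆ EGA4.norLocus A := by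
  obtain ⟨g, hgp, hdom⟩ := exists_away_isDomain A p.asIdeal hp.1
  set B := Localization.Away g with hB
  have hNB : IsNoetherianRing B :=
    IsLocalization.isNoetherianRing (Submonoid.powers g) B inferInstance
  have hemb := PrimeSpectrum.localization_away_isOpenEmbedding B g
  set e := PrimeSpectrum.comap (algebraMap A B) with he
  have hrange : Set.range e = (PrimeSpectrum.basicOpen g : Set (PrimeSpectrum A)) :=
    PrimeSpectrum.localization_away_comap_range B g
  -- transfer of normality
  have htr : ∀ Q : PrimeSpectrum B, e Q ∈ EGA4.norLocus A ↔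
      (IsDomain (Localization.AtPrime Q.asIdeal) ∧
        IsIntegrallyClosed (Localization.AtPrime Q.asIdeal)) := fun Q =>
    nor_iff_comap (Submonoid.powers g) Q.asIdeal
  -- the point of `Spec B` over `p`
  obtain ⟨P, hP⟩ : p ∈ Set.range e := by
    rw [hrange]; exact hgp
  have hPnor : IsIntegrallyClosed (Localization.AtPrime P.asIdeal) := by
    have := (htr P).mp (hP ▸ hp)
    exact this.2
  -- the generic point
  let η : PrimeSpectrum B := ⟨⊥, Ideal.isPrime_bot⟩
  have hηnor : e η ∈ EGA4.norLocus A := by
    rw [htr]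
    refine ⟨inferInstance, ?_⟩
    exact Groth.Agent.H8.Jap.isIntegrallyClosed_atPrime_of_le (p := P.asIdeal) (q := η.asIdeal)
      bot_le hPnor
  have hηmin : (e η).asIdeal ∈ minimalPrimes A := by
    rw [minimalPrimes_eq_minimals]
    refine ⟨(e η).isPrime, ?_⟩
    intro q' hq'prime hle
    -- `g ∉ q'`
    have hg_not : g ∉ (e η).asIdeal := by
      intro hg
      have h0 : algebraMap A B g = 0 := hg
      have hu : IsUnit (algebraMap A B g) :=
        IsLocalization.map_units (M := Submonoid.powers g) B ⟨g, 1, pow_one g⟩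
      rw [h0] at hu
      exact not_isUnit_zero hu
    have hdisj : Disjoint (Submonoid.powers g : Set A) (q' : Set A) := by
      rw [Set.disjoint_left]
      rintro x ⟨n, rfl⟩ hx
      exact hg_not (hle (hq'prime.mem_of_pow_mem n hx))
    have hcomap : (q'.map (algebraMap A B)).comap (algebraMap A B) = q' :=
      IsLocalization.under_map_of_isPrime_disjoint (Submonoid.powers g) B hq'prime hdisj
    have hmap_le : q'.map (algebraMap A B) ≤ ⊥ := by
      rw [Ideal.map_le_iff_le_comap]
      exact hle
    intro x hx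
    have : q'.map (algebraMap A B) = ⊥ := le_bot_iff.mp hmap_le
    rw [← hcomap, this]
    exact hx
  have hηU : e η ∈ U := hmin (e η) hηmin hηnor
  -- a basic open around the generic point inside `e ⁻¹' U`
  have hU' : IsOpen (e ⁻¹' U) := hU.preimage hemb.continuous
  obtain ⟨_, ⟨f, rfl⟩, hfη, hfU⟩ :=
    PrimeSpectrum.isTopologicalBasis_basic_opens.exists_subset_of_mem_open
      (show η ∈ e ⁻¹' U from hηU) hU'
  have hf0 : f ≠ 0 := by
    intro h0
    apply hfη
    show f ∈ (⊥ : Ideal B)
    rw [h0]; exact Ideal.zero_mem _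
  -- `B_f` is integrally closed
  have hn : IsIntegrallyClosed (Localization.Away f) := by
    have : IsDomain (Localization.Away f) :=
      IsLocalization.isDomain_localization (powers_le_nonZeroDivisors_of_noZeroDivisors hf0)
    refine IsIntegrallyClosed.of_localization_maximal fun M _ hM => ?_
    have hMp : M.IsPrime := hM.isPrime
    set Q : Ideal B := M.comap (algebraMap B (Localization.Away f)) with hQ
    have hQf : (⟨Q, inferInstance⟩ : PrimeSpectrum B) ∈
        (PrimeSpectrum.basicOpen f : Set (PrimeSpectrum B)) := by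
      show f ∉ Q
      intro hfQ
      have hu : IsUnit (algebraMap B (Localization.Away f) f) :=
        IsLocalization.map_units (M := Submonoid.powers f) _ ⟨f, 1, pow_one f⟩
      exact hMp.ne_top (Ideal.eq_top_of_isUnit_mem _ hfQ hu)
    have h1 : e ⟨Q, inferInstance⟩ ∈ EGA4.norLocus A := hUN (hfU hQf)
    rw [htr] at h1
    exact ((nor_iff_comap (Submonoid.powers f) M).mp h1).2
  have hW := Groth.Agent.H8.Jap.isOpen_normalLocus f hf0 hn
  refine ⟨e '' {Q : PrimeSpectrum B | IsIntegrallyClosed (Localization.AtPrime Q.asIdeal)},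
    hemb.isOpenMap _ hW, ⟨P, hPnor, hP⟩, ?_⟩
  rintro _ ⟨Q, hQ, rfl⟩
  rw [htr]
  exact ⟨inferInstance, hQ⟩

theorem isOpen_norLocus_of_cover (A : Type u) [CommRing A] [IsNoetherianRing A]
    (U : Set (PrimeSpectrum A)) (hU : IsOpen U) (hUN : U ⊆ EGA4.norLocus A)
    (hmin : ∀ q : PrimeSpectrum A, q.asIdeal ∈ minimalPrimes A → q ∈ EGA4.norLocus A → q ∈ U) :
    IsOpen (EGA4.norLocus A) := by
  rw [isOpen_iff_forall_mem_open]
  intro p hp
  obtain ⟨V, hV, hpV, hVN⟩ := exists_open_nhd A p hp U hU hUN hmin
  exact ⟨V, hVN, hV, hpV⟩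

/-- regular locus open ⇒ normal locus open -/
theorem isOpen_norLocus_of_isOpen_regLocus (A : Type u) [CommRing A] [IsNoetherianRing A]
    (h : IsOpen (EGA4.regLocus A)) : IsOpen (EGA4.norLocus A) := by
  refine isOpen_norLocus_of_cover A (EGA4.regLocus A) h ?_ ?_
  · intro q hq
    have : IsRegularLocalRing (Localization.AtPrime q.asIdeal) := hq
    exact ⟨Groth.Agent.H7.Reg.isDomain _, Groth.Agent.H1.Reg.isIntegrallyClosed _⟩
  · intro q hqmin hq
    have hdom : IsDomain (Localization.AtPrime q.asIdeal) := hq.1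
    have hdim : Ring.KrullDimLE 0 (Localization.AtPrime q.asIdeal) := by
      rw [Ring.krullDimLE_iff, IsLocalization.AtPrime.ringKrullDim_eq_height q.asIdeal]
      have : q.asIdeal.height = 0 := Ideal.height_eq_zero_iff.mpr hqmin
      rw [this]; rfl
    have hfield : IsField (Localization.AtPrime q.asIdeal) := Ring.KrullDimLE.isField_of_isDomain
    have : IsPrincipalIdealRing (Localization.AtPrime q.asIdeal) := hfield.isPrincipalIdealRing
    show IsRegularLocalRing (Localization.AtPrime q.asIdeal)
    infer_instance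

/-- Nagata-type criterion at the generic points. -/
theorem isOpen_norLocus_iff_generic_points (A : Type u) [CommRing A] [IsNoetherianRing A] :
    IsOpen (EGA4.norLocus A) ↔
      ∀ p : PrimeSpectrum A, p.asIdeal ∈ minimalPrimes A → p ∈ EGA4.norLocus A →
        ∃ U : Set (PrimeSpectrum A), IsOpen U ∧ p ∈ U ∧ U ⊆ EGA4.norLocus A := by
  constructor
  · intro h p _ hp
    exact ⟨_, h, hp, subset_rfl⟩
  · intro h
    refine isOpen_norLocus_of_cover A
      (⋃ (U : Set (PrimeSpectrum A)) (_ : IsOpen U ∧ U ⊆ EGA4.norLocus A), U) ?_ ?_ ?_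
    · exact isOpen_biUnion fun U hU => hU.1
    · intro x hx
      simp only [Set.mem_iUnion] at hx
      obtain ⟨U, ⟨_, hUN⟩, hxU⟩ := hx
      exact hUN hxU
    · intro q hqmin hq
      obtain ⟨U, hU, hqU, hUN⟩ := h q hqmin hq
      simp only [Set.mem_iUnion]
      exact ⟨U, ⟨hU, hUN⟩, hqU⟩

end Groth.Agent.H3.NorLoc
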