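import Mathlib
import Groth.Prelude.Def_EGA4b
import Groth.Agent.Lib.Helper3.CA.NorLocus

/-! Helper3: a localization of a geometrically normal algebra is geometrically normal. -/

set_option autoImplicit false
universe u
open TensorProduct

namespace Groth.Agent.H3.NorLoc

/-- A localization of a normal ring is normal. -/
theorem isNormalRing_of_isLocalization {T T' : Type u} [CommRing T] [CommRing T'] [Algebra T T']
    (M : Submonoid T) [IsLocalization M T'] (h : EGA4.IsNormalRing T) : EGA4.IsNormalRing T' := by
  intro Q _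
  exact (nor_iff_comap M Q).mp (h (Q.comap (algebraMap T T')))

theorem isGeomNormal_of_isLocalization (k : Type u) [Field k] (A : Type u) [CommRing A]
    [Algebra k A] (M : Submonoid A) (B : Type u) [CommRing B] [Algebra A B] [IsLocalization M B]
    [Algebra k B] [IsScalarTower k A B] (h : EGA4.IsGeomNormal k A) :
    EGA4.IsGeomNormal k B := by
  intro k' _ _ hfin
  have hT := h k' hfin
  let φ : k' ⊗[k] A →ₐ[k'] k' ⊗[k] B :=
    Algebra.TensorProduct.map (AlgHom.id k' k') (IsScalarTower.toAlgHom k A B)
  let _ : Algebra (k' ⊗[k] A) (k' ⊗[k] B) := φ.toRingHom.toAlgebra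
  have hmap : ∀ x, algebraMap (k' ⊗[k] A) (k' ⊗[k] B) x = φ x := fun _ => rfl
  have : IsScalarTower k' (k' ⊗[k] A) (k' ⊗[k] B) :=
    IsScalarTower.of_algebraMap_eq (fun s => by
      rw [hmap]; exact (φ.commutes s).symm)
  have H : (algebraMap (k' ⊗[k] A) (k' ⊗[k] B)).comp
      (Algebra.TensorProduct.includeRight : A →ₐ[k] k' ⊗[k] A).toRingHom =
      (Algebra.TensorProduct.includeRight : B →ₐ[k] k' ⊗[k] B).toRingHom.comp (algebraMap A B) := by
    ext x
    simp [hmap, φ]
  have hloc := IsLocalization.tensorProduct_tensorProduct_right k k' M B H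
  exact isNormalRing_of_isLocalization
    (M.map (Algebra.TensorProduct.includeRight (R := k) (A := k'))) hT

end Groth.Agent.H3.NorLoc
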