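import Mathlib
import Groth.Agent.Lib.Helper8.NormalHomBC
import Groth.Agent.Lib.Helper8.ReducedHomComp

/-!
# Normal homomorphisms and geometrically reduced fibres under localization (helper3)
-/

set_option autoImplicit false

open TensorProduct

namespace Groth.Agent.H3.NormHomLoc

universe u

open Groth.Agent.H8.GNorm Groth.Agent.H8.NHB Groth.Agent.H8.NHC

theorem isNormalHom_of_algEquiv (R S S' : Type u) [CommRing R] [CommRing S] [CommRing S']
    [Algebra R S] [Algebra R S'] (e : S ≃ₐ[R] S') (h : EGA4.IsNormalHom R S) :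
    EGA4.IsNormalHom R S' := by
  obtain ⟨hf, h1⟩ := h
  refine ⟨Module.Flat.of_linearEquiv e.symm.toLinearEquiv, fun p _ K _ _ hfin => ?_⟩
  let ep : p.Fiber S ≃ₐ[p.ResidueField] p.Fiber S' :=
    Algebra.TensorProduct.congr (AlgEquiv.refl : p.ResidueField ≃ₐ[p.ResidueField] p.ResidueField) e
  let eK : K ⊗[p.ResidueField] p.Fiber S ≃ₐ[K] K ⊗[p.ResidueField] p.Fiber S' :=
    Algebra.TensorProduct.congr (AlgEquiv.refl : K ≃ₐ[K] K) ep
  exact NormalLoc.of_ringEquiv eK.toRingEquiv (h1 p K hfin)

theorem isNormalHom_localization (A B : Type u) [CommRing A] [CommRing B]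
    [Algebra A B] (h : EGA4.IsNormalHom A B) (S : Submonoid A)
    (A' B' : Type u) [CommRing A'] [CommRing B'] [Algebra A A'] [Algebra B B'] [Algebra A' B']
    [Algebra A B'] [IsScalarTower A A' B'] [IsScalarTower A B B'] [IsLocalization S A']
    [IsLocalization (Algebra.algebraMapSubmonoid B S) B'] :
    EGA4.IsNormalHom A' B' := by
  have h1 : Algebra.IsPushout A B A' B' := Algebra.isPushout_of_isLocalization S A' B B'
  have h2 : Algebra.IsPushout A A' B B' := h1.symm
  let e : A' ⊗[A] B ≃ₐ[A'] B' := Algebra.IsPushout.equiv A A' B B'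
  obtain ⟨hf, hfib⟩ := h
  have h3 : EGA4.IsNormalHom A' (A' ⊗[A] B) :=
    ⟨inferInstance, fun p' _ k' _ _ hfin =>
      geomNormalFibres_baseChange A B A' (fun p _ k' _ _ hfin => hfib p k' hfin) p' k' hfin⟩
  exact isNormalHom_of_algEquiv A' (A' ⊗[A] B) B' e h3

open Groth.Agent.H8.RHC

theorem geomReducedFibres_baseChange (A B A' : Type u) [CommRing A] [CommRing B] [CommRing A']
    [Algebra A B] [Algebra A A'] (h : GeomReducedFibres A B) :
    GeomReducedFibres A' (A' ⊗[A] B) := by
  intro p' _
  refine isGeometricallyReduced_of_forall_field _ _ fun K _ _ => ?_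
  let _ : Algebra A' K :=
    ((algebraMap p'.ResidueField K).comp (algebraMap A' p'.ResidueField)).toAlgebra
  have : IsScalarTower A' p'.ResidueField K := IsScalarTower.of_algebraMap_eq fun _ => rfl
  let _ : Algebra A K := ((algebraMap A' K).comp (algebraMap A A')).toAlgebra
  have : IsScalarTower A A' K := IsScalarTower.of_algebraMap_eq fun _ => rfl
  have := isReduced_tensor_field_of_geomReduced A B h K
  exact isReduced_of_injective (isoBC A B A' p' K).toRingHom (isoBC A B A' p' K).injective

theorem geomReducedFibres_of_algEquiv (R S S' : Type u) [CommRing R] [CommRing S] [CommRing S']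
    [Algebra R S] [Algebra R S'] (e : S ≃ₐ[R] S') (h : GeomReducedFibres R S) :
    GeomReducedFibres R S' := by
  intro p _
  have := h p
  let ep : p.Fiber S' ≃ₐ[p.ResidueField] p.Fiber S :=
    Algebra.TensorProduct.congr (AlgEquiv.refl : p.ResidueField ≃ₐ[p.ResidueField] p.ResidueField)
      e.symm
  exact Algebra.IsGeometricallyReduced.of_injective ep.toAlgHom ep.injective

theorem geomReducedFibres_localization (A B : Type u) [CommRing A] [CommRing B]
    [Algebra A B] [Module.Flat A B] (h : GeomReducedFibres A B) (S : Submonoid A)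
    (A' B' : Type u) [CommRing A'] [CommRing B'] [Algebra A A'] [Algebra B B'] [Algebra A' B']
    [Algebra A B'] [IsScalarTower A A' B'] [IsScalarTower A B B'] [IsLocalization S A']
    [IsLocalization (Algebra.algebraMapSubmonoid B S) B'] :
    Module.Flat A' B' ∧ GeomReducedFibres A' B' := by
  have h1 : Algebra.IsPushout A B A' B' := Algebra.isPushout_of_isLocalization S A' B B'
  have h2 : Algebra.IsPushout A A' B B' := h1.symm
  let e : A' ⊗[A] B ≃ₐ[A'] B' := Algebra.IsPushout.equiv A A' B B'
  exact ⟨Module.Flat.of_linearEquiv e.symm.toLinearEquiv,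
    geomReducedFibres_of_algEquiv A' (A' ⊗[A] B) B' e (geomReducedFibres_baseChange A B A' h)⟩

end Groth.Agent.H3.NormHomLoc
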