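import Mathlib
import Groth.Prelude.Def_EGA4b
import Groth.Agent.Lib.Helper2.CAway
import Groth.Agent.Lib.Helper8.Japanese.ComplRed8

/-!
# A criterion for an isomorphism of completions of Noetherian local rings

If `φ : B → L` is a local homomorphism of Noetherian local rings inducing bijections
`B/𝔪_B^n → L/𝔪_L^n` for all `n`, then the completions of `B` and `L` are isomorphic.
-/

set_option autoImplicit false
universe u

open IsLocalRing

namespace Groth.Agent.H3.CplQuot

section Facts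

variable (L : Type*) [CommRing L] [IsLocalRing L] [IsNoetherianRing L]

/-- `ℓ ∈ 𝔪_L^n` iff its image in the completion lies in the `n`-th power of the maximal ideal. -/
theorem algebraMap_mem_pow_iff (n : ℕ) (ℓ : L) :
    algebraMap L (AdicCompletion (maximalIdeal L) L) ℓ ∈
      maximalIdeal (AdicCompletion (maximalIdeal L) L) ^ n ↔ ℓ ∈ maximalIdeal L ^ n := by
  rw [AdicCompletion.maximalIdeal_eq_map,
    ← H2.CAway.ker_evalₐ_eq_map (maximalIdeal L) (IsNoetherian.noetherian _) n, RingHom.mem_ker]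
  change AdicCompletion.evalₐ (maximalIdeal L) n (algebraMap L _ ℓ) = 0 ↔ _
  rw [show algebraMap L (AdicCompletion (maximalIdeal L) L) ℓ =
      AdicCompletion.of (maximalIdeal L) L ℓ from rfl, AdicCompletion.evalₐ_of,
    Ideal.Quotient.eq_zero_iff_mem]

/-- `L` is dense in its completion. -/
theorem exists_sub_mem_pow (n : ℕ) (d : AdicCompletion (maximalIdeal L) L) :
    ∃ ℓ : L, d - algebraMap L (AdicCompletion (maximalIdeal L) L) ℓ ∈
      maximalIdeal (AdicCompletion (maximalIdeal L) L) ^ n := by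
  obtain ⟨ℓ, hℓ⟩ := Ideal.Quotient.mk_surjective (AdicCompletion.evalₐ (maximalIdeal L) n d)
  refine ⟨ℓ, ?_⟩
  rw [AdicCompletion.maximalIdeal_eq_map,
    ← H2.CAway.ker_evalₐ_eq_map (maximalIdeal L) (IsNoetherian.noetherian _) n, RingHom.mem_ker]
  change AdicCompletion.evalₐ (maximalIdeal L) n (d - algebraMap L _ ℓ) = 0
  rw [map_sub, show algebraMap L (AdicCompletion (maximalIdeal L) L) ℓ =
      AdicCompletion.of (maximalIdeal L) L ℓ from rfl, AdicCompletion.evalₐ_of, hℓ, sub_self]

end Facts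

/-- Criterion for an isomorphism of completions. -/
theorem nonempty_cplEquiv (B L : Type u) [CommRing B] [IsLocalRing B] [IsNoetherianRing B]
    [CommRing L] [IsLocalRing L] [IsNoetherianRing L] (φ : B →+* L)
    (hloc : (maximalIdeal B).map φ ≤ maximalIdeal L)
    (hinj : ∀ (n : ℕ) (b : B), φ b ∈ maximalIdeal L ^ n → b ∈ maximalIdeal B ^ n)
    (hsurj : ∀ (n : ℕ) (ℓ : L), ∃ b : B, ℓ - φ b ∈ maximalIdeal L ^ n) :
    Nonempty (EGA4.Cpl B ≃+* EGA4.Cpl L) := by
  let D := AdicCompletion (maximalIdeal L) L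
  let g : B →+* D := (algebraMap L D).comp φ
  have h1 : ∀ n, maximalIdeal B ^ (1 * n) ≤ (maximalIdeal D ^ n).comap g := by
    intro n b hb
    rw [one_mul] at hb
    rw [Ideal.mem_comap]
    change algebraMap L D (φ b) ∈ _
    rw [algebraMap_mem_pow_iff]
    have : φ b ∈ ((maximalIdeal B) ^ n).map φ := Ideal.mem_map_of_mem φ hb
    rw [Ideal.map_pow] at this
    exact Ideal.pow_right_mono hloc n this
  have h2 : ∀ n, (maximalIdeal D ^ n).comap g ≤ maximalIdeal B ^ n := by
    intro n b hb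
    rw [Ideal.mem_comap] at hb
    change algebraMap L D (φ b) ∈ _ at hb
    rw [algebraMap_mem_pow_iff] at hb
    exact hinj n b hb
  have h3 : ∀ (n : ℕ) (d : D), ∃ b : B, d - g b ∈ maximalIdeal D ^ n := by
    intro n d
    obtain ⟨ℓ, hℓ⟩ := exists_sub_mem_pow L n d
    obtain ⟨b, hb⟩ := hsurj n ℓ
    refine ⟨b, ?_⟩
    have h2 : algebraMap L D (ℓ - φ b) ∈ maximalIdeal D ^ n :=
      (algebraMap_mem_pow_iff L n _).mpr hb
    have : d - g b = (d - algebraMap L D ℓ) + algebraMap L D (ℓ - φ b) := by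
      simp only [g, RingHom.comp_apply, map_sub]; ring
    rw [this]
    exact Ideal.add_mem _ hℓ h2
  obtain ⟨ψ, hψ⟩ := H8.Jap.ComplRed.exists_bijective_ringHom g (maximalIdeal B)
    (maximalIdeal D) 1 le_rfl h1 h2 h3
  exact ⟨RingEquiv.ofBijective ψ hψ⟩

end Groth.Agent.H3.CplQuot
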