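import Mathlib
import Groth.Prelude.Def_EGA4b
import Groth.Agent.S0543
import Groth.Agent.Lib.Helper3.CA.CplQuot

/-!
# The map of completions induced by a flat local homomorphism `A → L` with `𝔪_A L = 𝔪_L` and
trivial residue field extension is bijective (helper3)
-/

set_option autoImplicit false
universe u

open IsLocalRing

namespace Groth.Agent.H3.CplBij

section Aux

variable {A L : Type u} [CommRing A] [CommRing L] [IsLocalRing L] (φ : A →+* L)

/-- Elements of `J L` are congruent to elements of `φ(J)` modulo `J L · 𝔪_L`, when `A → L/𝔪_L`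
is surjective. -/
theorem exists_sub_mem_mul (hres : ∀ ℓ : L, ∃ a : A, ℓ - φ a ∈ maximalIdeal L)
    (J : Ideal A) (x : L) (hx : x ∈ J.map φ) :
    ∃ a ∈ J, x - φ a ∈ J.map φ * maximalIdeal L := by
  unfold Ideal.map at hx
  induction hx using Submodule.span_induction with
  | mem x hx =>
    obtain ⟨c, hc, rfl⟩ := hx
    exact ⟨c, hc, by simp⟩
  | zero => exact ⟨0, J.zero_mem, by simp⟩
  | add x y _ _ hx hy =>
    obtain ⟨a1, h1, h1'⟩ := hx
    obtain ⟨a2, h2, h2'⟩ := hy
    refine ⟨a1 + a2, J.add_mem h1 h2, ?_⟩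
    have : x + y - φ (a1 + a2) = (x - φ a1) + (y - φ a2) := by rw [map_add]; ring
    rw [this]
    exact Ideal.add_mem _ h1' h2'
  | smul r x _ hx =>
    obtain ⟨a, ha, ha'⟩ := hx
    obtain ⟨b, hb⟩ := hres r
    refine ⟨b * a, J.mul_mem_left b ha, ?_⟩
    have h3 : r • x - φ (b * a) =
        φ b * (x - φ a) + φ a * (r - φ b) + (r - φ b) * (x - φ a) := by
      rw [map_mul, smul_eq_mul]; ring
    rw [h3]
    refine Ideal.add_mem _ (Ideal.add_mem _ (Ideal.mul_mem_left _ _ ha') ?_)
      (Ideal.mul_mem_left _ _ ha')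
    exact Ideal.mul_mem_mul (Ideal.mem_map_of_mem φ ha) hb

end Aux

variable (A L : Type u) [CommRing A] [CommRing L] [IsLocalRing A] [IsLocalRing L]
  [IsNoetherianRing A] [IsNoetherianRing L] [Algebra A L]

section

variable (hm : (maximalIdeal A).map (algebraMap A L) = maximalIdeal L)
include hm

theorem map_pow_eq (n : ℕ) : (maximalIdeal A ^ n).map (algebraMap A L) = maximalIdeal L ^ n := by
  rw [Ideal.map_pow, hm]

/-- density of `A` in `L` for the `𝔪_L`-adic topology -/
theorem exists_sub_mem_pow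
    (hres : ∀ ℓ : L, ∃ a : A, ℓ - algebraMap A L a ∈ maximalIdeal L) (n : ℕ) (ℓ : L) :
    ∃ a : A, ℓ - algebraMap A L a ∈ maximalIdeal L ^ n := by
  induction n with
  | zero => exact ⟨0, by simp⟩
  | succ n ih =>
    obtain ⟨a, ha⟩ := ih
    rw [← map_pow_eq A L hm n] at ha
    obtain ⟨c, _, hc'⟩ := exists_sub_mem_mul (algebraMap A L) hres _ _ ha
    refine ⟨a + c, ?_⟩
    have : ℓ - algebraMap A L (a + c) = ℓ - algebraMap A L a - algebraMap A L c := by
      rw [map_add]; ring
    rw [this, pow_succ, ← map_pow_eq A L hm n]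
    exact hc'

theorem mem_pow_of_algebraMap_mem [Module.Flat A L] [IsLocalHom (algebraMap A L)] (n : ℕ) (a : A)
    (h : algebraMap A L a ∈ maximalIdeal L ^ n) : a ∈ maximalIdeal A ^ n := by
  have : Module.FaithfullyFlat A L := Module.FaithfullyFlat.of_flat_of_isLocalHom
  rw [← map_pow_eq A L hm n] at h
  have := Ideal.comap_map_eq_self_of_faithfullyFlat (A := A) (B := L) (maximalIdeal A ^ n)
  rw [← this]
  exact h

end

section Eval

/-- an element of the completion whose `n`-th component is `a` is congruent to `a` modulo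
`𝔪^n` -/
theorem sub_mem_pow_of_evalₐ_eq (n : ℕ) (x : AdicCompletion (maximalIdeal A) A) (a : A)
    (h : AdicCompletion.evalₐ (maximalIdeal A) n x = Ideal.Quotient.mk _ a) :
    x - algebraMap A (AdicCompletion (maximalIdeal A) A) a ∈
      maximalIdeal (AdicCompletion (maximalIdeal A) A) ^ n := by
  rw [AdicCompletion.maximalIdeal_eq_map,
    ← H2.CAway.ker_evalₐ_eq_map (maximalIdeal A) (IsNoetherian.noetherian _) n, RingHom.mem_ker]
  change AdicCompletion.evalₐ (maximalIdeal A) n (x - algebraMap A _ a) = 0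
  rw [map_sub, h, show algebraMap A (AdicCompletion (maximalIdeal A) A) a =
      AdicCompletion.of (maximalIdeal A) A a from rfl, AdicCompletion.evalₐ_of, sub_self]

theorem iInf_pow_eq_bot :
    (⨅ n : ℕ, maximalIdeal (AdicCompletion (maximalIdeal A) A) ^ n) = ⊥ := by
  have : IsNoetherianRing (AdicCompletion (maximalIdeal A) A) := Groth.Agent.S0543.result A _
  exact Ideal.iInf_pow_eq_bot_of_isLocalRing _ (maximalIdeal.isMaximal _).ne_top

theorem eq_zero_of_forall_mem_pow (x : AdicCompletion (maximalIdeal A) A)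
    (h : ∀ n, x ∈ maximalIdeal (AdicCompletion (maximalIdeal A) A) ^ n) : x = 0 := by
  have : x ∈ (⨅ n : ℕ, maximalIdeal (AdicCompletion (maximalIdeal A) A) ^ n) :=
    (Ideal.mem_iInf).mpr h
  rwa [iInf_pow_eq_bot, Ideal.mem_bot] at this

end Eval

local notation "Ah" => AdicCompletion (maximalIdeal A) A
local notation "Lh" => AdicCompletion (maximalIdeal L) L

/-- **Main theorem**: a compatible ring map of completions is bijective. -/
theorem bijective_of_compatible [Module.Flat A L] [IsLocalHom (algebraMap A L)]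
    (hm : (maximalIdeal A).map (algebraMap A L) = maximalIdeal L)
    (hres : ∀ ℓ : L, ∃ a : A, ℓ - algebraMap A L a ∈ maximalIdeal L)
    (ψ : AdicCompletion (maximalIdeal A) A →+* AdicCompletion (maximalIdeal L) L)
    (hψ : ψ.comp (algebraMap A (AdicCompletion (maximalIdeal A) A)) =
      (algebraMap L (AdicCompletion (maximalIdeal L) L)).comp (algebraMap A L)) :
    Function.Bijective ψ := by
  have hψa : ∀ a : A, ψ (algebraMap A Ah a) = algebraMap L Lh (algebraMap A L a) :=
    fun a => congrArg (fun f => f a) hψ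
  -- continuity
  have hcont : ∀ (n : ℕ) (x : Ah), x ∈ maximalIdeal Ah ^ n → ψ x ∈ maximalIdeal Lh ^ n := by
    intro n x hx
    rw [AdicCompletion.maximalIdeal_eq_map, ← Ideal.map_pow] at hx
    have h1 : ψ x ∈ ((maximalIdeal A ^ n).map (algebraMap A Ah)).map ψ := Ideal.mem_map_of_mem ψ hx
    rw [Ideal.map_map, hψ, ← Ideal.map_map, map_pow_eq A L hm n, Ideal.map_pow,
      ← AdicCompletion.maximalIdeal_eq_map] at h1
    exact h1
  constructor
  · rw [injective_iff_map_eq_zero]
    intro x hx
    apply eq_zero_of_forall_mem_pow A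
    intro n
    obtain ⟨a, ha⟩ := CplQuot.exists_sub_mem_pow A n x
    have h1 := hcont n _ ha
    rw [map_sub, hx, zero_sub, hψa, Ideal.neg_mem_iff, CplQuot.algebraMap_mem_pow_iff] at h1
    have h2 := mem_pow_of_algebraMap_mem A L hm n a h1
    have h3 : algebraMap A Ah a ∈ maximalIdeal Ah ^ n :=
      (CplQuot.algebraMap_mem_pow_iff A n a).mpr h2
    have : x = (x - algebraMap A Ah a) + algebraMap A Ah a := by ring
    rw [this]
    exact Ideal.add_mem _ ha h3
  · intro y
    choose ℓ hℓ using fun n => CplQuot.exists_sub_mem_pow L n y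
    choose a ha using fun n => exists_sub_mem_pow A L hm hres n (ℓ n)
    have hcauchy : ∀ n, a n ≡ a (n + 1) [SMOD (maximalIdeal A ^ n • ⊤ : Submodule A A)] := by
      intro n
      rw [SModEq.sub_mem, smul_eq_mul, Ideal.mul_top]
      apply mem_pow_of_algebraMap_mem A L hm n
      have hmid : ℓ n - ℓ (n + 1) ∈ maximalIdeal L ^ n := by
        rw [← CplQuot.algebraMap_mem_pow_iff]
        have h1 : y - algebraMap L Lh (ℓ (n + 1)) ∈ maximalIdeal Lh ^ n :=
          Ideal.pow_le_pow_right (Nat.le_succ n) (hℓ (n + 1))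
        have : algebraMap L Lh (ℓ n - ℓ (n + 1)) =
            (y - algebraMap L Lh (ℓ (n + 1))) - (y - algebraMap L Lh (ℓ n)) := by
          rw [map_sub]; ring
        rw [this]
        exact Ideal.sub_mem _ h1 (hℓ n)
      have h2 : ℓ (n + 1) - algebraMap A L (a (n + 1)) ∈ maximalIdeal L ^ n :=
        Ideal.pow_le_pow_right (Nat.le_succ n) (ha (n + 1))
      have : algebraMap A L (a n - a (n + 1)) =
          -(ℓ n - algebraMap A L (a n)) + (ℓ n - ℓ (n + 1)) +
            (ℓ (n + 1) - algebraMap A L (a (n + 1))) := by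
        rw [map_sub]; ring
      rw [this]
      exact Ideal.add_mem _ (Ideal.add_mem _ (Ideal.neg_mem_iff _ |>.mpr (ha n)) hmid) h2
    let x : Ah := AdicCompletion.mk (maximalIdeal A) A
      (AdicCompletion.AdicCauchySequence.mk (maximalIdeal A) A a hcauchy)
    refine ⟨x, ?_⟩
    have hx : ∀ n, x - algebraMap A Ah (a n) ∈ maximalIdeal Ah ^ n := by
      intro n
      apply sub_mem_pow_of_evalₐ_eq A n x (a n)
      rw [AdicCompletion.evalₐ_mk]
      rfl
    rw [← sub_eq_zero]
    apply eq_zero_of_forall_mem_pow L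
    intro n
    have h1 := hcont n _ (hx n)
    rw [map_sub, hψa] at h1
    have h2 : algebraMap L Lh (algebraMap A L (a n)) - algebraMap L Lh (ℓ n) ∈
        maximalIdeal Lh ^ n := by
      rw [← map_sub, CplQuot.algebraMap_mem_pow_iff, ← Ideal.neg_mem_iff]
      convert ha n using 1
      ring
    have : ψ x - y = (ψ x - algebraMap L Lh (algebraMap A L (a n))) +
        (algebraMap L Lh (algebraMap A L (a n)) - algebraMap L Lh (ℓ n)) -
        (y - algebraMap L Lh (ℓ n)) := by ring
    rw [this]
    exact Ideal.sub_mem _ (Ideal.add_mem _ h1 h2) (hℓ n)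

end Groth.Agent.H3.CplBij
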