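import Mathlib
import Groth.Prelude.Def_EGA4b
import Groth.Agent.S0543
import Groth.Agent.Lib.Helper3.CA.CplBij
import Groth.Agent.Lib.Helper3.CA.CplMap

/-!
# Maximal ideals of an `I`-adic completion (helper3)

`B := AdicCompletion I A` (with `A` Noetherian). Every maximal ideal `n` of `B` is `m B` for the
maximal ideal `m = n ∩ A ⊇ I`, and the local homomorphism `A_m → B_n` is flat, with
`m B_n = n B_n` and trivial residue field extension; hence it induces an isomorphism on
completions.
-/

set_option autoImplicit false
universe u
open IsLocalRing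

namespace Groth.Agent.H3.AdicMax

variable (A : Type u) [CommRing A] [IsNoetherianRing A] (I : Ideal A)

local notation "B" => AdicCompletion I A

theorem map_le (n : Ideal B) [n.IsMaximal] : I.map (algebraMap A B) ≤ n := by
  have := AdicCompletion.isAdicComplete_self I (IsNoetherian.noetherian I)
  refine (IsAdicComplete.le_jacobson_bot (I.map (algebraMap A B))).trans ?_
  exact sInf_le ⟨bot_le, inferInstance⟩

theorem exists_sub_mem (b : B) : ∃ a : A, b - algebraMap A B a ∈ I.map (algebraMap A B) := by
  obtain ⟨a, ha⟩ := Ideal.Quotient.mk_surjective (AdicCompletion.evalOneₐ I b)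
  refine ⟨a, ?_⟩
  rw [← AdicCompletion.ker_evalOneₐ_eq_map I (IsNoetherian.noetherian I), RingHom.mem_ker]
  change AdicCompletion.evalOneₐ I (b - algebraMap A B a) = 0
  rw [map_sub, ← ha, show algebraMap A B a = AdicCompletion.of I A a from rfl,
    AdicCompletion.evalOneₐ_of, sub_self]

variable (n : Ideal (AdicCompletion I A)) [n.IsMaximal]

theorem le_under : I ≤ n.under A := by
  intro x hx
  exact map_le A I n (Ideal.mem_map_of_mem _ hx)

instance isMaximal_under : (n.under A).IsMaximal := by
  have hsurj : Function.Surjective ((Ideal.Quotient.mk n).comp (algebraMap A B)) := by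
    intro y
    obtain ⟨b, rfl⟩ := Ideal.Quotient.mk_surjective y
    obtain ⟨a, ha⟩ := exists_sub_mem A I b
    refine ⟨a, ?_⟩
    rw [RingHom.comp_apply, eq_comm, Ideal.Quotient.eq]
    exact map_le A I n ha
  have : n.under A = RingHom.ker ((Ideal.Quotient.mk n).comp (algebraMap A B)) := by
    ext x
    rw [RingHom.mem_ker, RingHom.comp_apply, Ideal.Quotient.eq_zero_iff_mem]
    rfl
  rw [this]
  let _ := Ideal.Quotient.field n
  exact RingHom.ker_isMaximal_of_surjective _ hsurj

theorem map_under_eq : (n.under A).map (algebraMap A B) = n := by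
  have h1 : ((n.under A).map (algebraMap A B)).IsMaximal :=
    AdicCompletion.isMaximal_map_of_le I (n.under A) (le_under A I n) (IsNoetherian.noetherian I)
  exact h1.eq_of_le (Ideal.IsMaximal.ne_top inferInstance) Ideal.map_comap_le

attribute [local instance] Localization.AtPrime.algebraOfLiesOver

local notation "A'" => Localization.AtPrime (n.under A)
local notation "L" => Localization.AtPrime n

instance : IsNoetherianRing B := Groth.Agent.S0543.result A I

instance : Module.Flat A B := AdicCompletion.flat_of_isNoetherian I

theorem algebraMap_loc (a : A) :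
    algebraMap A' L (algebraMap A A' a) = algebraMap B L (algebraMap A B a) := by
  rw [← IsScalarTower.algebraMap_apply A A' L, IsScalarTower.algebraMap_apply A B L]

instance isLocalHom_loc : IsLocalHom (algebraMap A' L) :=
  Localization.isLocalHom_localRingHom _ _ _ _

theorem map_maximalIdeal_eq :
    (maximalIdeal A').map (algebraMap A' L) = maximalIdeal L := by
  rw [← IsLocalization.AtPrime.map_eq_maximalIdeal (n.under A) A', Ideal.map_map,
    ← IsScalarTower.algebraMap_eq A A' L, IsScalarTower.algebraMap_eq A B L, ← Ideal.map_map,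
    map_under_eq, IsLocalization.AtPrime.map_eq_maximalIdeal n L]

theorem exists_sub_mem_maximalIdeal (ℓ : L) :
    ∃ a : A', ℓ - algebraMap A' L a ∈ maximalIdeal L := by
  obtain ⟨y, hy⟩ := (IsLocalization.AtPrime.equivQuotMaximalIdeal n L).surjective
    (Ideal.Quotient.mk _ ℓ)
  obtain ⟨b, rfl⟩ := Ideal.Quotient.mk_surjective y
  rw [IsLocalization.AtPrime.equivQuotMaximalIdeal_apply_mk, eq_comm, Ideal.Quotient.eq] at hy
  obtain ⟨a, ha⟩ := exists_sub_mem A I b
  refine ⟨algebraMap A A' a, ?_⟩
  rw [algebraMap_loc]
  have h2 : algebraMap B L (b - algebraMap A B a) ∈ maximalIdeal L := by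
    rw [← IsLocalization.AtPrime.map_eq_maximalIdeal n L]
    exact Ideal.mem_map_of_mem _ (map_le A I n ha)
  have : ℓ - algebraMap B L (algebraMap A B a) =
      (ℓ - algebraMap B L b) + algebraMap B L (b - algebraMap A B a) := by
    rw [map_sub]; ring
  rw [this]
  exact Ideal.add_mem _ hy h2

/-- The map on completions `(A_m)^ → (B_n)^` is bijective. -/
theorem cplHom_bijective : Function.Bijective (CplMap.cplHom A' L) := by
  refine CplBij.bijective_of_compatible A' L (map_maximalIdeal_eq A I n)
    (exists_sub_mem_maximalIdeal A I n) _ ?_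
  refine RingHom.ext fun a => ?_
  exact CplMap.cplHom_of A' L a

end Groth.Agent.H3.AdicMax
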