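import Mathlib
import Groth.Prelude.Def_EGA4b
import Groth.Agent.Lib.Helper3.CA.RegHomBC
import Groth.Agent.Lib.Helper3.CA.FFDom1

/-!
# Generic toolkit for homomorphisms with geometrically-`P` fibres (helper3)

`P` is a property of rings which is local (`LocalProp`); `PFib P A B` says that all
`K ⊗[κ(p)] (κ(p) ⊗[A] B)` (`K` finite over `κ(p)`) satisfy `P`.
-/

set_option autoImplicit false
universe u
open TensorProduct

namespace Groth.Agent.H3.PHom

/-- Axioms for a local property of rings. -/
structure LocalProp (P : ∀ (R : Type u) [CommRing R], Prop) : Prop where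
  of_ringEquiv : ∀ {R R' : Type u} [CommRing R] [CommRing R'], (R ≃+* R') → P R → P R'
  of_isLocalization : ∀ {R R' : Type u} [CommRing R] [CommRing R'] [Algebra R R']
    (M : Submonoid R) [IsLocalization M R'], P R → P R'
  of_atPrime : ∀ (R : Type u) [CommRing R] [IsNoetherianRing R],
    (∀ (Q : Ideal R) [Q.IsPrime], P (Localization.AtPrime Q)) → P R
  of_field : ∀ (K : Type u) [Field K], P K

/-- All fibres are geometrically `P`. -/
def PFib (P : ∀ (R : Type u) [CommRing R], Prop) (A B : Type u) [CommRing A] [CommRing B]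
    [Algebra A B] : Prop :=
  ∀ (p : Ideal A) [p.IsPrime] (K : Type u) [Field K] [Algebra p.ResidueField K],
    Module.Finite p.ResidueField K → P (K ⊗[p.ResidueField] p.Fiber B)

variable {P : ∀ (R : Type u) [CommRing R], Prop}

/-- Transfer along an algebra isomorphism. -/
theorem pfib_of_algEquiv (hP : LocalProp P) (A B B' : Type u) [CommRing A] [CommRing B]
    [CommRing B'] [Algebra A B] [Algebra A B'] (e : B ≃ₐ[A] B') (h : PFib P A B) :
    PFib P A B' := by
  intro p _ K _ _ hfin
  let ep : p.Fiber B ≃ₐ[p.ResidueField] p.Fiber B' :=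
    Algebra.TensorProduct.congr (AlgEquiv.refl : p.ResidueField ≃ₐ[p.ResidueField] p.ResidueField) e
  let eK : K ⊗[p.ResidueField] p.Fiber B ≃ₐ[K] K ⊗[p.ResidueField] p.Fiber B' :=
    Algebra.TensorProduct.congr (AlgEquiv.refl : K ≃ₐ[K] K) ep
  exact hP.of_ringEquiv eK.toRingEquiv (h p K hfin)

/-- A localization has geometrically `P` fibres. -/
theorem pfib_of_isLocalization (hP : LocalProp P) (A A' : Type u) [CommRing A] [CommRing A']
    [Algebra A A'] (S : Submonoid A) [IsLocalization S A'] : PFib P A A' := by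
  intro p _ K _ _ _
  have h1 : IsLocalization (Algebra.algebraMapSubmonoid p.ResidueField S) (p.Fiber A') :=
    IsLocalization.tensor A' S
  have h2 : IsLocalization (Algebra.algebraMapSubmonoid K
      (Algebra.algebraMapSubmonoid p.ResidueField S)) (K ⊗[p.ResidueField] p.Fiber A') :=
    IsLocalization.tensor (p.Fiber A') (Algebra.algebraMapSubmonoid p.ResidueField S)
  exact hP.of_isLocalization (Algebra.algebraMapSubmonoid K
      (Algebra.algebraMapSubmonoid p.ResidueField S)) (hP.of_field K)

section SourceLocal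

variable (A B : Type u) [CommRing A] [CommRing B] [Algebra A B]

/-- `S ⊗[R] M⁻¹A` is the localization of `S ⊗[R] A` at the image of `M`. -/
theorem exists_isLocalization_tensor (R S A₁ B₁ : Type u) [CommRing R] [CommRing S] [CommRing A₁]
    [CommRing B₁] [Algebra R S] [Algebra R A₁] [Algebra R B₁] [Algebra A₁ B₁]
    [IsScalarTower R A₁ B₁] (M : Submonoid A₁) [IsLocalization M B₁] :
    ∃ (_ : Algebra (S ⊗[R] A₁) (S ⊗[R] B₁)) (_ : IsScalarTower S (S ⊗[R] A₁) (S ⊗[R] B₁)),
      IsLocalization (M.map (Algebra.TensorProduct.includeRight (R := R) (A := S)))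
        (S ⊗[R] B₁) := by
  let φ : S ⊗[R] A₁ →ₐ[S] S ⊗[R] B₁ :=
    Algebra.TensorProduct.map (AlgHom.id S S) (IsScalarTower.toAlgHom R A₁ B₁)
  let _ : Algebra (S ⊗[R] A₁) (S ⊗[R] B₁) := φ.toRingHom.toAlgebra
  have hmap : ∀ x, algebraMap (S ⊗[R] A₁) (S ⊗[R] B₁) x = φ x := fun _ => rfl
  have : IsScalarTower S (S ⊗[R] A₁) (S ⊗[R] B₁) :=
    IsScalarTower.of_algebraMap_eq (fun (s : S) => by rw [hmap]; exact (φ.commutes s).symm)
  have H : (algebraMap (S ⊗[R] A₁) (S ⊗[R] B₁)).comp
      (Algebra.TensorProduct.includeRight : A₁ →ₐ[R] S ⊗[R] A₁).toRingHom =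
      (Algebra.TensorProduct.includeRight : B₁ →ₐ[R] S ⊗[R] B₁).toRingHom.comp
        (algebraMap A₁ B₁) := by
    ext x
    simp [hmap, φ]
  exact ⟨inferInstance, inferInstance,
    IsLocalization.tensorProduct_tensorProduct_right R S M B₁ H⟩

theorem isLocalization_fiber (p : Ideal A) [p.IsPrime] (K : Type u) [Field K]
    [Algebra p.ResidueField K] (M : Submonoid B) (B' : Type u) [CommRing B'] [Algebra B B']
    [Algebra A B'] [IsScalarTower A B B'] [IsLocalization M B'] :
    ∃ (_ : Algebra (K ⊗[p.ResidueField] p.Fiber B) (K ⊗[p.ResidueField] p.Fiber B')),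
      IsLocalization ((M.map (Algebra.TensorProduct.includeRight (R := A)
        (A := p.ResidueField))).map (Algebra.TensorProduct.includeRight (R := p.ResidueField)
        (A := K))) (K ⊗[p.ResidueField] p.Fiber B') := by
  obtain ⟨_, _, h1⟩ := exists_isLocalization_tensor A p.ResidueField B B' M
  obtain ⟨_, _, h2⟩ := exists_isLocalization_tensor p.ResidueField K (p.Fiber B) (p.Fiber B')
    (M.map (Algebra.TensorProduct.includeRight (R := A) (A := p.ResidueField)))
  exact ⟨inferInstance, h2⟩

/-- Geometrically `P` fibres can be checked on the local rings of the source at maximal ideals. -/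
theorem pfib_of_forall_maximal (hP : LocalProp P) [IsNoetherianRing B]
    (h : ∀ (n : Ideal B) [n.IsMaximal], PFib P A (Localization.AtPrime n)) : PFib P A B := by
  intro p _ K _ _ hfin
  have : IsNoetherianRing (p.Fiber B) := RegHomBC.isNoetherianRing_fiber A B p
  have : IsNoetherianRing (K ⊗[p.ResidueField] p.Fiber B) :=
    RegHomBC.isNoetherianRing_tensor_finite _ _ _
  refine hP.of_atPrime _ fun Q _ => ?_
  -- the contraction of `Q` to `B`
  let ι : B →+* K ⊗[p.ResidueField] p.Fiber B :=
    (Algebra.TensorProduct.includeRight :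
      p.Fiber B →ₐ[p.ResidueField] K ⊗[p.ResidueField] p.Fiber B).toRingHom.comp
    (Algebra.TensorProduct.includeRight : B →ₐ[A] p.Fiber B).toRingHom
  have hq : (Q.comap ι) ≠ ⊤ := (Ideal.comap_isPrime ι Q).ne_top
  obtain ⟨n, hn, hqn⟩ := Ideal.exists_le_maximal _ hq
  obtain ⟨_, hloc⟩ := isLocalization_fiber A B p K n.primeCompl (Localization.AtPrime n)
  set M' := ((n.primeCompl.map (Algebra.TensorProduct.includeRight (R := A)
        (A := p.ResidueField))).map (Algebra.TensorProduct.includeRight (R := p.ResidueField)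
        (A := K))) with hM'
  have hd : Disjoint (M' : Set (K ⊗[p.ResidueField] p.Fiber B)) (Q : Set _) := by
    rw [Set.disjoint_left]
    rintro x hx hxQ
    rw [hM'] at hx
    obtain ⟨y, hy, rfl⟩ := hx
    obtain ⟨b, hb, rfl⟩ := hy
    exact hb (hqn (show b ∈ Q.comap ι from hxQ))
  obtain ⟨Q', _, _, ⟨e⟩⟩ := FFDom.exists_atPrimeEquivMap (T' := K ⊗[p.ResidueField]
    p.Fiber (Localization.AtPrime n)) M' Q hd
  have h1 : P (K ⊗[p.ResidueField] p.Fiber (Localization.AtPrime n)) := h n p K hfin
  have h2 : P (Localization.AtPrime Q') := hP.of_isLocalization Q'.primeCompl h1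
  exact hP.of_ringEquiv e.symm h2

end SourceLocal

end Groth.Agent.H3.PHom
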