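import Mathlib
import Groth.Prelude.Def_EGA4b
import Groth.Agent.Lib.Helper3.CA.PHom
import Groth.Agent.Lib.Helper3.CA.AdicMax

/-!
# `A → Â^I` has geometrically-`P` fibres when the formal fibres of the local rings of `A` do
(helper3)
-/

set_option autoImplicit false
universe u
open TensorProduct IsLocalRing

namespace Groth.Agent.H3.PHom

/-- Stability of `PFib P` under composition. -/
def CompAx (P : ∀ (R : Type u) [CommRing R], Prop) : Prop :=
  ∀ (A B C : Type u) [CommRing A] [CommRing B] [CommRing C] [Algebra A B] [Algebra B C]
    [Algebra A C] [IsScalarTower A B C] [IsNoetherianRing B] [IsNoetherianRing C]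
    [Module.Flat B C], PFib P A B → PFib P B C → PFib P A C

/-- Faithfully flat cancellation for `PFib P`. -/
def CancelAx (P : ∀ (R : Type u) [CommRing R], Prop) : Prop :=
  ∀ (A B C : Type u) [CommRing A] [CommRing B] [CommRing C] [Algebra A B] [Algebra B C]
    [Algebra A C] [IsScalarTower A B C] [IsNoetherianRing B] [IsNoetherianRing C]
    [Module.FaithfullyFlat B C], PFib P A C → PFib P A B

variable {P : ∀ (R : Type u) [CommRing R], Prop}

attribute [local instance] Localization.AtPrime.algebraOfLiesOver

theorem pfib_adicCompletion (hP : LocalProp P) (hcomp : CompAx P) (hcancel : CancelAx P)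
    (A : Type u) [CommRing A] [IsNoetherianRing A] (I : Ideal A)
    (h : ∀ (m : Ideal A) [m.IsMaximal], I ≤ m →
      PFib P (Localization.AtPrime m) (EGA4.Cpl (Localization.AtPrime m))) :
    PFib P A (AdicCompletion I A) := by
  have : IsNoetherianRing (AdicCompletion I A) := Groth.Agent.S0543.result A I
  refine pfib_of_forall_maximal A (AdicCompletion I A) hP fun n _ => ?_
  have hmmax : (n.under A).IsMaximal := AdicMax.isMaximal_under A I n
  have h1 := h (n.under A) (AdicMax.le_under A I n)
  have hbij := AdicMax.cplHom_bijective A I n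
  have : IsScalarTower (Localization.AtPrime (n.under A)) (Localization.AtPrime n)
      (EGA4.Cpl (Localization.AtPrime n)) := CplMap.isScalarTower_cpl _ _
  let e : EGA4.Cpl (Localization.AtPrime (n.under A)) ≃ₐ[Localization.AtPrime (n.under A)]
      EGA4.Cpl (Localization.AtPrime n) :=
    { RingEquiv.ofBijective _ hbij with
      commutes' := fun a => by
        change CplMap.cplHom _ _ (algebraMap _ _ a) = _
        rw [CplMap.cplHom_of, ← IsScalarTower.algebraMap_apply] }
  have h2 : PFib P (Localization.AtPrime (n.under A)) (EGA4.Cpl (Localization.AtPrime n)) :=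
    pfib_of_algEquiv hP _ _ _ e h1
  have : IsNoetherianRing (EGA4.Cpl (Localization.AtPrime n)) := Groth.Agent.S0543.result _ _
  have : Module.Flat (Localization.AtPrime n) (EGA4.Cpl (Localization.AtPrime n)) :=
    AdicCompletion.flat_of_isNoetherian _
  have : Module.FaithfullyFlat (Localization.AtPrime n) (EGA4.Cpl (Localization.AtPrime n)) :=
    Module.FaithfullyFlat.of_flat_of_isLocalHom
  have h3 : PFib P (Localization.AtPrime (n.under A)) (Localization.AtPrime n) :=
    hcancel _ _ (EGA4.Cpl (Localization.AtPrime n)) h2
  exact hcomp A (Localization.AtPrime (n.under A)) (Localization.AtPrime n)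
    (pfib_of_isLocalization hP A _ (n.under A).primeCompl) h3

end Groth.Agent.H3.PHom
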