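import Mathlib
import Groth.Agent.Lib.Helper3.CA.RegHomBC
import Groth.Agent.S9250

/-!
# Composition of regular homomorphisms (helper3)
-/

set_option autoImplicit false

open TensorProduct

namespace Groth.Agent.H3.RegHomBC

universe u

theorem geomRegFibres_comp (A B C : Type u) [CommRing A] [CommRing B] [CommRing C]
    [Algebra A B] [Algebra B C] [Algebra A C] [IsScalarTower A B C] [Module.Flat B C]
    (hAB : GeomRegFibres A B)
    (hNC : ∀ (q : Ideal B) [q.IsPrime], IsNoetherianRing (q.Fiber C)) (hBC : GeomRegFibres B C)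
    (hN : ∀ (p : Ideal A) [p.IsPrime], IsNoetherianRing (p.Fiber C)) : GeomRegFibres A C := by
  intro p _ K _ _ hfin
  have := hfin
  let _ : Algebra A K := ((algebraMap p.ResidueField K).comp (algebraMap A p.ResidueField)).toAlgebra
  have : IsScalarTower A p.ResidueField K := IsScalarTower.of_algebraMap_eq fun _ => rfl
  -- `R = B ⊗[A] K` is regular
  let eR : K ⊗[p.ResidueField] p.Fiber B ≃+* B ⊗[A] K :=
    (Algebra.TensorProduct.cancelBaseChange A p.ResidueField K K B).toRingEquiv.trans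
      (Algebra.TensorProduct.comm A K B).toRingEquiv
  have hR : IsRegularRing (B ⊗[A] K) :=
    have := hAB p K hfin
    IsRegularRing.of_ringEquiv (R := K ⊗[p.ResidueField] p.Fiber B) eR
  let eT : K ⊗[p.ResidueField] p.Fiber C ≃+* (B ⊗[A] K) ⊗[B] C :=
    (Algebra.TensorProduct.cancelBaseChange A p.ResidueField K K C).toRingEquiv.trans <|
    (Algebra.TensorProduct.comm A K C).toRingEquiv.trans <|
    (Algebra.TensorProduct.cancelBaseChange A B C C K).symm.toRingEquiv.trans
      (Algebra.TensorProduct.comm B C (B ⊗[A] K)).toRingEquiv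
  have : IsNoetherianRing (p.Fiber C) := hN p
  have : IsNoetherianRing (K ⊗[p.ResidueField] p.Fiber C) := isNoetherianRing_tensor_finite _ _ _
  have : IsNoetherianRing ((B ⊗[A] K) ⊗[B] C) :=
    isNoetherianRing_of_ringEquiv (K ⊗[p.ResidueField] p.Fiber C) eT
  have hreg : CAlg.IsRegularHom (B ⊗[A] K) ((B ⊗[A] K) ⊗[B] C) := by
    refine ⟨inferInstance, fun r _ => ?_⟩
    have h1 : IsNoetherianRing (r.Fiber ((B ⊗[A] K) ⊗[B] C)) := isNoetherianRing_fiber _ _ r
    have h2 : IsNoetherianRing ((r.under B).Fiber C) := hNC _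
    exact ⟨h1, fun k' _ _ hk' => isRegularRing_fibre_baseChange B C (B ⊗[A] K) hBC r k' hk'⟩
  have := Groth.Agent.S9250.result (B ⊗[A] K) ((B ⊗[A] K) ⊗[B] C) hreg
  exact IsRegularRing.of_ringEquiv (R := (B ⊗[A] K) ⊗[B] C) eT.symm

end Groth.Agent.H3.RegHomBC
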