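import Mathlib
import Groth.Agent.Lib.Helper1.RegRing
import Groth.Agent.Lib.Helper5.CA.NG37
import Groth.Agent.Lib.Helper5.CA.RegHom3

set_option autoImplicit false
universe u
open TensorProduct

namespace Groth.Agent.H3.RegSep

theorem part1 (k S k' : Type u) [Field k] [CommRing S] [Algebra k S] [IsNoetherianRing S]
    [Field k'] [Algebra k k'] (q' : Ideal (S ⊗[k] k')) [q'.IsPrime]
    (h : IsRegularLocalRing (Localization.AtPrime q')) :
    IsRegularLocalRing (Localization.AtPrime (q'.comap (algebraMap S (S ⊗[k] k')))) := by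
  have : q'.LiesOver (q'.comap (algebraMap S (S ⊗[k] k'))) := ⟨rfl⟩
  let _ := Localization.AtPrime.algebraOfLiesOver (q'.comap (algebraMap S (S ⊗[k] k'))) q'
  have : IsLocalHom (algebraMap (Localization.AtPrime (q'.comap (algebraMap S (S ⊗[k] k'))))
      (Localization.AtPrime q')) := by
    rw [RingHom.algebraMap_toAlgebra]
    exact Localization.isLocalHom_localRingHom _ q' (algebraMap _ _) Ideal.LiesOver.over
  have : Module.Flat (Localization.AtPrime (q'.comap (algebraMap S (S ⊗[k] k'))))
      (Localization.AtPrime q') := inferInstance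
  exact Groth.Agent.H1.Reg.isRegularLocalRing_of_flat
    (Localization.AtPrime (q'.comap (algebraMap S (S ⊗[k] k')))) (Localization.AtPrime q')

attribute [local instance] Algebra.TensorProduct.rightAlgebra in
theorem isGeometricallyRegular_of_isGeometricallyReduced (k L : Type u) [Field k] [Field L]
    [Algebra k L] [Algebra.IsGeometricallyReduced k L] : CAlg.IsGeometricallyRegular k L := by
  intro k' _ _ hfin
  have := hfin
  have : Module.Finite L (k' ⊗[k] L) :=
    Module.Finite.equiv (Algebra.TensorProduct.commRight k L k').toLinearEquiv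
  have : IsArtinianRing (k' ⊗[k] L) := IsArtinianRing.of_finite L _
  exact Groth.Agent.H5.RegHom.isRegularRing_of_isArtinianRing_of_isReduced _

theorem isRegularRing_of_isRegularLocalRing (R : Type u) [CommRing R] [IsRegularLocalRing R] :
    IsRegularRing R := by
  rw [isRegularRing_iff]
  intro p hp
  exact Groth.Agent.H1.Reg.isRegularLocalRing_localization R p

end Groth.Agent.H3.RegSep

namespace Groth.Agent.H3.RegSep

theorem part2' (k S k' : Type u) [Field k] [CommRing S] [Algebra k S] [IsNoetherianRing S]
    [Field k'] [Algebra k k'] [IsNoetherianRing (S ⊗[k] k')] (q' : Ideal (S ⊗[k] k')) [q'.IsPrime]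
    [Algebra.IsGeometricallyReduced k k'] (q : Ideal S) [q.IsPrime]
    (hq : q = q'.comap (algebraMap S (S ⊗[k] k')))
    (h : IsRegularLocalRing (Localization.AtPrime q)) :
    IsRegularLocalRing (Localization.AtPrime q') := by
  let _ : Algebra (S ⊗[k] k') (Localization.AtPrime q ⊗[k] k') :=
    (Algebra.TensorProduct.map (IsScalarTower.toAlgHom k S (Localization.AtPrime q))
      (AlgHom.id k k')).toRingHom.toAlgebra
  have hmap : ∀ x, algebraMap (S ⊗[k] k') (Localization.AtPrime q ⊗[k] k') x =
      Algebra.TensorProduct.map (IsScalarTower.toAlgHom k S (Localization.AtPrime q))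
      (AlgHom.id k k') x := fun x => rfl
  have : IsScalarTower S (S ⊗[k] k') (Localization.AtPrime q ⊗[k] k') :=
    IsScalarTower.of_algebraMap_eq (fun s => by
      rw [hmap, Algebra.TensorProduct.algebraMap_apply, Algebra.TensorProduct.algebraMap_apply]
      simp)
  have H : (algebraMap (S ⊗[k] k') (Localization.AtPrime q ⊗[k] k')).comp
      (Algebra.TensorProduct.includeRight : k' →ₐ[k] S ⊗[k] k').toRingHom =
      (Algebra.TensorProduct.includeRight : k' →ₐ[k] Localization.AtPrime q ⊗[k] k').toRingHom := by
    ext x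
    simp [hmap]
  have hloc : IsLocalization (Algebra.algebraMapSubmonoid (S ⊗[k] k') q.primeCompl)
      (Localization.AtPrime q ⊗[k] k') :=
    IsLocalization.tensorProduct_tensorProduct k k' q.primeCompl (Localization.AtPrime q) H
  have : IsNoetherianRing (Localization.AtPrime q ⊗[k] k') :=
    IsLocalization.isNoetherianRing (Algebra.algebraMapSubmonoid (S ⊗[k] k') q.primeCompl) _
      (inferInstance : IsNoetherianRing (S ⊗[k] k'))
  have : IsRegularRing (Localization.AtPrime q) := isRegularRing_of_isRegularLocalRing _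
  have hreg : IsRegularRing (Localization.AtPrime q ⊗[k] k') :=
    H5.NG.isRegularRing_tensor_of_isGeometricallyRegular k (Localization.AtPrime q) k'
      (isGeometricallyRegular_of_isGeometricallyReduced k k')
  have hdisj : Disjoint (↑(Algebra.algebraMapSubmonoid (S ⊗[k] k') q.primeCompl) : Set (S ⊗[k] k'))
      (↑q' : Set (S ⊗[k] k')) := by
    rw [Set.disjoint_left]
    rintro x ⟨s, hs, rfl⟩ hx
    apply hs
    rw [hq]
    exact hx
  have hq''prime : (q'.map (algebraMap (S ⊗[k] k') (Localization.AtPrime q ⊗[k] k'))).IsPrime :=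
    IsLocalization.isPrime_of_isPrime_disjoint _ _ q' inferInstance hdisj
  have hcomap : (q'.map (algebraMap (S ⊗[k] k') (Localization.AtPrime q ⊗[k] k'))).comap
      (algebraMap (S ⊗[k] k') (Localization.AtPrime q ⊗[k] k')) = q' :=
    IsLocalization.under_map_of_isPrime_disjoint _ _ inferInstance hdisj
  have h1 : IsLocalization.AtPrime (Localization.AtPrime
      (q'.map (algebraMap (S ⊗[k] k') (Localization.AtPrime q ⊗[k] k'))))
      ((q'.map (algebraMap (S ⊗[k] k') (Localization.AtPrime q ⊗[k] k'))).comap
      (algebraMap (S ⊗[k] k') (Localization.AtPrime q ⊗[k] k'))) :=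
    IsLocalization.isLocalization_isLocalization_atPrime_isLocalization
      (Algebra.algebraMapSubmonoid (S ⊗[k] k') q.primeCompl) _ _
  have h2 : IsLocalization.AtPrime (Localization.AtPrime
      (q'.map (algebraMap (S ⊗[k] k') (Localization.AtPrime q ⊗[k] k')))) q' := by
    convert h1 using 2
    all_goals exact hcomap.symm
  have h3 : IsRegularLocalRing (Localization.AtPrime
      (q'.map (algebraMap (S ⊗[k] k') (Localization.AtPrime q ⊗[k] k')))) :=
    isRegularRing_iff.mp hreg _
  exact IsRegularLocalRing.of_ringEquiv (R := Localization.AtPrime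
      (q'.map (algebraMap (S ⊗[k] k') (Localization.AtPrime q ⊗[k] k'))))
    (IsLocalization.algEquiv q'.primeCompl (Localization.AtPrime
      (q'.map (algebraMap (S ⊗[k] k') (Localization.AtPrime q ⊗[k] k'))))
      (Localization.AtPrime q')).toRingEquiv

theorem part2 (k S k' : Type u) [Field k] [CommRing S] [Algebra k S] [IsNoetherianRing S]
    [Field k'] [Algebra k k'] [IsNoetherianRing (S ⊗[k] k')] (q' : Ideal (S ⊗[k] k')) [q'.IsPrime]
    [Algebra.IsGeometricallyReduced k k']
    (h : IsRegularLocalRing (Localization.AtPrime (q'.comap (algebraMap S (S ⊗[k] k'))))) :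
    IsRegularLocalRing (Localization.AtPrime q') :=
  part2' k S k' q' _ rfl h

end Groth.Agent.H3.RegSep
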