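import Mathlib
import Groth.Prelude.Def_Found
import Groth.Prelude.Def_EGA4b
import Groth.Agent.Lib.Helper3.CA.PHomAdic
import Groth.Agent.Lib.Helper3.CA.RegHomComp
import Groth.Agent.Lib.Helper3.CA.RegHomDesc
import Groth.Agent.Lib.Helper3.CA.RegSepBaseChange
import Groth.Agent.Lib.Helper3.CA.GeomNormalLoc
import Groth.Agent.Lib.Helper1.RegRing
import Groth.Agent.Lib.Helper8.NormalHomComp
import Groth.Agent.Lib.Helper8.ReducedHomComp
import Groth.Agent.S9634

/-!
# Instances of the `PHom` toolkit: regular, normal, reduced (helper3)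
-/

set_option autoImplicit false
universe u
open TensorProduct IsLocalRing

namespace Groth.Agent.H3.PHom

/-! ## Regular -/

/-- `P = regular` -/
abbrev PReg : ∀ (R : Type u) [CommRing R], Prop := fun R _ => IsRegularRing R

theorem localProp_reg : LocalProp PReg.{u} where
  of_ringEquiv e h := by
    have := h
    exact IsRegularRing.of_ringEquiv e
  of_isLocalization M _ h := by
    have := h
    exact Groth.Agent.H1.Reg.isRegularRing_of_isLocalization _ M _
  of_atPrime R _ _ h := isRegularRing_iff.mpr fun p _ => by
    have := h p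
    exact IsRegularLocalRing.of_isRegularRing_of_isLocalRing _
  of_field K _ := Groth.Agent.H3.RegSep.isRegularRing_of_isRegularLocalRing K

theorem compAx_reg : CompAx PReg.{u} := by
  intro A B C _ _ _ _ _ _ _ _ _ _ hAB hBC
  exact Groth.Agent.H3.RegHomBC.geomRegFibres_comp A B C hAB
    (fun q _ => RegHomBC.isNoetherianRing_fiber B C q) hBC
    (fun p _ => RegHomBC.isNoetherianRing_fiber A C p)

theorem cancelAx_reg : CancelAx PReg.{u} := by
  intro A B C _ _ _ _ _ _ _ _ _ _ hAC p _ K _ _ hfin
  have := hfin
  have : IsNoetherianRing (p.Fiber C) := RegHomBC.isNoetherianRing_fiber A C p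
  exact (Groth.Agent.H3.RegHomBC.descent_aux A B C p K).2 (hAC p K hfin)

/-! ## Normal -/

/-- `P = normal` -/
abbrev PNor : ∀ (R : Type u) [CommRing R], Prop := fun R _ => EGA4.IsNormalRing R

theorem isNormalRing_of_forall_atPrime (R : Type u) [CommRing R]
    (h : ∀ (Q : Ideal R) [Q.IsPrime], EGA4.IsNormalRing (Localization.AtPrime Q)) :
    EGA4.IsNormalRing R := by
  intro p _
  have h1 := h p (maximalIdeal (Localization.AtPrime p))
  have h2 := (Groth.Agent.H3.NorLoc.nor_iff_comap p.primeCompl
    (maximalIdeal (Localization.AtPrime p))).mpr h1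
  have key : ∀ (q : Ideal R) [q.IsPrime], q = p →
      (IsDomain (Localization.AtPrime q) ∧ IsIntegrallyClosed (Localization.AtPrime q)) →
      (IsDomain (Localization.AtPrime p) ∧ IsIntegrallyClosed (Localization.AtPrime p)) := by
    rintro q _ rfl h
    exact h
  exact key _ (Localization.AtPrime.under_maximalIdeal (I := p)) h2

theorem isNormalRing_of_field (K : Type u) [Field K] : EGA4.IsNormalRing K := by
  intro p _
  have hle : p.primeCompl ≤ nonZeroDivisors K := by
    intro x hx
    rw [mem_nonZeroDivisors_iff_ne_zero]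
    rintro rfl
    exact hx p.zero_mem
  have h1 : IsDomain (Localization.AtPrime p) :=
    IsLocalization.isDomain_localization hle
  exact ⟨h1, isIntegrallyClosed_of_isLocalization _ p.primeCompl hle⟩

theorem localProp_nor : LocalProp PNor.{u} where
  of_ringEquiv e h := Groth.Agent.H8.GNorm.NormalLoc.of_ringEquiv e h
  of_isLocalization M _ h := Groth.Agent.H3.NorLoc.isNormalRing_of_isLocalization M h
  of_atPrime R _ _ h := isNormalRing_of_forall_atPrime R h
  of_field K _ := isNormalRing_of_field K

theorem compAx_nor : CompAx PNor.{u} := by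
  intro A B C _ _ _ _ _ _ _ _ _ _ hAB hBC
  exact Groth.Agent.H8.NHC.geomNormalFibres_comp A B C hAB hBC

theorem cancelAx_nor : CancelAx PNor.{u} := by
  intro A B C _ _ _ _ _ _ _ _ _ _ hAC
  exact Groth.Agent.H8.NHC.geomNormalFibres_of_comp A B C hAC

/-! ## Reduced -/

/-- `P = reduced` -/
abbrev PRed : ∀ (R : Type u) [CommRing R], Prop := fun R _ => IsReduced R

theorem localProp_red : LocalProp PRed.{u} where
  of_ringEquiv e h := by
    have := h
    exact isReduced_of_injective e.symm.toRingHom e.symm.injective
  of_isLocalization M _ h := isReduced_localizationPreserves M _ h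
  of_atPrime R _ _ h := isReduced_ofLocalizationMaximal R fun J hJ => by
    have := hJ
    exact h J
  of_field K _ := inferInstance

theorem pfib_red_iff (A B : Type u) [CommRing A] [CommRing B] [Algebra A B] :
    PFib PRed A B ↔ Groth.Agent.H8.RHC.GeomReducedFibres A B := by
  constructor
  · intro h p _
    refine ((Groth.Agent.S9634.result (k := p.ResidueField) (S := p.Fiber B)).out 0 1).mp ?_
    intro k' _ _ _ _
    exact h p k' inferInstance
  · intro h p _ K _ _ _
    have := h p
    exact Groth.Agent.H8.RHC.isReduced_tensor_of_isGeometricallyReduced p.ResidueField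
      (p.Fiber B) K

theorem compAx_red : CompAx PRed.{u} := by
  intro A B C _ _ _ _ _ _ _ _ _ _ hAB hBC
  rw [pfib_red_iff] at hAB hBC ⊢
  exact Groth.Agent.H8.RHC.geomReducedFibres_comp A B C hAB hBC

theorem cancelAx_red : CancelAx PRed.{u} := by
  intro A B C _ _ _ _ _ _ _ _ _ _ hAC
  rw [pfib_red_iff] at hAC ⊢
  exact Groth.Agent.H8.RHC.geomReducedFibres_of_comp A B C hAC

end Groth.Agent.H3.PHom
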