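import Mathlib

/-! General algebra lemmas for the Auslander–Buchsbaum factoriality theorem. -/

set_option autoImplicit false
universe u

namespace Groth.Agent.H3.ABufd

open TensorProduct

/-- For flat `S`, `S ⊗ I ≃ I S`. -/
theorem nonempty_tensor_equiv_map (R S : Type u) [CommRing R] [CommRing S] [Algebra R S]
    [Module.Flat R S] (I : Ideal R) : Nonempty (S ⊗[R] I ≃ₗ[S] I.map (algebraMap R S)) := by
  let f : S ⊗[R] I →ₗ[S] S :=
    (AlgebraTensorModule.rid _ _ _).toLinearMap ∘ₗ AlgebraTensorModule.lTensor S S I.subtype
  have hf : Function.Injective f := by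
    simp [f]
    exact Module.Flat.lTensor_preserves_injective_linearMap _ (Submodule.injective_subtype I)
  have : I.map (algebraMap R S) = LinearMap.range f := by
    refine le_antisymm ?_ ?_
    · rw [Ideal.map_le_iff_le_comap]
      intro x hx
      use 1 ⊗ₜ ⟨x, hx⟩
      simp [f, Algebra.smul_def]
    · rintro - ⟨x, rfl⟩
      induction x with
      | zero => simp
      | add _ _ _ _ => simp_all [Ideal.add_mem]
      | tmul s x =>
        have : f (s ⊗ₜ[R] x) = s • f (1 ⊗ₜ x) := by simp [f]
        rw [this]
        apply Ideal.mul_mem_left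
        simpa [f, Algebra.smul_def] using Ideal.mem_map_of_mem _ x.2
  exact ⟨.ofInjective _ hf ≪≫ₗ .ofEq _ _ this.symm⟩

theorem projective_of_isPrincipal {D : Type u} [CommRing D] [IsDomain D] (I : Ideal D)
    (h : I.IsPrincipal) : Module.Projective D I := by
  obtain ⟨π, rfl⟩ := h
  by_cases hπ : π = 0
  · subst hπ
    haveI : Subsingleton (Submodule.span D ({0} : Set D)) := by
      rw [Submodule.span_zero_singleton]
      infer_instance
    infer_instance
  · exact Module.Projective.of_equiv (LinearEquiv.toSpanNonzeroSingleton D D π hπ)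

theorem projective_of_locally_principal {B : Type u} [CommRing B] [IsDomain B] [IsNoetherianRing B]
    (P : Ideal B)
    (h : ∀ (𝔫 : Ideal B) [𝔫.IsMaximal],
      (P.map (algebraMap B (Localization.AtPrime 𝔫))).IsPrincipal) :
    Module.Projective B P := by
  haveI : Module.FinitePresentation B P := Module.finitePresentation_of_finite B P
  refine Module.projective_of_localization_maximal' (R := B) (M := P)
    (fun 𝔫 _ => Localization.AtPrime 𝔫)
    (fun 𝔫 _ => P.map (algebraMap B (Localization.AtPrime 𝔫)))
    (fun 𝔫 _ => Algebra.idealMap (Localization.AtPrime 𝔫) P) ?_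
  intro 𝔫 h𝔫
  exact projective_of_isPrincipal _ (h 𝔫)

/-- In a UFD, a minimal prime over a nonzero principal ideal is principal. -/
theorem isPrincipal_of_mem_minimalPrimes {D : Type u} [CommRing D] [IsDomain D]
    [UniqueFactorizationMonoid D] {a : D} (ha : a ≠ 0) {P : Ideal D}
    (hP : P ∈ (Ideal.span {a}).minimalPrimes) : P.IsPrincipal := by
  classical
  have hprime : P.IsPrime := hP.1.1
  have haP : a ∈ P := hP.1.2 (Ideal.mem_span_singleton_self a)
  have hfa : (UniqueFactorizationMonoid.factors a).prod ∈ P := by
    obtain ⟨u, hu⟩ := (UniqueFactorizationMonoid.factors_prod ha).symm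
    rw [← hu]
    exact Ideal.mul_mem_right _ _ haP
  obtain ⟨π, hπf, hπP⟩ := (hprime.multiset_prod_mem_iff_exists_mem _).mp hfa
  have hπprime : Prime π := UniqueFactorizationMonoid.prime_of_factor π hπf
  have hπa : π ∣ a := UniqueFactorizationMonoid.dvd_of_mem_factors hπf
  have hspan : (Ideal.span {π}).IsPrime := (Ideal.span_singleton_prime hπprime.ne_zero).mpr hπprime
  have hle : Ideal.span {π} ≤ P := (Ideal.span_singleton_le_iff_mem _).mpr hπP
  have hle' : P ≤ Ideal.span {π} :=
    hP.2 ⟨hspan, (Ideal.span_singleton_le_span_singleton).mpr hπa⟩ hle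
  exact ⟨π, le_antisymm hle' hle⟩

section Invertible

variable {B : Type u} [CommRing B] [IsDomain B]

/-- A nonzero projective ideal of a domain is an invertible fractional ideal. -/
theorem isUnit_coeSubmodule_of_projective (K : Type u) [Field K] [Algebra B K] [IsFractionRing B K]
    (P : Ideal B) (hP : P ≠ ⊥) [Module.Projective B P] :
    IsUnit (IsLocalization.coeSubmodule K P) := by
  classical
  obtain ⟨s, hs⟩ := Module.Projective.out (R := B) (P := P)
  obtain ⟨a, haP, ha0⟩ := Submodule.exists_mem_ne_zero_of_ne_bot hP
  let a' : P := ⟨a, haP⟩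
  have hinj : Function.Injective (algebraMap B K) := IsFractionRing.injective B K
  have haK : algebraMap B K a ≠ 0 := fun h => ha0 (hinj (by rw [h, map_zero]))
  have key : ∀ (x : P) (y : P), a * s x y = (x : B) * s a' y := by
    intro x y
    have h1 : (a • x : P) = (x : B) • a' := Subtype.ext (by simp [a', mul_comm])
    have h2 := congrArg (fun z => s z y) h1
    simpa [map_smul] using h2
  let J : Submodule B K := Submodule.span B
    ((fun y : P => algebraMap B K (s a' y) / algebraMap B K a) '' ((s a').support : Set P))
  have hI : IsLocalization.coeSubmodule K P =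
      Submodule.span B ((algebraMap B K) '' (P : Set B)) := by
    rw [IsLocalization.coeSubmodule]
    conv_lhs => rw [← Submodule.span_eq (p := P)]
    rw [Submodule.map_span]
    rfl
  have hmul : IsLocalization.coeSubmodule K P * J = 1 := by
    apply le_antisymm
    · rw [hI, Submodule.span_mul_span, Submodule.span_le]
      rintro _ ⟨_, ⟨x, hx, rfl⟩, _, ⟨y, -, rfl⟩, rfl⟩
      rw [SetLike.mem_coe, Submodule.mem_one]
      refine ⟨s ⟨x, hx⟩ y, ?_⟩
      have := key ⟨x, hx⟩ y
      have h3 := congrArg (algebraMap B K) this
      simp only [map_mul] at h3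
      field_simp
      rw [mul_comm, h3]
    · rw [Submodule.one_le]
      have h1 : (a' : P) = Finsupp.linearCombination B id (s a') := (hs a').symm
      rw [Finsupp.linearCombination_apply, Finsupp.sum] at h1
      have h2 : a = ∑ y ∈ (s a').support, s a' y * (y : B) := by
        have := congrArg (Subtype.val) h1
        simpa using this
      have h3 : (1 : K) = ∑ y ∈ (s a').support,
          algebraMap B K (y : B) * (algebraMap B K (s a' y) / algebraMap B K a) := by
        have h4 := congrArg (algebraMap B K) h2
        rw [map_sum] at h4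
        simp only [map_mul] at h4
        have h5 : ∑ y ∈ (s a').support,
            algebraMap B K (y : B) * (algebraMap B K (s a' y) / algebraMap B K a) =
            (∑ y ∈ (s a').support, algebraMap B K (s a' y) * algebraMap B K (y : B)) /
              algebraMap B K a := by
          rw [Finset.sum_div]
          refine Finset.sum_congr rfl fun y _ => ?_
          ring
        rw [h5, ← h4, div_self haK]
      rw [h3]
      refine Submodule.sum_mem _ fun y hy => ?_
      refine Submodule.mul_mem_mul ?_ ?_
      · exact (IsLocalization.mem_coeSubmodule K P).mpr ⟨y, y.2, rfl⟩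
      · exact Submodule.subset_span ⟨y, hy, rfl⟩
  exact IsUnit.of_mul_eq_one _ hmul

theorem invertible_of_projective (P : Ideal B) (hP : P ≠ ⊥) [Module.Projective B P] :
    Module.Invertible B P := by
  have hu := isUnit_coeSubmodule_of_projective (FractionRing B) P hP
  have h1 : Module.Invertible B (hu.unit : Submodule B (FractionRing B)) := inferInstance
  have hinj : Function.Injective (Algebra.linearMap B (FractionRing B)) :=
    IsFractionRing.injective B (FractionRing B)
  have e : P ≃ₗ[B] (hu.unit : Submodule B (FractionRing B)) := by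
    rw [IsUnit.unit_spec]
    exact Submodule.equivMapOfInjective _ hinj P
  exact Module.Invertible.congr e.symm

/-- A stably free nonzero projective ideal of a domain is principal. -/
theorem isPrincipal_of_isStablyFree (P : Ideal B) (hP : P ≠ ⊥) [Module.IsStablyFree B P] :
    P.IsPrincipal := by
  haveI : Module.Invertible B P := invertible_of_projective P hP
  haveI : Module.Free B P := Module.free_of_isStablyFree_of_invertible B P
  obtain ⟨e⟩ := (Module.Invertible.free_iff_linearEquiv (R := B) (M := P)).mp inferInstance
  refine ⟨(e.symm 1 : P), le_antisymm ?_ ?_⟩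
  · intro x hx
    have h1 : (⟨x, hx⟩ : P) = e ⟨x, hx⟩ • e.symm 1 := by
      rw [← map_smul, smul_eq_mul, mul_one, LinearEquiv.symm_apply_apply]
    have h2 := congrArg Subtype.val h1
    simp only [Submodule.coe_smul, smul_eq_mul] at h2
    rw [h2]
    exact Ideal.mul_mem_left _ _ (Ideal.mem_span_singleton_self _)
  · rw [Submodule.span_singleton_le_iff_mem]
    exact (e.symm 1).2

end Invertible

end Groth.Agent.H3.ABufd
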