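import Mathlib
import Groth.Agent.Lib.Helper1.RegGlobal

/-! Finite free resolutions: base change, stably-freeness of projectives, regular local rings. -/

set_option autoImplicit false
universe u

namespace Groth.Agent.H3.FFR

open TensorProduct CategoryTheory

variable (R : Type u) [CommRing R]

/-- `M` has a finite free resolution of length `≤ n`. -/
def HasFFR : ℕ → ∀ (M : Type u) [AddCommGroup M] [Module R M], Prop
  | 0, M, _, _ => Module.Finite R M ∧ Module.Free R M
  | n + 1, M, _, _ => ∃ (F K : Type u) (_ : AddCommGroup F) (_ : Module R F) (_ : AddCommGroup K)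
      (_ : Module R K) (i : K →ₗ[R] F) (π : F →ₗ[R] M), Module.Finite R F ∧ Module.Free R F ∧
      Function.Injective i ∧ Function.Exact i π ∧ Function.Surjective π ∧ HasFFR n K

variable {R}

theorem HasFFR.of_linearEquiv {n : ℕ} {M M' : Type u} [AddCommGroup M] [Module R M]
    [AddCommGroup M'] [Module R M'] (e : M ≃ₗ[R] M') (h : HasFFR R n M) : HasFFR R n M' := by
  cases n with
  | zero =>
    obtain ⟨h1, h2⟩ := h
    exact ⟨Module.Finite.equiv e, Module.Free.of_equiv e⟩
  | succ n =>
    obtain ⟨F, K, _, _, _, _, i, π, h1, h2, h3, h4, h5, h6⟩ := h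
    refine ⟨F, K, _, _, _, _, i, e.toLinearMap ∘ₗ π, h1, h2, h3, ?_, ?_, h6⟩
    · intro y
      rw [LinearMap.comp_apply, LinearEquiv.coe_coe, LinearEquiv.map_eq_zero_iff]
      exact h4 y
    · rw [LinearMap.coe_comp]
      exact e.surjective.comp h5

theorem HasFFR.baseChange (S : Type u) [CommRing S] [Algebra R S] [Module.Flat R S] :
    ∀ (n : ℕ) (M : Type u) [AddCommGroup M] [Module R M], HasFFR R n M → HasFFR S n (S ⊗[R] M) := by
  intro n
  induction n with
  | zero =>
    intro M _ _ h
    obtain ⟨h1, h2⟩ := h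
    exact ⟨inferInstance, inferInstance⟩
  | succ n ih =>
    intro M _ _ h
    obtain ⟨F, K, _, _, _, _, i, π, h1, h2, h3, h4, h5, h6⟩ := h
    refine ⟨S ⊗[R] F, S ⊗[R] K, inferInstance, inferInstance, inferInstance, inferInstance,
      i.baseChange S, π.baseChange S, inferInstance, inferInstance, ?_, ?_, ?_, ih K h6⟩
    · rw [LinearMap.baseChange_eq_ltensor]
      exact Module.Flat.lTensor_preserves_injective_linearMap i h3
    · rw [LinearMap.baseChange_eq_ltensor, LinearMap.baseChange_eq_ltensor]
      exact lTensor_exact S h4 h5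
    · rw [LinearMap.baseChange_eq_ltensor]
      exact LinearMap.lTensor_surjective S h5

/-- A module which becomes free after adding a finite free module. -/
def StablyFree (R : Type u) [CommRing R] (M : Type u) [AddCommGroup M] [Module R M] : Prop :=
  ∃ (F₁ F₂ : Type u) (_ : AddCommGroup F₁) (_ : Module R F₁) (_ : AddCommGroup F₂)
    (_ : Module R F₂), Module.Free R F₁ ∧ Module.Finite R F₁ ∧ Module.Free R F₂ ∧
    Module.Finite R F₂ ∧ Nonempty ((M × F₁) ≃ₗ[R] F₂)

theorem stablyFree_of_projective : ∀ (n : ℕ) (M : Type u) [AddCommGroup M] [Module R M]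
    [Module.Projective R M], HasFFR R n M → StablyFree R M := by
  intro n
  induction n with
  | zero =>
    intro M _ _ _ h
    obtain ⟨h1, h2⟩ := h
    exact ⟨PUnit, M, inferInstance, inferInstance, inferInstance, inferInstance, inferInstance,
      inferInstance, h2, h1, ⟨LinearEquiv.prodUnique⟩⟩
  | succ n ih =>
    intro M _ _ _ h
    obtain ⟨F, K, _, _, _, _, i, π, h1, h2, h3, h4, h5, h6⟩ := h
    obtain ⟨s, hs⟩ := Module.projective_lifting_property π LinearMap.id h5
    obtain ⟨e, he1, he2⟩ := h4.splitSurjectiveEquiv h3 ⟨s, hs⟩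
    haveI : Module.Projective R K := by
      refine Module.Projective.of_split i (LinearMap.fst R K M ∘ₗ e.toLinearMap) ?_
      rw [he1]
      ext x
      simp
    obtain ⟨G₁, G₂, _, _, _, _, g1, g2, g3, g4, ⟨g⟩⟩ := ih K h6
    refine ⟨G₂, F × G₁, inferInstance, inferInstance, inferInstance, inferInstance, g3, g4,
      inferInstance, inferInstance, ⟨?_⟩⟩
    -- M × G₂ ≃ M × (K × G₁) ≃ (M × K) × G₁ ≃ (K × M) × G₁ ≃ F × G₁
    exact (LinearEquiv.prodCongr (LinearEquiv.refl R M) g.symm).trans
      ((LinearEquiv.prodAssoc R M K G₁).symm.trans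
        (LinearEquiv.prodCongr ((LinearEquiv.prodComm R M K).trans e.symm) (LinearEquiv.refl R G₁)))

section Local

variable [IsLocalRing R] [IsNoetherianRing R]

theorem hasFFR_of_hasProjectiveDimensionLT : ∀ (n : ℕ) (M : Type u) [AddCommGroup M] [Module R M]
    [Module.Finite R M], HasProjectiveDimensionLT (ModuleCat.of R M) (n + 1) → HasFFR R n M := by
  intro n
  induction n with
  | zero =>
    intro M _ _ _ h
    haveI : Projective (ModuleCat.of R M) := inferInstance
    haveI : Module.Projective R M := (IsProjective.iff_projective (R := R) M).mpr this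
    exact ⟨inferInstance, Module.free_of_flat_of_isLocalRing⟩
  | succ n ih =>
    intro M _ _ _ h
    obtain ⟨m, π, hπ⟩ := Module.Finite.exists_fin' R M
    have hS := LinearMap.shortExact_shortComplexKer hπ
    have hproj2 : Projective π.shortComplexKer.X₂ :=
      (IsProjective.iff_projective (R := R) (Fin m → R)).mp inferInstance
    have hK : HasProjectiveDimensionLT (ModuleCat.of R (LinearMap.ker π)) (n + 1) :=
      (hS.hasProjectiveDimensionLT_X₃_iff n hproj2).mp h
    refine ⟨Fin m → R, LinearMap.ker π, inferInstance, inferInstance, inferInstance,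
      inferInstance, (LinearMap.ker π).subtype, π, inferInstance, inferInstance,
      Submodule.injective_subtype _, ?_, hπ, ih _ hK⟩
    exact LinearMap.exact_subtype_ker_map π

end Local

/-- Over a regular local ring every finite module has a finite free resolution. -/
theorem hasFFR_of_isRegularLocalRing (R : Type u) [CommRing R] [IsRegularLocalRing R]
    (M : Type u) [AddCommGroup M] [Module R M] [Module.Finite R M] : ∃ n, HasFFR R n M := by
  obtain ⟨d, hd⟩ : ∃ d : ℕ, ringKrullDim R = d :=
    ⟨_, (IsRegularLocalRing.spanFinrank_maximalIdeal (R := R)).symm⟩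
  exact ⟨d, hasFFR_of_hasProjectiveDimensionLT d M
    (Groth.Agent.H1.Reg.hasProjectiveDimensionLT_of_isRegularLocalRing R d hd _)⟩

end Groth.Agent.H3.FFR
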