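import Mathlib

/-! Nagata's criterion for factoriality. -/

set_option autoImplicit false
universe u v

namespace Groth.Agent.H3.Nagata

variable {A : Type u} [CommRing A] [IsDomain A]

/-- If `b` is irreducible and not prime, then for `s` a product of primes, `b ∣ s * x → b ∣ x`. -/
theorem dvd_of_dvd_mul_closure {P : Set A} (hP : ∀ p ∈ P, Prime p) {b : A} (hb : Irreducible b)
    (hnb : ¬ Prime b) {s : A} (hs : s ∈ Submonoid.closure P) : ∀ x, b ∣ s * x → b ∣ x := by
  induction hs using Submonoid.closure_induction with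
  | mem p hp =>
    rintro x ⟨c, hc⟩
    have hpp := hP p hp
    rcases hpp.dvd_or_dvd ⟨x, hc.symm⟩ with h | h
    · exfalso
      apply hnb
      obtain ⟨u, rfl⟩ := h
      rcases hb.isUnit_or_isUnit rfl with h1 | h1
      · exact absurd h1 hpp.not_isUnit
      · exact (associated_mul_unit_right p u h1).prime hpp
    · obtain ⟨c', rfl⟩ := h
      refine ⟨c', mul_left_cancel₀ hpp.ne_zero ?_⟩
      rw [hc]; ring
  | one => intro x hx; simpa using hx
  | mul s t _ _ ihs iht =>
    intro x h
    exact iht x (ihs (t * x) (by rwa [← mul_assoc]))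

theorem exists_mem_of_closure_mem {P : Set A} {𝔭 : Ideal A} (h𝔭 : 𝔭.IsPrime) {s : A}
    (hs : s ∈ Submonoid.closure P) : s ∈ 𝔭 → ∃ p ∈ P, p ∈ 𝔭 := by
  induction hs using Submonoid.closure_induction with
  | mem p hp => intro h; exact ⟨p, hp, h⟩
  | one => intro h; exact absurd ((Ideal.eq_top_iff_one _).mpr h) h𝔭.ne_top
  | mul s t _ _ ihs iht =>
    intro h
    rcases h𝔭.mem_or_mem h with h | h
    · exact ihs h
    · exact iht h

/-- **Nagata's criterion**. -/
theorem main
    (hfac : ∀ a : A, a ≠ 0 → ¬ IsUnit a →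
      ∃ f : Multiset A, (∀ b ∈ f, Irreducible b) ∧ Associated f.prod a)
    (P : Set A) (hP : ∀ p ∈ P, Prime p) (B : Type v) [CommRing B] [Algebra A B]
    [IsLocalization (Submonoid.closure P) B] [IsDomain B] [UniqueFactorizationMonoid B] :
    UniqueFactorizationMonoid A := by
  classical
  rw [UniqueFactorizationMonoid.iff_exists_prime_mem_of_isPrime]
  intro 𝔭 h0 hprime
  set M := Submonoid.closure P with hM
  by_cases hdisj : Disjoint (M : Set A) 𝔭
  · have hprimeB : (𝔭.map (algebraMap A B)).IsPrime :=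
      IsLocalization.isPrime_of_isPrime_disjoint M B 𝔭 hprime hdisj
    have hzero : (0 : A) ∉ M := fun h => Set.disjoint_left.mp hdisj h 𝔭.zero_mem
    have hne : 𝔭.map (algebraMap A B) ≠ ⊥ := by
      obtain ⟨a, ha, ha0⟩ := Submodule.exists_mem_ne_zero_of_ne_bot h0
      intro hbot
      have h1 : algebraMap A B a ∈ 𝔭.map (algebraMap A B) := Ideal.mem_map_of_mem _ ha
      rw [hbot, Ideal.mem_bot, ← map_zero (algebraMap A B),
        IsLocalization.eq_iff_exists M B] at h1
      obtain ⟨t, ht⟩ := h1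
      rw [mul_zero] at ht
      rcases mul_eq_zero.mp ht with h | h
      · exact hzero (h ▸ t.2)
      · exact ha0 h
    obtain ⟨π, hπmem, hπ⟩ :=
      (UniqueFactorizationMonoid.iff_exists_prime_mem_of_isPrime.mp ‹_›) _ hne hprimeB
    obtain ⟨q, s, hqs⟩ := IsLocalization.exists_mk'_eq M π
    subst hqs
    have hunit : IsUnit (algebraMap A B s) := IsLocalization.map_units B s
    have hqmap : algebraMap A B q = IsLocalization.mk' B q s * algebraMap A B s := by
      rw [IsLocalization.mk'_spec]
    have hqprime : Prime (algebraMap A B q) := by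
      rw [hqmap]
      exact (associated_mul_unit_right (IsLocalization.mk' B q s) _ hunit).prime hπ
    have hcomap : (𝔭.map (algebraMap A B)).comap (algebraMap A B) = 𝔭 :=
      IsLocalization.under_map_of_isPrime_disjoint M B hprime hdisj
    have hq𝔭 : q ∈ 𝔭 := by
      rw [← hcomap, Ideal.mem_comap, hqmap]
      exact Ideal.mul_mem_right _ _ hπmem
    have hq0 : q ≠ 0 := by
      rintro rfl
      rw [map_zero] at hqprime
      exact hqprime.ne_zero rfl
    have hqnu : ¬ IsUnit q := fun h => hprime.ne_top (Ideal.eq_top_of_isUnit_mem _ hq𝔭 h)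
    obtain ⟨f, hfirr, hfq⟩ := hfac q hq0 hqnu
    have hfmem : f.prod ∈ 𝔭 := by
      obtain ⟨u, hu⟩ := hfq.symm
      rw [← hu]
      exact Ideal.mul_mem_right _ _ hq𝔭
    obtain ⟨b, hbf, hb𝔭⟩ := (hprime.multiset_prod_mem_iff_exists_mem f).mp hfmem
    have hbirr := hfirr b hbf
    have hbq : b ∣ q := (Multiset.dvd_prod hbf).trans hfq.dvd
    have hbnu : ¬ IsUnit (algebraMap A B b) := by
      intro h
      exact hprimeB.ne_top (Ideal.eq_top_of_isUnit_mem _ (Ideal.mem_map_of_mem _ hb𝔭) h)
    have hbprimeB : Prime (algebraMap A B b) := by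
      have h1 : algebraMap A B b ∣ algebraMap A B q := map_dvd _ hbq
      rcases (hqprime.irreducible.dvd_iff).mp h1 with h | h
      · exact absurd h hbnu
      · exact h.prime hqprime
    refine ⟨b, hb𝔭, ?_⟩
    by_contra hnb
    apply hnb
    refine ⟨hbirr.ne_zero, hbirr.not_isUnit, fun x y hxy => ?_⟩
    have key : ∀ z : A, algebraMap A B b ∣ algebraMap A B z → b ∣ z := by
      intro z hz
      obtain ⟨c, hc⟩ := hz
      obtain ⟨c', t, rfl⟩ := IsLocalization.exists_mk'_eq M c
      have h2 : algebraMap A B (t * z) = algebraMap A B (b * c') := by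
        rw [map_mul, map_mul, hc, mul_comm (algebraMap A B t), mul_assoc,
          IsLocalization.mk'_spec]
      obtain ⟨r, hr⟩ := (IsLocalization.eq_iff_exists M B).mp h2
      have h3 : b ∣ ((r : A) * t) * z := ⟨r * c', by rw [mul_assoc, hr]; ring⟩
      exact dvd_of_dvd_mul_closure hP hbirr hnb (M.mul_mem r.2 t.2) z h3
    have h1 : algebraMap A B b ∣ algebraMap A B x * algebraMap A B y := by
      rw [← map_mul]; exact map_dvd _ hxy
    rcases hbprimeB.dvd_or_dvd h1 with h | h
    · exact Or.inl (key x h)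
    · exact Or.inr (key y h)
  · rw [Set.not_disjoint_iff] at hdisj
    obtain ⟨s, hsM, hs𝔭⟩ := hdisj
    obtain ⟨p, hpP, hp𝔭⟩ := exists_mem_of_closure_mem hprime hsM hs𝔭
    exact ⟨p, hp𝔭, hP p hpP⟩

end Groth.Agent.H3.Nagata
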