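import Mathlib
import Groth.Agent.Lib.Helper3.CA.FFR
import Groth.Agent.Lib.Helper3.CA.ABufd1
import Groth.Agent.Lib.Helper3.CA.Nagata
import Groth.Agent.Lib.Helper1.RegDer
import Groth.Agent.Lib.Helper3.CA.RegSepBaseChange

/-! The Auslander–Buchsbaum theorem: regular local rings are factorial. -/

set_option autoImplicit false
universe u

namespace Groth.Agent.H3.ABufd

open TensorProduct IsLocalRing

/-- A field is a UFD (stated via `IsField`). -/
theorem ufd_of_isField {R : Type u} [CommRing R] [IsDomain R] (h : IsField R) :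
    UniqueFactorizationMonoid R := by
  rw [UniqueFactorizationMonoid.iff_exists_prime_mem_of_isPrime]
  intro I hI hp
  exfalso
  letI := h.toField
  rcases Ideal.eq_bot_or_top I with h1 | h1
  · exact hI h1
  · exact hp.ne_top h1

theorem exists_mem_not_mem_sq {R : Type u} [CommRing R] [IsLocalRing R] [IsNoetherianRing R]
    (hm : maximalIdeal R ≠ ⊥) : ∃ x ∈ maximalIdeal R, x ∉ maximalIdeal R ^ 2 := by
  by_contra hcon
  push Not at hcon
  apply hm
  refine Submodule.eq_bot_of_le_smul_of_le_jacobson_bot (maximalIdeal R) (maximalIdeal R)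
    (IsNoetherian.noetherian _) ?_ ?_
  · intro x hx
    have := hcon x hx
    rwa [pow_two] at this
  · rw [IsLocalRing.jacobson_eq_maximalIdeal ⊥ bot_ne_top]

section Step

variable (R : Type u) [CommRing R] [IsRegularLocalRing R] [IsDomain R]

/-- Localizations of `R_x` at primes have smaller dimension. -/
theorem ringKrullDim_localization_lt (x : R) (hx : x ∈ maximalIdeal R)
    (𝔫 : Ideal (Localization.Away x)) [𝔫.IsPrime] :
    ringKrullDim (Localization.AtPrime 𝔫) < ringKrullDim R := by
  rw [IsLocalization.AtPrime.ringKrullDim_eq_height 𝔫 (Localization.AtPrime 𝔫),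
    ← IsLocalization.height_under (Submonoid.powers x) 𝔫,
    ← IsLocalRing.maximalIdeal_height_eq_ringKrullDim]
  have hlt : 𝔫.under R < maximalIdeal R := by
    refine lt_of_le_of_ne (IsLocalRing.le_maximalIdeal (Ideal.IsPrime.ne_top inferInstance)) ?_
    intro h
    have h1 : x ∈ 𝔫.under R := h ▸ hx
    rw [Ideal.under_def, Ideal.mem_comap] at h1
    exact (Ideal.IsPrime.ne_top ‹𝔫.IsPrime›) (Ideal.eq_top_of_isUnit_mem _ h1
      (IsLocalization.Away.algebraMap_isUnit x))
  exact_mod_cast Ideal.height_strict_mono_of_isPrime_of_isPrime hlt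

end Step

/-- **Auslander–Buchsbaum**: a regular local ring is a UFD. -/
theorem ufd_aux : ∀ (d : ℕ) (R : Type u) [CommRing R] [IsRegularLocalRing R] [IsDomain R],
    ringKrullDim R = d → UniqueFactorizationMonoid R := by
  intro d
  induction d using Nat.strong_induction_on with
  | _ d ih =>
  intro R _ _ _ hd
  by_cases hm : maximalIdeal R = ⊥
  · exact ufd_of_isField (IsLocalRing.isField_iff_maximalIdeal_eq.mpr hm)
  obtain ⟨x, hxm, hx2⟩ := exists_mem_not_mem_sq hm
  have hx0 : x ≠ 0 := by
    rintro rfl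
    exact hx2 (Ideal.zero_mem _)
  -- `x` is a prime element
  have hxprime : Prime x := by
    haveI := Groth.Agent.H1.RegDer.isRegularLocalRing_quotient_of_not_mem_sq R x hxm hx2
    haveI : IsDomain (R ⧸ Ideal.span ({x} : Set R)) := Groth.Agent.H7.Reg.isDomain _
    have : (Ideal.span ({x} : Set R)).IsPrime := (Ideal.Quotient.isDomain_iff_prime _).mp ‹_›
    exact (Ideal.span_singleton_prime hx0).mp this
  -- the localization `B = R_x`
  let B := Localization.Away x
  haveI : IsLocalization (Submonoid.closure ({x} : Set R)) B := by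
    rw [← Submonoid.powers_eq_closure]
    infer_instance
  haveI : IsDomain B :=
    IsLocalization.isDomain_localization (powers_le_nonZeroDivisors_of_noZeroDivisors hx0)
  haveI : IsRegularRing R := Groth.Agent.H3.RegSep.isRegularRing_of_isRegularLocalRing R
  haveI : IsRegularRing B :=
    Groth.Agent.H1.Reg.isRegularRing_of_isLocalization R (Submonoid.powers x) B
  -- every localization of `B` at a prime is a UFD
  have hloc : ∀ (𝔫 : Ideal B) [𝔫.IsPrime], UniqueFactorizationMonoid (Localization.AtPrime 𝔫) := by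
    intro 𝔫 _
    obtain ⟨d', hd'⟩ : ∃ d' : ℕ, ringKrullDim (Localization.AtPrime 𝔫) = d' :=
      ⟨_, (IsRegularLocalRing.spanFinrank_maximalIdeal (R := Localization.AtPrime 𝔫)).symm⟩
    have hlt := ringKrullDim_localization_lt R x hxm 𝔫
    rw [hd, hd'] at hlt
    exact ih d' (by exact_mod_cast hlt) (Localization.AtPrime 𝔫) hd'
  suffices hB : UniqueFactorizationMonoid B by
    refine Groth.Agent.H3.Nagata.main (fun a ha _ => WfDvdMonoid.exists_factors a ha) {x}
      (fun p hp => ?_) B
    rw [Set.mem_singleton_iff] at hp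
    exact hp ▸ hxprime
  rw [UniqueFactorizationMonoid.iff_exists_prime_mem_of_isPrime]
  intro Q hQ0 hQ
  obtain ⟨a, haQ, ha0⟩ := Submodule.exists_mem_ne_zero_of_ne_bot hQ0
  obtain ⟨P, hPmin, hPQ⟩ := Ideal.exists_minimalPrimes_le
    (show Ideal.span {a} ≤ Q from (Ideal.span_singleton_le_iff_mem _).mpr haQ)
  haveI hPprime : P.IsPrime := hPmin.1.1
  have haP : a ∈ P := hPmin.1.2 (Ideal.mem_span_singleton_self a)
  have hP0 : P ≠ ⊥ := fun h => ha0 (by rwa [h, Ideal.mem_bot] at haP)
  -- `P` is projective
  haveI hproj : Module.Projective B P := by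
    apply projective_of_locally_principal
    intro 𝔫 h𝔫
    haveI := hloc 𝔫
    by_cases hP𝔫 : P ≤ 𝔫
    · apply isPrincipal_of_mem_minimalPrimes (a := algebraMap B (Localization.AtPrime 𝔫) a)
      · intro h
        exact ha0 ((IsLocalization.injective (Localization.AtPrime 𝔫)
          𝔫.primeCompl_le_nonZeroDivisors) (by rw [h, map_zero]))
      · have h1 := IsLocalization.minimalPrimes_map 𝔫.primeCompl (Localization.AtPrime 𝔫)
          (Ideal.span {a})
        rw [Ideal.map_span, Set.image_singleton] at h1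
        rw [h1, Set.mem_preimage]
        have hdisj : Disjoint (𝔫.primeCompl : Set B) (P : Set B) := by
          rw [Set.disjoint_left]
          intro y hy hyP
          exact hy (hP𝔫 hyP)
        rw [IsLocalization.under_map_of_isPrime_disjoint 𝔫.primeCompl (Localization.AtPrime 𝔫)
          hPprime hdisj]
        exact hPmin
    · obtain ⟨y, hyP, hy𝔫⟩ := SetLike.not_le_iff_exists.mp hP𝔫
      have : P.map (algebraMap B (Localization.AtPrime 𝔫)) = ⊤ := by
        apply Ideal.eq_top_of_isUnit_mem _ (Ideal.mem_map_of_mem _ hyP)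
        exact IsLocalization.map_units (Localization.AtPrime 𝔫) (⟨y, hy𝔫⟩ : 𝔫.primeCompl)
      rw [this]
      exact ⟨1, Ideal.span_singleton_one.symm⟩
  -- `P` has a finite free resolution
  have hffr : ∃ n, FFR.HasFFR B n P := by
    obtain ⟨n, hn⟩ := FFR.hasFFR_of_isRegularLocalRing R (P.under R)
    obtain ⟨e⟩ := nonempty_tensor_equiv_map R B (P.under R)
    have h1 := FFR.HasFFR.baseChange B n (P.under R) hn
    have h2 := h1.of_linearEquiv e
    have h3 : (P.under R).map (algebraMap R B) = P := IsLocalization.map_under (Submonoid.powers x) B P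
    exact ⟨n, h2.of_linearEquiv (LinearEquiv.ofEq _ _ h3)⟩
  obtain ⟨n, hn⟩ := hffr
  obtain ⟨F₁, F₂, _, _, _, _, f1, f2, f3, f4, ⟨e⟩⟩ := FFR.stablyFree_of_projective n P hn
  haveI : Module.Free B (P × F₁) := Module.Free.of_equiv e.symm
  haveI : Module.IsStablyFree B P := Module.IsStablyFree.of_free_prod B P F₁
  obtain ⟨π, hπ⟩ := isPrincipal_of_isStablyFree P hP0
  have hπ' : P = Ideal.span {π} := hπ
  have hπ0 : π ≠ 0 := by
    rintro rfl
    apply hP0
    rw [hπ', Ideal.span_singleton_eq_bot]
  refine ⟨π, hPQ (hπ' ▸ Ideal.mem_span_singleton_self π), ?_⟩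
  rw [← Ideal.span_singleton_prime hπ0, ← hπ']
  exact hPprime

theorem main (R : Type u) [CommRing R] [IsRegularLocalRing R] :
    IsDomain R ∧ UniqueFactorizationMonoid R := by
  haveI : IsDomain R := Groth.Agent.H7.Reg.isDomain R
  obtain ⟨d, hd⟩ : ∃ d : ℕ, ringKrullDim R = d :=
    ⟨_, (IsRegularLocalRing.spanFinrank_maximalIdeal (R := R)).symm⟩
  exact ⟨inferInstance, ufd_aux d R hd⟩

end Groth.Agent.H3.ABufd
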