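import Mathlib
import Groth.Prelude.Def_EGA4b
import Groth.Agent.S0543
import Groth.Agent.Lib.Helper1.ComplQuot
import Groth.Agent.Lib.Helper3.CA.RegHomLoc
import Groth.Agent.Lib.Helper3.CA.NormHomLoc
import Groth.Agent.Lib.Helper6.Liai3

/-! Helper3: formal fibres of a quotient `A/I` of a Noetherian local ring. -/

set_option autoImplicit false
universe u
open TensorProduct IsLocalRing

namespace Groth.Agent.H3.FFQ

variable (A : Type u) [CommRing A] [IsNoetherianRing A] [IsLocalRing A] (I : Ideal A)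
  [IsLocalRing (A ⧸ I)]

instance : IsNoetherianRing (EGA4.Cpl A) := Groth.Agent.S0543.result A _

/-- `Â/IÂ ≃ (A/I)^` as `A/I`-algebras. -/
noncomputable def quotAlgEquiv :
    (EGA4.Cpl A ⧸ I.map (algebraMap A (EGA4.Cpl A))) ≃ₐ[A ⧸ I] EGA4.Cpl (A ⧸ I) :=
  AlgEquiv.ofRingEquiv (f := Groth.Agent.H1.ComplQuot.quotEquiv I) (by
    intro x
    obtain ⟨a, rfl⟩ := Ideal.Quotient.mk_surjective x
    exact Groth.Agent.H1.ComplQuot.quotEquiv_mk_of I a)

/-- `(A/I) ⊗_A Â ≃ (A/I)^` as `A/I`-algebras. -/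
noncomputable def cplQuotAlgEquiv :
    ((A ⧸ I) ⊗[A] EGA4.Cpl A) ≃ₐ[A ⧸ I] EGA4.Cpl (A ⧸ I) :=
  (Algebra.TensorProduct.quotIdealMapEquivQuotTensor (EGA4.Cpl A) I).symm.trans (quotAlgEquiv A I)

instance : IsNoetherianRing ((A ⧸ I) ⊗[A] EGA4.Cpl A) :=
  isNoetherianRing_of_ringEquiv (EGA4.Cpl A ⧸ I.map (algebraMap A (EGA4.Cpl A)))
    (Algebra.TensorProduct.quotIdealMapEquivQuotTensor (EGA4.Cpl A) I).toRingEquiv

theorem isRegularHom_cpl_quotient (hA : CAlg.IsRegularHom A (EGA4.Cpl A)) :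
    CAlg.IsRegularHom (A ⧸ I) (EGA4.Cpl (A ⧸ I)) :=
  Groth.Agent.H3.RegHomBC.isRegularHom_of_algEquiv _ _ _ (cplQuotAlgEquiv A I)
    (Groth.Agent.H3.RegHomBC.isRegularHom_baseChange_of_isNoetherianRing A (EGA4.Cpl A) (A ⧸ I) hA)


open Groth.Agent.H8.NHC Groth.Agent.H8.NHR Groth.Agent.H8.NHB Groth.Agent.H8.GNorm in
theorem hasGeomReducedFormalFibres_quotient (hA : EGA4.HasGeomReducedFormalFibres A) :
    EGA4.HasGeomReducedFormalFibres (A ⧸ I) :=
  Groth.Agent.H3.NormHomLoc.geomReducedFibres_of_algEquiv _ _ _ (cplQuotAlgEquiv A I)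
    (Groth.Agent.H3.NormHomLoc.geomReducedFibres_baseChange A (EGA4.Cpl A) (A ⧸ I) hA)

open Groth.Agent.H8.NHC Groth.Agent.H8.NHB Groth.Agent.H8.GNorm in
theorem geomNormalFibres_of_algEquiv (R S S' : Type u) [CommRing R] [CommRing S] [CommRing S']
    [Algebra R S] [Algebra R S'] (e : S ≃ₐ[R] S') (h : GeomNormalFibres R S) :
    GeomNormalFibres R S' := by
  intro p _ K _ _ hfin
  let ep : p.Fiber S ≃ₐ[p.ResidueField] p.Fiber S' :=
    Algebra.TensorProduct.congr (AlgEquiv.refl : p.ResidueField ≃ₐ[p.ResidueField] p.ResidueField) e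
  let eK : K ⊗[p.ResidueField] p.Fiber S ≃ₐ[K] K ⊗[p.ResidueField] p.Fiber S' :=
    Algebra.TensorProduct.congr (AlgEquiv.refl : K ≃ₐ[K] K) ep
  exact NormalLoc.of_ringEquiv eK.toRingEquiv (h p K hfin)

open Groth.Agent.H8.NHC Groth.Agent.H8.NHB Groth.Agent.H8.GNorm in
theorem hasGeomNormalFormalFibres_quotient (hA : EGA4.HasGeomNormalFormalFibres A) :
    EGA4.HasGeomNormalFormalFibres (A ⧸ I) :=
  geomNormalFibres_of_algEquiv _ _ _ (cplQuotAlgEquiv A I)
    (geomNormalFibres_baseChange A (EGA4.Cpl A) (A ⧸ I) hA)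

/-- The fibre of a base change along a surjection `A → A'`. -/
noncomputable def fiberEquivOfSurjective (A A' B : Type u) [CommRing A] [CommRing A'] [CommRing B]
    [Algebra A A'] [Algebra A B] (hs : Function.Surjective (algebraMap A A'))
    (q : Ideal A') [q.IsPrime] :
    q.Fiber (A' ⊗[A] B) ≃+* (q.under A).Fiber B :=
  have : q.LiesOver (q.under A) := ⟨rfl⟩
  let _ := Localization.AtPrime.algebraOfLiesOver (q.under A) q
  have H : Function.Bijective (Ideal.ResidueField.mapₐ (q.under A) q (Algebra.ofId A A')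
      (q.over_def (q.under A))) :=
    (RingHom.surjectiveOnStalks_of_surjective hs).residueFieldMap_bijective _ _ _
  let e : q.Fiber (A' ⊗[A] B) ≃ₐ[(q.under A).ResidueField] (q.under A).Fiber B :=
    ((Algebra.TensorProduct.cancelBaseChange _ _ q.ResidueField _ _).restrictScalars _).trans
      (Algebra.TensorProduct.congr (.symm <| .ofBijective (Algebra.ofId _ _) H) .refl)
  e.toRingEquiv

theorem hasCMFormalFibres_quotient (hA : EGA4.HasCMFormalFibres A) :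
    EGA4.HasCMFormalFibres (A ⧸ I) := by
  intro q _
  have h1 := hA (q.under A)
  have e1 : q.Fiber ((A ⧸ I) ⊗[A] EGA4.Cpl A) ≃+* (q.under A).Fiber (EGA4.Cpl A) :=
    fiberEquivOfSurjective A (A ⧸ I) (EGA4.Cpl A) Ideal.Quotient.mk_surjective q
  have e2 : q.Fiber ((A ⧸ I) ⊗[A] EGA4.Cpl A) ≃+* q.Fiber (EGA4.Cpl (A ⧸ I)) :=
    (Algebra.TensorProduct.congr (AlgEquiv.refl : q.ResidueField ≃ₐ[A ⧸ I] q.ResidueField)
      (cplQuotAlgEquiv A I)).toRingEquiv
  exact Groth.Agent.H6.Liai.cm_of_ringEquiv (hA := h1) (e1.symm.trans e2)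

end Groth.Agent.H3.FFQ
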