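import Mathlib

set_option autoImplicit false

universe u

namespace Groth.Agent.H3.Chase

variable {R : Type u} [CommRing R]

/-- The presentation map `R^l → I = (f_1, …, f_l)`. -/
noncomputable def pres {l : ℕ} (f : Fin l → R) :
    (Fin l → R) →ₗ[R] (Ideal.span (Set.range f) : Ideal R) :=
  Fintype.linearCombination R
    (fun i => (⟨f i, Ideal.subset_span ⟨i, rfl⟩⟩ : (Ideal.span (Set.range f) : Ideal R)))

theorem pres_coe {l : ℕ} (f : Fin l → R) (v : Fin l → R) :
    ((pres f v : (Ideal.span (Set.range f) : Ideal R)) : R) = ∑ i, v i * f i := by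
  rw [pres, Fintype.linearCombination_apply]
  rw [Submodule.coe_sum]
  rfl

theorem pres_surjective {l : ℕ} (f : Fin l → R) : Function.Surjective (pres f) := by
  rintro ⟨y, hy⟩
  have hy' : y ∈ Submodule.span R (Set.range f) := hy
  obtain ⟨c, rfl⟩ := (Submodule.mem_span_range_iff_exists_fun R).mp hy'
  refine ⟨c, Subtype.ext ?_⟩
  rw [pres_coe]
  rfl

theorem mem_ker_pres {l : ℕ} (f : Fin l → R) (v : Fin l → R) :
    v ∈ LinearMap.ker (pres f) ↔ ∑ i, v i * f i = 0 := by
  rw [LinearMap.mem_ker, ← pres_coe, Subtype.ext_iff]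
  rfl

theorem flat_pi_of_coherent (h : ∀ I : Ideal R, I.FG → Module.FinitePresentation R I)
    (A : Type u) : Module.Flat R (A → R) := by
  apply Module.Flat.of_forall_isTrivialRelation
  intro l f x hfx
  have hI : (Ideal.span (Set.range f) : Ideal R).FG :=
    Submodule.fg_span (Set.finite_range f)
  haveI := h _ hI
  have hker : (LinearMap.ker (pres f)).FG :=
    Module.FinitePresentation.fg_ker (pres f) (pres_surjective f)
  obtain ⟨k, a, ha⟩ := Submodule.fg_iff_exists_fin_generating_family.mp hker
  have hw : ∀ α : A, (fun i => x i α) ∈ LinearMap.ker (pres f) := by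
    intro α
    rw [mem_ker_pres]
    have := congr_fun hfx α
    simp only [Finset.sum_apply, Pi.smul_apply, smul_eq_mul, Pi.zero_apply] at this
    rw [← this]
    exact Finset.sum_congr rfl fun i _ => mul_comm _ _
  have hw' : ∀ α : A, ∃ c : Fin k → R, ∑ j, c j • a j = (fun i => x i α) := by
    intro α
    have := hw α
    rw [← ha] at this
    exact (Submodule.mem_span_range_iff_exists_fun R).mp this
  choose c hc using hw'
  refine ⟨k, fun i j => a j i, fun j α => c α j, ?_, ?_⟩
  · intro i
    funext α
    have := congr_fun (hc α) i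
    simp only [Finset.sum_apply, Pi.smul_apply, smul_eq_mul] at this ⊢
    rw [← this]
    exact Finset.sum_congr rfl fun j _ => mul_comm _ _
  · intro j
    have haj : a j ∈ LinearMap.ker (pres f) := by
      rw [← ha]; exact Submodule.subset_span ⟨j, rfl⟩
    rw [mem_ker_pres] at haj
    rw [← haj]
    exact Finset.sum_congr rfl fun i _ => mul_comm _ _

theorem coherent_of_flat_pi (h : ∀ (A : Type u), Module.Flat R (A → R)) (I : Ideal R)
    (hI : I.FG) : Module.FinitePresentation R I := by
  obtain ⟨l, f, rfl⟩ := Submodule.fg_iff_exists_fin_generating_family.mp hI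
  show Module.FinitePresentation R (Ideal.span (Set.range f) : Ideal R)
  apply Module.finitePresentation_of_free_of_surjective (pres f) (pres_surjective f)
  set K := LinearMap.ker (pres f) with hK
  let x : Fin l → (K → R) := fun i κ => κ.1 i
  have hfx : ∑ i, f i • x i = 0 := by
    funext κ
    simp only [Finset.sum_apply, Pi.smul_apply, smul_eq_mul, Pi.zero_apply, x]
    have := (mem_ker_pres f κ.1).mp κ.2
    rw [← this]
    exact Finset.sum_congr rfl fun i _ => mul_comm _ _
  haveI := h K
  obtain ⟨k, a, y, hxy, hfa⟩ := Module.Flat.isTrivialRelation_of_sum_smul_eq_zero hfx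
  rw [Submodule.fg_iff_exists_fin_generating_family]
  refine ⟨k, fun j i => a i j, ?_⟩
  apply le_antisymm
  · rw [Submodule.span_le]
    rintro _ ⟨j, rfl⟩
    show (fun i => a i j) ∈ K
    rw [hK, mem_ker_pres]
    rw [← hfa j]
    exact Finset.sum_congr rfl fun i _ => mul_comm _ _
  · intro v hv
    rw [Submodule.mem_span_range_iff_exists_fun]
    refine ⟨fun j => y j ⟨v, hv⟩, ?_⟩
    funext i
    have := congr_fun (hxy i) ⟨v, hv⟩
    simp only [Finset.sum_apply, Pi.smul_apply, smul_eq_mul, x] at this ⊢
    rw [this]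
    exact Finset.sum_congr rfl fun j _ => mul_comm _ _

theorem main : (∀ I : Ideal R, I.FG → Module.FinitePresentation R I) ↔
    ∀ (A : Type u), Module.Flat R (A → R) :=
  ⟨flat_pi_of_coherent, coherent_of_flat_pi⟩

end Groth.Agent.H3.Chase
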