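import Mathlib

/-!
# Chains of ideals inside the conductor (helper3)
-/

set_option autoImplicit false
universe u

namespace Groth.Agent.H3.CondChain

theorem main (S R : Type u) [CommRing S] [CommRing R] [Algebra S R]
    [FaithfulSMul S R] [IsNoetherianRing R] [Module.Finite S R] (c : Ideal S)
    (hc : ∀ s : S, s ∈ c ↔ ∀ r : R, ∃ s' : S, algebraMap S R s' = algebraMap S R s * r)
    [IsNoetherianRing (S ⧸ c)] (a : ℕ →o Ideal S) (ha : ∀ n, a n ≤ c) :
    ∃ N : ℕ, ∀ n, N ≤ n → a n = a N := by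
  classical
  set φ := algebraMap S R with hφdef
  have hφ : Function.Injective φ := FaithfulSMul.algebraMap_injective S R
  -- `c` is stable under multiplication by `R`
  have hcR : ∀ s ∈ c, ∀ r : R, ∃ s' ∈ c, φ s' = φ s * r := by
    intro s hs r
    obtain ⟨s', hs'⟩ := (hc s).mp hs r
    refine ⟨s', (hc s').mpr fun r' => ?_, hs'⟩
    obtain ⟨s'', hs''⟩ := (hc s).mp hs (r * r')
    exact ⟨s'', by rw [hs'', hs', mul_assoc]⟩
  have hcmap : ∀ u ∈ Ideal.map φ c, ∃ s ∈ c, φ s = u := by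
    intro u hu
    refine Submodule.span_induction ?_ ?_ ?_ ?_ hu
    · rintro _ ⟨s, hs, rfl⟩
      exact ⟨s, hs, rfl⟩
    · exact ⟨0, c.zero_mem, map_zero _⟩
    · rintro x y _ _ ⟨s, hs, rfl⟩ ⟨t, ht, rfl⟩
      exact ⟨s + t, c.add_mem hs ht, map_add _ _ _⟩
    · rintro r x _ ⟨s, hs, rfl⟩
      obtain ⟨s', hs', h⟩ := hcR s hs r
      exact ⟨s', hs', by rw [h, smul_eq_mul, mul_comm]⟩
  -- stabilization of `a n R`
  obtain ⟨N, hN⟩ := monotone_stabilizes_iff_noetherian.mpr (inferInstance : IsNoetherian R R)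
    ⟨fun n => Ideal.map φ (a n), fun m n h => Ideal.map_mono (a.monotone h)⟩
  set b : Ideal R := Ideal.map φ (a N) with hb
  have hbn : ∀ n, N ≤ n → Ideal.map φ (a n) = b := fun n hn => (hN n hn).symm
  -- `φ(c) b ⊆ φ(a N)`
  have hA : ∀ v ∈ b, ∀ s ∈ c, ∃ z ∈ a N, φ z = φ s * v := by
    intro v hv
    refine Submodule.span_induction ?_ ?_ ?_ ?_ hv
    · rintro _ ⟨t, ht, rfl⟩ s hs
      exact ⟨s * t, Ideal.mul_mem_left _ _ ht, map_mul _ _ _⟩
    · intro s hs
      exact ⟨0, (a N).zero_mem, by simp⟩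
    · intro x y _ _ hx hy s hs
      obtain ⟨z1, hz1, h1⟩ := hx s hs
      obtain ⟨z2, hz2, h2⟩ := hy s hs
      exact ⟨z1 + z2, (a N).add_mem hz1 hz2, by rw [map_add, h1, h2, mul_add]⟩
    · intro r x _ hx s hs
      obtain ⟨s', hs', h⟩ := hcR s hs r
      obtain ⟨z, hz, h1⟩ := hx s' hs'
      exact ⟨z, hz, by rw [h1, h, smul_eq_mul, mul_assoc]⟩
  have hkey : ∀ x ∈ Ideal.map φ c * b, ∃ z ∈ a N, φ z = x := by
    intro x hx
    refine Submodule.mul_induction_on hx ?_ ?_
    · intro u hu v hv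
      obtain ⟨s, hs, rfl⟩ := hcmap u hu
      exact hA v hv s hs
    · rintro x y ⟨z1, hz1, rfl⟩ ⟨z2, hz2, rfl⟩
      exact ⟨z1 + z2, (a N).add_mem hz1 hz2, map_add _ _ _⟩
  -- the Noetherian `S`-module `b / c b`
  let bS : Submodule S R := b.restrictScalars S
  let cbS : Submodule S R := (Ideal.map φ c * b).restrictScalars S
  let K : Submodule S bS := cbS.comap bS.subtype
  haveI : Module.Finite R b := Module.Finite.of_fg (IsNoetherian.noetherian b)
  haveI : Module.Finite S b := Module.Finite.trans R b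
  haveI : Module.Finite S bS :=
    Module.Finite.equiv ((Submodule.restrictScalarsEquiv S R R b).symm.restrictScalars S)
  haveI : Module.Finite S (bS ⧸ K) := inferInstance
  have htors : Module.IsTorsionBySet S (bS ⧸ K) c := by
    rintro x ⟨s, hs⟩
    obtain ⟨⟨y, hy⟩, rfl⟩ := Submodule.Quotient.mk_surjective K x
    rw [← Submodule.Quotient.mk_smul, Submodule.Quotient.mk_eq_zero]
    show (s • y) ∈ Ideal.map φ c * b
    rw [Algebra.smul_def]
    exact Ideal.mul_mem_mul (Ideal.mem_map_of_mem _ hs) hy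
  letI := htors.module
  haveI : Module.Finite (S ⧸ c) (bS ⧸ K) := Module.Finite.of_restrictScalars_finite S _ _
  haveI : IsNoetherian (S ⧸ c) (bS ⧸ K) := isNoetherian_of_isNoetherianRing_of_finite _ _
  -- the chain of images
  let Y : ℕ →o Submodule S (bS ⧸ K) :=
    ⟨fun n => Submodule.map K.mkQ (Submodule.comap bS.subtype
        (Submodule.map (Algebra.linearMap S R) (a n))), fun m n h =>
      Submodule.map_mono (Submodule.comap_mono (Submodule.map_mono (a.monotone h)))⟩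
  have hsurj : Function.Surjective (algebraMap S (S ⧸ c)) := Ideal.Quotient.mk_surjective
  obtain ⟨N', hN''⟩ := monotone_stabilizes_iff_noetherian.mpr
    (inferInstance : IsNoetherian (S ⧸ c) (bS ⧸ K))
    ⟨fun n => Submodule.span (S ⧸ c) (Y n : Set (bS ⧸ K)), fun m n h =>
      Submodule.span_mono (Y.monotone h)⟩
  have hN' : ∀ n, N' ≤ n → Y N' = Y n := by
    intro n hn
    have h := congrArg (Submodule.restrictScalars S) (hN'' n hn)
    simp only [OrderHom.coe_mk] at h
    rw [Submodule.restrictScalars_span S (S ⧸ c) hsurj, Submodule.restrictScalars_span S (S ⧸ c) hsurj,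
      Submodule.span_eq, Submodule.span_eq] at h
    exact h
  refine ⟨max N N', fun n hn => le_antisymm ?_ (a.monotone hn)⟩
  intro x hx
  have hnN : N ≤ n := (le_max_left _ _).trans hn
  have hnN' : N' ≤ n := (le_max_right _ _).trans hn
  have hxb : φ x ∈ b := by
    rw [← hbn n hnN]
    exact Ideal.mem_map_of_mem _ hx
  have h1 : K.mkQ ⟨φ x, hxb⟩ ∈ Y n :=
    Submodule.mem_map_of_mem (show (⟨φ x, hxb⟩ : bS) ∈ _ from ⟨x, hx, rfl⟩)
  have h2 : Y n = Y (max N N') := by
    rw [← hN' n hnN', ← hN' (max N N') (le_max_right _ _)]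
  rw [h2] at h1
  obtain ⟨⟨w, hwb⟩, ⟨y, hy, hyw⟩, hw⟩ := h1
  have h3 : (⟨w, hwb⟩ : bS) - ⟨φ x, hxb⟩ ∈ K := by
    rw [← Submodule.Quotient.mk_eq_zero, Submodule.Quotient.mk_sub, sub_eq_zero]
    exact hw
  have h4 : w - φ x ∈ Ideal.map φ c * b := h3
  obtain ⟨z, hz, hzx⟩ := hkey _ h4
  have hyw' : φ y = w := hyw
  have : x = y - z := by
    apply hφ
    rw [map_sub, hzx, hyw']
    ring
  rw [this]
  exact (a _).sub_mem hy (a.monotone (le_max_left _ _) hz)

end Groth.Agent.H3.CondChain
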