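import Mathlib

set_option autoImplicit false

universe u

namespace Groth.Agent.H3.CoprimFilt

open Submodule

variable {A : Type u} [CommRing A] [IsNoetherianRing A]

/-- If `Ass Q ⊆ {p}` and `s ∉ p`, then `s` is `Q`-regular. -/
theorem eq_zero_of_smul_eq_zero {Q : Type u} [AddCommGroup Q] [Module A Q] (p : Ideal A)
    (hQ : associatedPrimes A Q ⊆ {p}) {s : A} (hs : s ∉ p) {y : Q} (hy : s • y = 0) : y = 0 := by
  by_contra hne
  obtain ⟨P, hP, hle⟩ := exists_le_isAssociatedPrime_of_isNoetherianRing A y hne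
  have hPp : P = p := hQ hP
  apply hs
  rw [← hPp]
  apply hle
  rw [mem_colon_singleton, hy]
  exact zero_mem _

theorem step_Q (Q : Type u) [AddCommGroup Q] [Module A Q] [Module.Finite A Q] [Nontrivial Q]
    (p : Ideal A) (hQ : associatedPrimes A Q ⊆ {p}) :
    ∃ L : Submodule A Q, L ≠ ⊥ ∧ associatedPrimes A (Q ⧸ L) ⊆ {p} ∧
      ∃ g : L →ₗ[A] A ⧸ p, Function.Injective g := by
  classical
  obtain ⟨P, hP⟩ := associatedPrimes.nonempty A Q
  have hPp : P = p := hQ hP
  subst hPp
  have hP' := hP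
  rw [AssociatedPrimes.mem_iff, isAssociatedPrime_iff] at hP'
  obtain ⟨hprime, x, hx⟩ := hP'
  have hmemP : ∀ a : A, a ∈ P ↔ a • x = 0 := by
    intro a
    rw [hx, mem_colon_singleton, mem_bot]
  have hxne : x ≠ 0 := by
    intro h0
    apply hprime.ne_top
    rw [Ideal.eq_top_iff_one, hmemP, h0, smul_zero]
  -- the saturation of `A x`
  let L : Submodule A Q :=
    { carrier := {y | ∃ s : A, s ∉ P ∧ s • y ∈ span A {x}}
      zero_mem' := ⟨1, hprime.one_notMem, by rw [smul_zero]; exact zero_mem _⟩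
      add_mem' := by
        rintro y y' ⟨s, hs, hsy⟩ ⟨s', hs', hsy'⟩
        refine ⟨s * s', fun h => (hprime.mem_or_mem h).elim hs hs', ?_⟩
        rw [smul_add]
        apply add_mem
        · rw [mul_comm, mul_smul]; exact smul_mem _ _ hsy
        · rw [mul_smul]; exact smul_mem _ _ hsy'
      smul_mem' := by
        rintro a y ⟨s, hs, hsy⟩
        exact ⟨s, hs, by rw [smul_comm]; exact smul_mem _ _ hsy⟩ }
  have hLmem : ∀ y, y ∈ L ↔ ∃ s : A, s ∉ P ∧ s • y ∈ span A {x} := fun y => Iff.rfl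
  have hxL : x ∈ L := ⟨1, hprime.one_notMem, by rw [one_smul]; exact mem_span_singleton_self x⟩
  refine ⟨L, ?_, ?_, ?_⟩
  · intro hL
    rw [hL, mem_bot] at hxL
    exact hxne hxL
  · -- associated primes of the quotient
    intro q hq
    rw [Set.mem_singleton_iff]
    have hq' := hq
    rw [AssociatedPrimes.mem_iff, isAssociatedPrime_iff] at hq'
    obtain ⟨hqprime, zb, hz⟩ := hq'
    obtain ⟨z, rfl⟩ := Submodule.Quotient.mk_surjective _ zb
    have hmemq : ∀ a : A, a ∈ q ↔ a • z ∈ L := by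
      intro a
      rw [hz, mem_colon_singleton, mem_bot, ← Submodule.Quotient.mk_smul,
        Submodule.Quotient.mk_eq_zero]
    apply le_antisymm
    · -- `q ≤ P`
      intro s hsq
      by_contra hsP
      obtain ⟨s', hs', hs'z⟩ := (hmemq s).mp hsq
      have hzL : z ∈ L := by
        refine ⟨s' * s, fun h => (hprime.mem_or_mem h).elim hs' hsP, ?_⟩
        rw [mul_smul]; exact hs'z
      apply hqprime.ne_top
      rw [Ideal.eq_top_iff_one, hmemq, one_smul]
      exact hzL
    · -- `P ≤ q`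
      have hann : Module.annihilator A Q ≤ q := by
        intro a ha
        rw [hmemq]
        rw [Module.mem_annihilator.mp ha z]
        exact zero_mem _
      obtain ⟨P', hP'min, hP'q⟩ := Ideal.exists_minimalPrimes_le hann
      have := hQ (Module.associatedPrimes.minimalPrimes_annihilator_subset_associatedPrimes A Q
        hP'min)
      rw [Set.mem_singleton_iff] at this
      rw [← this]
      exact hP'q
  · -- the embedding
    have hLfg : L.FG := IsNoetherian.noetherian L
    obtain ⟨k, y, hy⟩ := Submodule.fg_iff_exists_fin_generating_family.mp hLfg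
    have hyL : ∀ j, y j ∈ L := fun j => by rw [← hy]; exact subset_span ⟨j, rfl⟩
    choose s hs hsy using fun j => (hLmem _).mp (hyL j)
    let t : A := ∏ j, s j
    have ht : t ∉ P := by
      intro h
      obtain ⟨j, -, hj⟩ := (Ideal.IsPrime.prod_mem_iff).mp h
      exact hs j hj
    have htL : ∀ z ∈ L, t • z ∈ span A {x} := by
      intro z hz
      rw [← hy] at hz
      refine Submodule.span_induction ?_ ?_ ?_ ?_ hz
      · rintro _ ⟨j, rfl⟩
        obtain ⟨c, hc⟩ := Finset.dvd_prod_of_mem s (Finset.mem_univ j)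
        show (∏ j, s j) • y j ∈ _
        rw [hc, mul_comm, mul_smul]
        exact smul_mem _ _ (hsy j)
      · rw [smul_zero]; exact zero_mem _
      · intro a b _ _ ha hb
        rw [smul_add]; exact add_mem ha hb
      · intro a b _ hb
        rw [smul_comm]; exact smul_mem _ _ hb
    -- `A x ≅ A / P`
    let τ : A →ₗ[A] Q := LinearMap.toSpanSingleton A Q x
    have hτker : LinearMap.ker τ = P := by
      ext a
      rw [LinearMap.mem_ker, hmemP]
      rfl
    have hτrange : LinearMap.range τ = span A {x} := by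
      rw [LinearMap.range_toSpanSingleton]
    let e : (A ⧸ P) ≃ₗ[A] LinearMap.range τ :=
      (Submodule.quotEquivOfEq _ _ hτker.symm).trans τ.quotKerEquivRange
    let h : L →ₗ[A] LinearMap.range τ :=
      LinearMap.codRestrict (LinearMap.range τ) (t • L.subtype) (by
        intro z
        rw [hτrange]
        exact htL z.1 z.2)
    refine ⟨e.symm.toLinearMap ∘ₗ h, ?_⟩
    rw [LinearMap.coe_comp]
    refine e.symm.injective.comp ?_
    rw [injective_iff_map_eq_zero]
    intro z hz
    have h1 : t • z.1 = 0 := congrArg Subtype.val hz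
    exact Subtype.ext (eq_zero_of_smul_eq_zero P hQ ht h1)


theorem step {M : Type u} [AddCommGroup M] [Module A M] [Module.Finite A M] (p : Ideal A)
    (N : Submodule A M) (hN : N ≠ ⊤) (hass : associatedPrimes A (M ⧸ N) ⊆ {p}) :
    ∃ N' : Submodule A M, N < N' ∧ associatedPrimes A (M ⧸ N') ⊆ {p} ∧
      ∃ g : (N' ⧸ comap N'.subtype N) →ₗ[A] A ⧸ p, Function.Injective g := by
  haveI : Nontrivial (M ⧸ N) := Submodule.Quotient.nontrivial_iff.mpr hN
  obtain ⟨L, hL, hLass, g, hg⟩ := step_Q (M ⧸ N) p hass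
  let N' := L.comap N.mkQ
  have hNN' : N ≤ N' := by
    intro x hx
    show N.mkQ x ∈ L
    rw [mkQ_apply, (Submodule.Quotient.mk_eq_zero N).mpr hx]
    exact zero_mem _
  have hmap : N'.map N.mkQ = L := Submodule.map_comap_eq_of_surjective N.mkQ_surjective L
  refine ⟨N', lt_of_le_of_ne hNN' ?_, ?_, ?_⟩
  · intro h
    apply hL
    rw [← hmap, ← h, Submodule.mkQ_map_self]
  · let e : ((M ⧸ N) ⧸ L) ≃ₗ[A] M ⧸ N' :=
      (Submodule.quotEquivOfEq _ _ hmap.symm).trans
        (Submodule.quotientQuotientEquivQuotient N N' hNN')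
    rw [← LinearEquiv.AssociatedPrimes.eq e]
    exact hLass
  · let h : N' →ₗ[A] L := (N.mkQ ∘ₗ N'.subtype).codRestrict L (fun y => y.2)
    have hker : comap N'.subtype N = LinearMap.ker (g ∘ₗ h) := by
      ext y
      rw [mem_comap, LinearMap.mem_ker, LinearMap.comp_apply, map_eq_zero_iff g hg,
        Subtype.ext_iff]
      show _ ↔ N.mkQ y.1 = 0
      rw [mkQ_apply, Submodule.Quotient.mk_eq_zero]
      rfl
    refine ⟨Submodule.liftQ _ (g ∘ₗ h) hker.le, ?_⟩
    rw [← LinearMap.ker_eq_bot]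
    exact Submodule.ker_liftQ_eq_bot' _ _ hker

theorem chain {M : Type u} [AddCommGroup M] [Module A M] [Module.Finite A M] (p : Ideal A) :
    ∀ N : Submodule A M, associatedPrimes A (M ⧸ N) ⊆ {p} →
      ∃ (m : ℕ) (G : Fin (m + 1) → Submodule A M), (∀ i : Fin m, G i.castSucc ≤ G i.succ) ∧
        G 0 = N ∧ G (Fin.last m) = ⊤ ∧
        ∀ i : Fin m, ∃ g : (↥(G i.succ) ⧸ comap (G i.succ).subtype (G i.castSucc)) →ₗ[A] A ⧸ p,
          Function.Injective g := by
  intro N
  induction N using IsNoetherian.induction with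
  | hgt N ih =>
    intro hass
    by_cases hN : N = ⊤
    · refine ⟨0, fun _ => ⊤, fun i => i.elim0, hN.symm, rfl, fun i => i.elim0⟩
    · obtain ⟨N', hlt, hass', g, hg⟩ := step p N hN hass
      obtain ⟨m', G', hmono', hG'0, hG'last, hstep'⟩ := ih N' hlt hass'
      subst hG'0
      refine ⟨m' + 1, Fin.cons N G', ?_, ?_, ?_, ?_⟩
      · intro i
        refine Fin.cases ?_ (fun j => ?_) i
        · exact hlt.le
        · exact hmono' j
      · rfl
      · exact hG'last
      · intro i
        refine Fin.cases ?_ (fun j => ?_) i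
        · exact ⟨g, hg⟩
        · exact hstep' j

theorem main (A : Type u) [CommRing A] [IsNoetherianRing A]
    (M : Type u) [AddCommGroup M] [Module A M] [Module.Finite A M] (p : Ideal A)
    (hp : associatedPrimes A M = {p}) :
    ∃ (m : ℕ) (F : Fin (m + 1) → Submodule A M), Antitone F ∧ F 0 = ⊤ ∧ F (Fin.last m) = ⊥ ∧
      ∀ i : Fin m, ∃ g : (↥(F i.castSucc) ⧸
        Submodule.comap (F i.castSucc).subtype (F i.succ)) →ₗ[A] (A ⧸ p),
        Function.Injective g := by
  have hass : associatedPrimes A (M ⧸ (⊥ : Submodule A M)) ⊆ {p} := by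
    rw [LinearEquiv.AssociatedPrimes.eq (Submodule.quotEquivOfEqBot ⊥ rfl), hp]
  obtain ⟨m, G, hmono, hG0, hGlast, hstep⟩ := chain p ⊥ hass
  refine ⟨m, fun i => G (Fin.rev i), ?_, ?_, ?_, ?_⟩
  · rw [Fin.antitone_iff_succ_le]
    intro i
    show G (Fin.rev i.succ) ≤ G (Fin.rev i.castSucc)
    rw [Fin.rev_succ, Fin.rev_castSucc]
    exact hmono _
  · show G (Fin.rev 0) = ⊤
    rw [Fin.rev_zero]; exact hGlast
  · show G (Fin.rev (Fin.last m)) = ⊥
    rw [Fin.rev_last]; exact hG0
  · intro i
    show ∃ g : (↥(G (Fin.rev i.castSucc)) ⧸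
        Submodule.comap (G (Fin.rev i.castSucc)).subtype (G (Fin.rev i.succ))) →ₗ[A] (A ⧸ p),
        Function.Injective g
    rw [Fin.rev_succ, Fin.rev_castSucc]
    exact hstep _

end Groth.Agent.H3.CoprimFilt
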