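import Mathlib
import Groth.Prelude.Def_EGA4b
import Groth.Agent.Lib.Helper3.CA.CplQuot

/-!
# `B̂ ≅ ((B ⊗_A Â)_{n'})^` (EGA IV 7.? / 0_IV 19.7.1.5-type statement)
-/

set_option autoImplicit false
universe u

open IsLocalRing TensorProduct

namespace Groth.Agent.H3.CplBC

variable (A B : Type u) [CommRing A] [CommRing B] [IsNoetherianRing A]
  [IsNoetherianRing B] [IsLocalRing A] [IsLocalRing B] [Algebra A B] [IsLocalHom (algebraMap A B)]

local notation "Â" => AdicCompletion (maximalIdeal A) A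
local notation "B'" => B ⊗[A] AdicCompletion (maximalIdeal A) A
local notation "ι" => algebraMap B (B ⊗[A] AdicCompletion (maximalIdeal A) A)

theorem map_pow_le (n : ℕ) :
    (maximalIdeal A ^ n).map (algebraMap A B) ≤ maximalIdeal B ^ n := by
  rw [Ideal.map_pow]
  have h : IsLocalHom (algebraMap A B) := inferInstance
  exact Ideal.pow_right_mono (((IsLocalRing.local_hom_TFAE (algebraMap A B)).out 0 2).mp h) n

/-- `b ⊗ e ∈ 𝔪_B^n B'` for `e ∈ 𝔪_A^n Â`. -/
theorem tmul_mem (n : ℕ) (b : B) (e : Â)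
    (he : e ∈ (maximalIdeal A ^ n).map (algebraMap A Â)) :
    b ⊗ₜ[A] e ∈ (maximalIdeal B ^ n).map ι := by
  have h1 : (b ⊗ₜ[A] e : B') = ι b * (Algebra.TensorProduct.includeRight : Â →ₐ[A] B') e := by
    simp [Algebra.TensorProduct.algebraMap_apply]
  rw [h1]
  apply Ideal.mul_mem_left
  have h2 : (Algebra.TensorProduct.includeRight : Â →ₐ[A] B') e ∈
      ((maximalIdeal A ^ n).map (algebraMap A Â)).map
        (Algebra.TensorProduct.includeRight : Â →ₐ[A] B').toRingHom :=
    Ideal.mem_map_of_mem _ he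
  rw [Ideal.map_map] at h2
  have h3 : ((Algebra.TensorProduct.includeRight : Â →ₐ[A] B').toRingHom.comp (algebraMap A Â)) =
      (ι).comp (algebraMap A B) := by
    ext a
    simp only [RingHom.comp_apply, AlgHom.toRingHom_eq_coe, RingHom.coe_coe, AlgHom.commutes,
      ← IsScalarTower.algebraMap_apply]
  rw [h3, ← Ideal.map_map] at h2
  exact Ideal.map_mono (map_pow_le A B n) h2

/-- `B` is dense in `B ⊗_A Â` for the `𝔪_B`-adic topology. -/
theorem exists_sub_mem (n : ℕ) (x : B') :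
    ∃ b : B, x - ι b ∈ (maximalIdeal B ^ n).map ι := by
  induction x using TensorProduct.induction_on with
  | zero => exact ⟨0, by simp⟩
  | tmul b â =>
    obtain ⟨a, ha⟩ := CplQuot.exists_sub_mem_pow A n â
    rw [AdicCompletion.maximalIdeal_eq_map, ← Ideal.map_pow] at ha
    refine ⟨a • b, ?_⟩
    have : (b ⊗ₜ[A] â : B') - ι (a • b) = b ⊗ₜ[A] (â - algebraMap A Â a) := by
      rw [Algebra.TensorProduct.algebraMap_apply, Algebra.algebraMap_self, RingHom.id_apply,
        TensorProduct.smul_tmul, TensorProduct.tmul_sub, Algebra.smul_def, mul_one]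
    rw [this]
    exact tmul_mem A B n b _ ha
  | add x y hx hy =>
    obtain ⟨b1, h1⟩ := hx
    obtain ⟨b2, h2⟩ := hy
    refine ⟨b1 + b2, ?_⟩
    have : x + y - ι (b1 + b2) = (x - ι b1) + (y - ι b2) := by rw [map_add]; ring
    rw [this]
    exact Ideal.add_mem _ h1 h2

instance : Module.FaithfullyFlat A Â := Module.FaithfullyFlat.of_flat_of_isLocalHom

theorem mem_of_map_mem (I : Ideal B) (b : B) (h : ι b ∈ I.map ι) : b ∈ I := by
  have := Ideal.comap_map_eq_self_of_faithfullyFlat (A := B) (B := B') I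
  rw [← this]
  exact h

theorem isMaximal_map : ((maximalIdeal B).map ι).IsMaximal := by
  rw [Ideal.isMaximal_iff]
  constructor
  · intro h
    have h1 : ι 1 ∈ (maximalIdeal B).map ι := by rwa [map_one]
    have := mem_of_map_mem A B _ 1 h1
    exact (Ideal.ne_top_iff_one _).mp (maximalIdeal.isMaximal B).ne_top this
  · intro J x hJ hx hxJ
    obtain ⟨b, hb⟩ := exists_sub_mem A B 1 x
    rw [pow_one] at hb
    have hbu : IsUnit b := by
      by_contra hnu
      have : b ∈ maximalIdeal B := (mem_maximalIdeal b).mpr hnu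
      apply hx
      have h2 : x = (x - ι b) + ι b := by ring
      rw [h2]
      exact Ideal.add_mem _ hb (Ideal.mem_map_of_mem _ this)
    obtain ⟨c, hc⟩ := hbu.exists_right_inv
    have h3 : (1 : B') = ι c * x - ι c * (x - ι b) := by
      rw [mul_sub, sub_sub_cancel, ← map_mul, mul_comm, hc, map_one]
    rw [h3]
    exact Ideal.sub_mem _ (Ideal.mul_mem_left _ _ hxJ) (Ideal.mul_mem_left _ _ (hJ hb))

theorem main [IsNoetherianRing (B ⊗[A] EGA4.Cpl A)] (n' : Ideal (B ⊗[A] EGA4.Cpl A)) [n'.IsPrime]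
    (h1 : n'.comap (algebraMap B (B ⊗[A] EGA4.Cpl A)) = IsLocalRing.maximalIdeal B) :
    Nonempty (EGA4.Cpl B ≃+* EGA4.Cpl (Localization.AtPrime n')) := by
  have hmax := isMaximal_map A B
  have hle : (maximalIdeal B).map ι ≤ n' := by
    rw [Ideal.map_le_iff_le_comap]
    exact h1.ge
  have heq : (maximalIdeal B).map ι = n' :=
    hmax.eq_of_le (Ideal.IsPrime.ne_top inferInstance) hle
  have hn'max : n'.IsMaximal := heq ▸ hmax
  have : IsNoetherianRing (Localization.AtPrime n') :=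
    IsLocalization.isNoetherianRing n'.primeCompl _ inferInstance
  let L := Localization.AtPrime n'
  let φ : B →+* L := (algebraMap (B ⊗[A] EGA4.Cpl A) L).comp ι
  have hpow : ∀ n, n' ^ n = (maximalIdeal B ^ n).map ι := by
    intro n; rw [← heq, Ideal.map_pow]
  have hmapL : ∀ n, (n' ^ n).map (algebraMap (B ⊗[A] EGA4.Cpl A) L) = maximalIdeal L ^ n := by
    intro n
    rw [Ideal.map_pow, IsLocalization.AtPrime.map_eq_maximalIdeal n' L]
  refine CplQuot.nonempty_cplEquiv B L φ ?_ ?_ ?_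
  · rw [← Ideal.map_map, heq, IsLocalization.AtPrime.map_eq_maximalIdeal n' L]
  · intro n b hb
    have h2 : ι b ∈ (maximalIdeal L ^ n).under (B ⊗[A] EGA4.Cpl A) := hb
    rw [IsLocalization.AtPrime.under_maximalIdeal_pow n' L n, hpow] at h2
    exact mem_of_map_mem A B _ b h2
  · intro n ℓ
    obtain ⟨q, hq⟩ := (IsLocalization.AtPrime.equivQuotMaximalIdealPow n' L n).surjective
      (Ideal.Quotient.mk _ ℓ)
    obtain ⟨y, rfl⟩ := Ideal.Quotient.mk_surjective q
    rw [IsLocalization.AtPrime.equivQuotMaximalIdealPow_apply_mk, Ideal.Quotient.eq] at hq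
    obtain ⟨b, hb⟩ := exists_sub_mem A B n y
    rw [← hpow] at hb
    refine ⟨b, ?_⟩
    have h3 : algebraMap (B ⊗[A] EGA4.Cpl A) L (y - ι b) ∈ maximalIdeal L ^ n := by
      rw [← hmapL]; exact Ideal.mem_map_of_mem _ hb
    have h4 : ℓ - φ b = -(algebraMap (B ⊗[A] EGA4.Cpl A) L y - ℓ) +
        algebraMap (B ⊗[A] EGA4.Cpl A) L (y - ι b) := by
      simp only [φ, RingHom.comp_apply, map_sub]; ring
    rw [h4]
    exact Ideal.add_mem _ (Ideal.neg_mem_iff _ |>.mpr hq) h3

end Groth.Agent.H3.CplBC
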