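import Mathlib

/-!
# A valuation ring dominating a discrete valuation ring in a finite separable extension is a
discrete valuation ring (helper3)
-/

set_option autoImplicit false

universe u

open IsLocalRing

namespace Groth.Agent.H3.DVRDominateFinite

/-- Let `A` be a discrete valuation ring with fraction field `K`, `K'/K` a finite separable
extension and `A'` a valuation ring of `K'` dominating `A`. Then `A'` is a discrete valuation
ring. -/
theorem isDiscreteValuationRing_of_dominates
    (A K A' K' : Type u) [CommRing A] [IsDomain A] [IsDiscreteValuationRing A] [Field K]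
    [Algebra A K] [IsFractionRing A K] [CommRing A'] [IsDomain A'] [ValuationRing A'] [Field K']
    [Algebra A' K'] [IsFractionRing A' K'] (φ : A →+* A') (ψ : K →+* K')
    (comm : (algebraMap A' K').comp φ = ψ.comp (algebraMap A K)) (hloc : IsLocalHom φ)
    (hfin : letI := ψ.toAlgebra; Module.Finite K K' ∧ Algebra.IsSeparable K K') :
    IsDiscreteValuationRing A' := by
  let _ : Algebra K K' := ψ.toAlgebra
  obtain ⟨hfd, hsep⟩ := hfin
  let _ : Algebra A K' := (ψ.comp (algebraMap A K)).toAlgebra
  have _ : IsScalarTower A K K' := IsScalarTower.of_algebraMap_eq (fun _ => rfl)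
  let _ : Algebra A A' := φ.toAlgebra
  have _ : IsScalarTower A A' K' := IsScalarTower.of_algebraMap_eq (fun x => by
    show (ψ.comp (algebraMap A K)) x = algebraMap A' K' (φ x)
    rw [← comm]; rfl)
  have _ : IsDedekindDomain (integralClosure A K') := integralClosure.isDedekindDomain A K K'
  have _ : IsFractionRing (integralClosure A K') K' :=
    IsIntegralClosure.isFractionRing_of_finite_extension A K K' (integralClosure A K')
  have hinj : Function.Injective (algebraMap A' K') := IsFractionRing.injective A' K'
  -- every element of `C` lies in `A'`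
  have hCA' : ∀ c : integralClosure A K', ∃ a' : A', algebraMap A' K' a' = (c : K') := by
    intro c
    have hint : IsIntegral A' (c : K') := c.2.tower_top
    exact IsIntegrallyClosed.isIntegral_iff.1 hint
  choose ρ₀ hρ₀ using hCA'
  let ρ : integralClosure A K' →+* A' :=
    { toFun := ρ₀
      map_one' := hinj (by rw [hρ₀, map_one]; rfl)
      map_mul' := fun x y => hinj (by rw [hρ₀, map_mul, hρ₀, hρ₀]; rfl)
      map_zero' := hinj (by rw [hρ₀, map_zero]; rfl)
      map_add' := fun x y => hinj (by rw [hρ₀, map_add, hρ₀, hρ₀]; rfl) }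
  have hρ : ∀ c, algebraMap A' K' (ρ c) = (c : K') := hρ₀
  have hρinj : Function.Injective ρ := by
    intro x y hxy
    apply Subtype.ext
    rw [← hρ x, ← hρ y, hxy]
  -- the prime of `C` below the maximal ideal of `A'`
  obtain ⟨P, hPdef⟩ : ∃ P : Ideal (integralClosure A K'), P = (maximalIdeal A').comap ρ :=
    ⟨_, rfl⟩
  have hmemP : ∀ c, c ∈ P ↔ ρ c ∈ maximalIdeal A' := fun c => by rw [hPdef]; rfl
  have hPprime : P.IsPrime := by rw [hPdef]; exact Ideal.comap_isPrime ρ _
  have hP0 : P ≠ ⊥ := by
    obtain ⟨ϖ, hϖ⟩ := IsDiscreteValuationRing.exists_irreducible A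
    have hmem : algebraMap A (integralClosure A K') ϖ ∈ P := by
      rw [hmemP, mem_maximalIdeal, mem_nonunits_iff]
      have h1 : ρ (algebraMap A (integralClosure A K') ϖ) = φ ϖ := by
        apply hinj
        rw [hρ]
        show algebraMap A K' ϖ = algebraMap A' K' (algebraMap A A' ϖ)
        rw [← IsScalarTower.algebraMap_apply]
      rw [h1]
      intro hu
      exact hϖ.not_isUnit (hloc.map_nonunit ϖ hu)
    intro hbot
    rw [hbot, Ideal.mem_bot] at hmem
    have hAinj : Function.Injective (algebraMap A K') := by
      show Function.Injective (ψ.comp (algebraMap A K))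
      exact ψ.injective.comp (IsFractionRing.injective A K)
    have h2 : algebraMap A K' ϖ = 0 := by
      have := congrArg (fun c : integralClosure A K' => (c : K')) hmem
      simpa using this
    exact hϖ.ne_zero (hAinj (by rw [h2, map_zero]))
  have hdvr : IsDiscreteValuationRing (Localization.AtPrime P) :=
    IsLocalization.AtPrime.isDiscreteValuationRing_of_dedekind_domain (integralClosure A K') hP0 _
  -- the map from the localization
  have hunit : ∀ y : P.primeCompl, IsUnit (ρ y) := by
    intro y
    have hy : (y : integralClosure A K') ∉ P := y.2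
    rw [hmemP] at hy
    exact IsLocalRing.notMem_maximalIdeal.1 hy
  obtain ⟨σ, hσdef⟩ : ∃ σ : Localization.AtPrime P →+* A',
      σ = IsLocalization.lift (M := P.primeCompl) (g := ρ) hunit := ⟨_, rfl⟩
  have hσ_alg : ∀ c, σ (algebraMap (integralClosure A K') (Localization.AtPrime P) c) = ρ c := by
    intro c; rw [hσdef]; exact IsLocalization.lift_eq hunit c
  have hσ_mk : ∀ (c : integralClosure A K') (s : P.primeCompl),
      σ (IsLocalization.mk' (Localization.AtPrime P) c s) * ρ s = ρ c := by
    intro c s
    rw [← hσ_alg (s : integralClosure A K'), ← map_mul, IsLocalization.mk'_spec, hσ_alg]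
  have hσinj : Function.Injective σ := by
    rw [injective_iff_map_eq_zero]
    intro x hx
    obtain ⟨c, s, rfl⟩ := IsLocalization.exists_mk'_eq P.primeCompl x
    have h1 := hσ_mk c s
    rw [hx, zero_mul] at h1
    have hc : c = 0 := hρinj (by rw [← h1, map_zero])
    rw [hc, IsLocalization.mk'_zero]
  have hσlocal : ∀ y : Localization.AtPrime P, IsUnit (σ y) → IsUnit y := by
    intro y hy
    obtain ⟨c, s, rfl⟩ := IsLocalization.exists_mk'_eq P.primeCompl y
    rw [IsLocalization.AtPrime.isUnit_mk'_iff (Localization.AtPrime P) P]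
    have h1 := hσ_mk c s
    have hcu : IsUnit (ρ c) := by rw [← h1]; exact hy.mul (hunit s)
    show c ∉ P
    rw [hmemP]
    exact IsLocalRing.notMem_maximalIdeal.2 hcu
  -- the fraction field of the localization
  let _ : Algebra (Localization.AtPrime P) K' := ((algebraMap A' K').comp σ).toAlgebra
  have _ : IsScalarTower (integralClosure A K') (Localization.AtPrime P) K' :=
    IsScalarTower.of_algebraMap_eq (fun c => by
      show (c : K') = algebraMap A' K' (σ (algebraMap _ _ c))
      rw [hσ_alg, hρ])
  have _ : IsFractionRing (Localization.AtPrime P) K' :=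
    IsFractionRing.isFractionRing_of_isDomain_of_isLocalization P.primeCompl
      (Localization.AtPrime P) K'
  have hσsurj : Function.Surjective σ := by
    intro x
    by_cases hx0 : x = 0
    · exact ⟨0, by rw [map_zero, hx0]⟩
    rcases ValuationRing.isInteger_or_isInteger (Localization.AtPrime P) (algebraMap A' K' x) with
      ⟨y, hy⟩ | ⟨y, hy⟩
    · exact ⟨y, hinj hy⟩
    · have hy' : algebraMap A' K' (σ y) = (algebraMap A' K' x)⁻¹ := hy
      have hk0 : algebraMap A' K' x ≠ 0 := by
        intro h0; exact hx0 (hinj (by rw [h0, map_zero]))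
      have h1 : x * σ y = 1 := by
        apply hinj
        rw [map_mul, hy', map_one, mul_inv_cancel₀ hk0]
      have hu : IsUnit (σ y) := IsUnit.of_mul_eq_one x (by rw [mul_comm]; exact h1)
      obtain ⟨y', hy'u⟩ := hσlocal y hu
      refine ⟨↑y'⁻¹, ?_⟩
      have h2 : σ ↑y'⁻¹ * σ y = 1 := by
        rw [← map_mul, ← hy'u, Units.inv_mul, map_one]
      calc σ ↑y'⁻¹ = σ ↑y'⁻¹ * (σ y * x) := by rw [mul_comm (σ y) x, h1, mul_one]
        _ = x := by rw [← mul_assoc, h2, one_mul]
  exact IsDiscreteValuationRing.RingEquivClass.isDiscreteValuationRing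
    (RingEquiv.ofBijective σ ⟨hσinj, hσsurj⟩)

end Groth.Agent.H3.DVRDominateFinite
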