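import Mathlib

/-! Tools for lifting generators / regular sequences over an Artin local base. -/

set_option autoImplicit false
universe u v

namespace Groth.Agent.H3.DefT

open TensorProduct

section Tor

variable {C : Type u} [CommRing C] {M : Type v} [AddCommGroup M] [Module C M]

/-- `1 ⊗ y = 0` in `(C/J) ⊗ M` iff `y ∈ J M`. -/
theorem one_tmul_eq_zero_iff (J : Ideal C) (y : M) :
    ((1 : C ⧸ J) ⊗ₜ[C] y = 0) ↔ y ∈ J • (⊤ : Submodule C M) := by
  rw [← (quotTensorEquivQuotSMul M J).map_eq_zero_iff, quotTensorEquivQuotSMul_mk_one_tmul,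
    Submodule.Quotient.mk_eq_zero]

/-- If `M/N` is flat then `N ∩ J M = J N`. -/
theorem mem_smul_of_mem_of_flat_quotient (N : Submodule C M) [Module.Flat C (M ⧸ N)]
    (J : Ideal C) {x : M} (hxN : x ∈ N) (hxJ : x ∈ J • (⊤ : Submodule C M)) : x ∈ J • N := by
  have hinj : Function.Injective (N.subtype.lTensor (C ⧸ J)) :=
    LinearMap.lTensor_injective_of_exact_of_flat N.mkQ (Submodule.mkQ_surjective N) N.subtype
      N.injective_subtype (LinearMap.exact_subtype_mkQ N) (C ⧸ J)
  have h1 : N.subtype.lTensor (C ⧸ J) ((1 : C ⧸ J) ⊗ₜ[C] (⟨x, hxN⟩ : N)) = 0 := by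
    rw [LinearMap.lTensor_tmul, Submodule.subtype_apply, one_tmul_eq_zero_iff]
    exact hxJ
  have h2 : (1 : C ⧸ J) ⊗ₜ[C] (⟨x, hxN⟩ : N) = 0 := hinj (by rw [h1, map_zero])
  rw [one_tmul_eq_zero_iff] at h2
  have h3 : N.subtype ⟨x, hxN⟩ ∈ (J • (⊤ : Submodule C N)).map N.subtype :=
    Submodule.mem_map_of_mem h2
  rwa [Submodule.map_smul'', Submodule.map_subtype_top] at h3

/-- Nilpotent Nakayama with a supplement. -/
theorem le_of_le_sup_smul_of_isNilpotent {J : Ideal C} (hJ : IsNilpotent J)
    (N N' : Submodule C M) (h : N ≤ N' ⊔ J • N) : N ≤ N' := by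
  have key : ∀ k : ℕ, N ≤ N' ⊔ J ^ k • N := by
    intro k
    induction k with
    | zero => simp
    | succ k ih =>
      calc N ≤ N' ⊔ J • N := h
        _ ≤ N' ⊔ J • (N' ⊔ J ^ k • N) := sup_le_sup_left (Submodule.smul_mono le_rfl ih) _
        _ ≤ N' ⊔ J ^ (k + 1) • N := by
          rw [Submodule.smul_sup, ← Submodule.mul_smul, ← pow_succ']
          refine sup_le le_sup_left (sup_le ?_ le_sup_right)
          exact le_sup_of_le_left Submodule.smul_le_right
  obtain ⟨n, hn⟩ := hJ
  have := key n
  rwa [hn, Submodule.zero_eq_bot, Submodule.bot_smul, sup_bot_eq] at this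

end Tor

section Lift

variable {C : Type u} [CommRing C] {A : Type v} [CommRing A] [Algebra C A]

/-- Lifting generators: if `A/I` is `C`-flat, `J` is nilpotent, and the image of `I` in `A/JA` is
generated by `a`, then any lifts of `a` in `I` generate `I`. -/
theorem span_eq_of_flat_quotient {J : Ideal C} (hJ : IsNilpotent J) (I : Ideal A)
    [Module.Flat C (A ⧸ I)] {r : ℕ} (a' : Fin r → A) (ha' : ∀ i, a' i ∈ I)
    (hI : I.map (Ideal.Quotient.mk (J.map (algebraMap C A))) =
      Ideal.span (Set.range fun i => Ideal.Quotient.mk (J.map (algebraMap C A)) (a' i))) :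
    I = Ideal.span (Set.range a') := by
  apply le_antisymm
  · have hflat : Module.Flat C (A ⧸ I.restrictScalars C) := ‹Module.Flat C (A ⧸ I)›
    have h1 : I.restrictScalars C ≤
        (Ideal.span (Set.range a')).restrictScalars C ⊔ J • I.restrictScalars C := by
      intro x hx
      have hx' : x ∈ I := hx
      have h2 : Ideal.Quotient.mk (J.map (algebraMap C A)) x ∈
          I.map (Ideal.Quotient.mk (J.map (algebraMap C A))) := Ideal.mem_map_of_mem _ hx'
      rw [hI, Ideal.mem_span_range_iff_exists_fun] at h2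
      obtain ⟨c, hc⟩ := h2
      choose c' hc' using fun i => Ideal.Quotient.mk_surjective (c i)
      set y := ∑ i, c' i * a' i with hy
      have hyI : y ∈ Ideal.span (Set.range a') :=
        Ideal.sum_mem _ fun i _ => Ideal.mul_mem_left _ _ (Ideal.subset_span ⟨i, rfl⟩)
      have hxy : x - y ∈ J.map (algebraMap C A) := by
        rw [← Ideal.Quotient.eq, ← hc, hy, map_sum]
        refine Finset.sum_congr rfl fun i _ => ?_
        rw [map_mul, hc']
      have hxyI : x - y ∈ I.restrictScalars C :=
        I.sub_mem hx' (Ideal.span_le.mpr (by rintro _ ⟨i, rfl⟩; exact ha' i) hyI)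
      have hxyJ : x - y ∈ J • (⊤ : Submodule C A) := by
        rw [Ideal.smul_top_eq_map]
        exact hxy
      have h3 := mem_smul_of_mem_of_flat_quotient (I.restrictScalars C) J hxyI hxyJ
      have : x = y + (x - y) := by ring
      rw [this]
      exact Submodule.add_mem_sup hyI h3
    exact le_of_le_sup_smul_of_isNilpotent hJ _ _ h1
  · exact Ideal.span_le.mpr (by rintro _ ⟨i, rfl⟩; exact ha' i)

end Lift

end Groth.Agent.H3.DefT
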