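import Mathlib
import Groth.Agent.Lib.Helper1.FlatNilpotent
import Groth.Agent.Lib.Helper3.CA.DefT1

/-! Lifting regular sequences from the closed fibre over an Artin local base. -/

set_option autoImplicit false
universe u v w

namespace Groth.Agent.H3.DefT

open TensorProduct Function RingTheory.Sequence
open scoped Pointwise

section KerFlat

variable {C : Type u} [CommRing C] {N M Q : Type*} [AddCommGroup N] [Module C N]
  [AddCommGroup M] [Module C M] [AddCommGroup Q] [Module C Q]

/-- The kernel of a surjection from a flat module onto a flat module is flat. -/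
theorem flat_of_exact_of_flat (g : N →ₗ[C] M) (f : M →ₗ[C] Q) (hg : Injective g)
    (H : Exact g f) (hf : Surjective f) [Module.Flat C M] [Module.Flat C Q] : Module.Flat C N := by
  rw [Module.Flat.iff_rTensor_injective']
  intro I
  have h1 : Injective (g.lTensor I) :=
    LinearMap.lTensor_injective_of_exact_of_flat f hf g hg H I
  have h2 : Injective (I.subtype.rTensor M) :=
    Module.Flat.rTensor_preserves_injective_linearMap _ I.injective_subtype
  have h3 : (g.lTensor C) ∘ₗ (I.subtype.rTensor N) = (I.subtype.rTensor M) ∘ₗ (g.lTensor I) := by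
    rw [LinearMap.lTensor_comp_rTensor, LinearMap.rTensor_comp_lTensor]
  have h4 : Injective ((g.lTensor C) ∘ₗ (I.subtype.rTensor N)) := by
    rw [h3, LinearMap.coe_comp]
    exact h2.comp h1
  rw [LinearMap.coe_comp] at h4
  exact Injective.of_comp h4

end KerFlat

section KL

variable {C : Type u} [CommRing C] (m : Ideal C)
  {M : Type v} [AddCommGroup M] [Module C M]

theorem exists_one_tmul (t : (C ⧸ m) ⊗[C] M) : ∃ x : M, t = (1 : C ⧸ m) ⊗ₜ[C] x := by
  obtain ⟨x, hx⟩ := Submodule.Quotient.mk_surjective _ (quotTensorEquivQuotSMul M m t)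
  refine ⟨x, ?_⟩
  rw [← quotTensorEquivQuotSMul_symm_mk, hx, LinearEquiv.symm_apply_apply]

/-- Key lemma: an endomorphism of a flat module over `C` (with nilpotent maximal ideal `m`) which
is injective modulo `m` is injective with flat cokernel. -/
theorem injective_and_flat_of_injective_mod [hmax : m.IsMaximal] (hm : IsNilpotent m) [Module.Flat C M]
    (φ : M →ₗ[C] M)
    (hφ : ∀ x, φ x ∈ m • (⊤ : Submodule C M) → x ∈ m • (⊤ : Submodule C M)) :
    Injective φ ∧ Module.Flat C (M ⧸ LinearMap.range φ) := by
  have hφt : Injective (φ.lTensor (C ⧸ m)) := by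
    rw [injective_iff_map_eq_zero]
    intro t ht
    obtain ⟨x, rfl⟩ := exists_one_tmul m t
    rw [LinearMap.lTensor_tmul, one_tmul_eq_zero_iff] at ht
    rw [one_tmul_eq_zero_iff]
    exact hφ x ht
  set R := LinearMap.range φ with hR
  let ι : R →ₗ[C] M := R.subtype
  let φ' : M →ₗ[C] R := φ.rangeRestrict
  have hφ' : Surjective φ' := LinearMap.surjective_rangeRestrict φ
  have hcomp : ι ∘ₗ φ' = φ := LinearMap.ext fun x => rfl
  have hcompt : (ι.lTensor (C ⧸ m)) ∘ₗ (φ'.lTensor (C ⧸ m)) = φ.lTensor (C ⧸ m) := by
    rw [← LinearMap.lTensor_comp, hcomp]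
  have hφ't : Injective (φ'.lTensor (C ⧸ m)) := by
    have : Injective ((ι.lTensor (C ⧸ m)) ∘ (φ'.lTensor (C ⧸ m))) := by
      rw [← LinearMap.coe_comp, hcompt]; exact hφt
    exact Injective.of_comp this
  have hιt : Injective (ι.lTensor (C ⧸ m)) := by
    rw [injective_iff_map_eq_zero]
    intro t ht
    obtain ⟨s, rfl⟩ := LinearMap.lTensor_surjective (C ⧸ m) hφ' t
    rw [← LinearMap.comp_apply, hcompt] at ht
    have : s = 0 := hφt (by rw [ht, map_zero])
    rw [this, map_zero]
  have hex : Exact ι R.mkQ := LinearMap.exact_subtype_mkQ R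
  have hπ : Surjective R.mkQ := Submodule.mkQ_surjective R
  -- flatness of the cokernel
  haveI hQ : Module.Flat C (M ⧸ R) := by
    letI : Field (C ⧸ m) := Ideal.Quotient.field m
    haveI : Module.Flat (C ⧸ m) ((C ⧸ m) ⊗[C] (M ⧸ R)) := inferInstance
    have h1 : Injective (m.subtype.lTensor (M ⧸ R)) :=
      Groth.Agent.H1.LocalCrit.lTensor_injective_of_T ι R.mkQ hex hπ m.subtype m.mkQ
        m.injective_subtype (LinearMap.exact_subtype_mkQ m) (Submodule.mkQ_surjective m) hιt
    have h2 : Injective (m.subtype.rTensor (M ⧸ R)) :=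
      (LinearMap.lTensor_inj_iff_rTensor_inj _ _).mp h1
    exact Groth.Agent.H1.flat_of_isNilpotent_of_flat_quotient m hm h2
  refine ⟨?_, hQ⟩
  haveI : Module.Flat C R := flat_of_exact_of_flat ι R.mkQ R.injective_subtype hex hπ
  have hinj' : Injective φ' :=
    Groth.Agent.H1.injective_of_lTensor_injective_of_isNilpotent hm φ' hφ' hφ't
  rw [← hcomp, LinearMap.coe_comp]
  exact R.injective_subtype.comp hinj'

end KL

section Lift

variable {C : Type u} [CommRing C] (m : Ideal C)
  {A : Type w} [CommRing A] [Algebra C A]

/-- `(mA) M = m M` as sets. -/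
theorem mem_map_smul_top_iff {M : Type v} [AddCommGroup M] [Module A M] [Module C M]
    [IsScalarTower C A M] (x : M) :
    x ∈ (m.map (algebraMap C A)) • (⊤ : Submodule A M) ↔ x ∈ m • (⊤ : Submodule C M) := by
  constructor
  · intro hx
    refine Submodule.smul_induction_on hx ?_ ?_
    · intro a ha y _
      have : a ∈ Ideal.span ((algebraMap C A) '' (m : Set C)) := ha
      refine Submodule.span_induction (p := fun a _ => a • y ∈ m • (⊤ : Submodule C M))
        ?_ ?_ ?_ ?_ this
      · rintro _ ⟨c, hc, rfl⟩
        rw [algebraMap_smul]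
        exact Submodule.smul_mem_smul hc trivial
      · rw [zero_smul]; exact Submodule.zero_mem _
      · intro a b _ _ ha hb
        rw [add_smul]; exact Submodule.add_mem _ ha hb
      · intro b a _ ha
        rw [smul_eq_mul, mul_smul]
        refine Submodule.smul_induction_on ha ?_ ?_
        · intro c hc z _
          rw [smul_comm]
          exact Submodule.smul_mem_smul hc trivial
        · intro z w hz hw
          rw [smul_add]; exact Submodule.add_mem _ hz hw
    · intro y z hy hz
      exact Submodule.add_mem _ hy hz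
  · intro hx
    refine Submodule.smul_induction_on hx ?_ ?_
    · intro c hc y _
      rw [← algebraMap_smul A c y]
      exact Submodule.smul_mem_smul (Ideal.mem_map_of_mem _ hc) trivial
    · intro y z hy hz
      exact Submodule.add_mem _ hy hz

/-- **Lifting weakly regular sequences** from the closed fibre: if `M` is `C`-flat,
`N = M / mM` and `rs` is weakly regular on `N`, then `rs` is weakly regular on `M` and
`M / (rs) M` is `C`-flat. -/
theorem isWeaklyRegular_and_flat_of_mod [hmax : m.IsMaximal] (hm : IsNilpotent m) : ∀ (rs : List A)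
    (M : Type v) [AddCommGroup M] [Module A M] [Module C M] [IsScalarTower C A M]
    [Module.Flat C M] (N : Type v) [AddCommGroup N] [Module A N] (p : M →ₗ[A] N)
    (_ : Surjective p)
    (_ : LinearMap.ker p = (m.map (algebraMap C A)) • (⊤ : Submodule A M)),
    IsWeaklyRegular N rs →
      IsWeaklyRegular M rs ∧ Module.Flat C (M ⧸ (Ideal.ofList rs • (⊤ : Submodule A M))) := by
  intro rs
  induction rs with
  | nil =>
    intro M _ _ _ _ _ N _ _ p hp hker _
    refine ⟨IsWeaklyRegular.nil A M, ?_⟩
    have h0 : (Ideal.ofList ([] : List A)) • (⊤ : Submodule A M) = ⊥ := by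
      rw [Ideal.ofList_nil, Submodule.bot_smul]
    exact Module.Flat.of_linearEquiv
      ((Submodule.quotEquivOfEqBot _ h0).restrictScalars C)
  | cons r rs ih =>
    intro M _ _ _ _ _ N _ _ p hp hker hN
    rw [isWeaklyRegular_cons_iff] at hN
    obtain ⟨hrN, hrsN⟩ := hN
    -- the endomorphism `r • ·`
    let φ : M →ₗ[C] M := (LinearMap.lsmul A M r).restrictScalars C
    have hφ : ∀ x, φ x ∈ m • (⊤ : Submodule C M) → x ∈ m • (⊤ : Submodule C M) := by
      intro x hx
      rw [← mem_map_smul_top_iff m (A := A), ← hker, LinearMap.mem_ker] at hx ⊢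
      have : r • p x = 0 := by rw [← map_smul]; exact hx
      exact hrN (by show r • p x = r • 0; rw [this, smul_zero])
    obtain ⟨hinj, hflat⟩ := injective_and_flat_of_injective_mod m hm φ hφ
    have hrM : IsSMulRegular M r := hinj
    have hrange : LinearMap.range φ = (r • (⊤ : Submodule A M)).restrictScalars C := by
      ext y
      simp only [LinearMap.mem_range, Submodule.restrictScalars_mem,
        Submodule.mem_smul_pointwise_iff_exists, Submodule.mem_top, true_and]
      rfl
    haveI : Module.Flat C (QuotSMulTop r M) :=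
      Module.Flat.of_linearEquiv (Submodule.quotEquivOfEq _ _ hrange).symm
    -- the induced map on quotients
    let p' : QuotSMulTop r M →ₗ[A] QuotSMulTop r N := QuotSMulTop.map r p
    have hp' : Surjective p' := QuotSMulTop.map_surjective r hp
    have hker' : LinearMap.ker p' =
        (m.map (algebraMap C A)) • (⊤ : Submodule A (QuotSMulTop r M)) := by
      apply le_antisymm
      · intro y hy
        obtain ⟨x, rfl⟩ := Submodule.Quotient.mk_surjective _ y
        rw [LinearMap.mem_ker] at hy
        have h1 : p x ∈ r • (⊤ : Submodule A N) := by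
          rw [← Submodule.Quotient.mk_eq_zero]
          exact hy
        rw [Submodule.mem_smul_pointwise_iff_exists] at h1
        obtain ⟨n, -, hn⟩ := h1
        obtain ⟨x', rfl⟩ := hp n
        have h2 : x - r • x' ∈ LinearMap.ker p := by
          rw [LinearMap.mem_ker, map_sub, map_smul, hn, sub_self]
        rw [hker] at h2
        have h3 : Submodule.Quotient.mk (p := r • (⊤ : Submodule A M)) x =
            Submodule.Quotient.mk (x - r • x') := by
          rw [eq_comm, Submodule.Quotient.eq]
          have : x - r • x' - x = - (r • x') := by abel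
          rw [this]
          exact Submodule.neg_mem _ (Submodule.smul_mem_pointwise_smul _ _ _ trivial)
        rw [h3]
        have h4 : Submodule.Quotient.mk (p := r • (⊤ : Submodule A M)) (x - r • x') ∈
            ((m.map (algebraMap C A)) • (⊤ : Submodule A M)).map
              (r • (⊤ : Submodule A M)).mkQ := Submodule.mem_map_of_mem h2
        rwa [Submodule.map_smul'', Submodule.map_top, Submodule.range_mkQ] at h4
      · rw [Submodule.smul_le]
        intro a ha y _
        obtain ⟨x, rfl⟩ := Submodule.Quotient.mk_surjective _ y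
        rw [LinearMap.mem_ker, map_smul]
        have h1 : a • x ∈ LinearMap.ker p := by
          rw [hker]; exact Submodule.smul_mem_smul ha trivial
        have h2 : p' (Submodule.Quotient.mk x) = Submodule.Quotient.mk (p x) := rfl
        rw [h2, ← Submodule.Quotient.mk_smul, ← map_smul, LinearMap.mem_ker.mp h1,
          Submodule.Quotient.mk_zero]
    obtain ⟨hrsM, hflat'⟩ := ih (QuotSMulTop r M) (QuotSMulTop r N) p' hp' hker' hrsN
    refine ⟨(isWeaklyRegular_cons_iff M r rs).mpr ⟨hrM, hrsM⟩, ?_⟩
    exact Module.Flat.of_linearEquiv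
      ((Submodule.quotOfListConsSMulTopEquivQuotSMulTopInner M r rs).restrictScalars C)

end Lift

end Groth.Agent.H3.DefT
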