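import Mathlib
import Groth.Agent.Lib.Helper3.CA.DefT2

/-! Ring-level corollaries: lifting regular sequences from `A/mA` to `A`. -/

set_option autoImplicit false
universe u w

namespace Groth.Agent.H3.DefT

open TensorProduct Function RingTheory.Sequence

theorem ofList_ofFn {A : Type w} [CommRing A] {r : ℕ} (a : Fin r → A) :
    Ideal.ofList (List.ofFn a) = Ideal.span (Set.range a) := by
  unfold Ideal.ofList
  congr 1
  ext x
  simp [List.mem_ofFn]

variable {C : Type u} [CommRing C] (m : Ideal C) [hmax : m.IsMaximal]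
  {A : Type w} [CommRing A] [Algebra C A]

include hmax in
/-- If `A` is `C`-flat and the images of `a` in `A/mA` form a regular sequence, then `a` is a regular
sequence on `A` and `A/(a)` is `C`-flat. -/
theorem isRegular_and_flat_of_mod (hm : IsNilpotent m) [Module.Flat C A] {r : ℕ} (a : Fin r → A)
    (hb : IsRegular (A ⧸ m.map (algebraMap C A))
      (List.ofFn fun i => Ideal.Quotient.mk (m.map (algebraMap C A)) (a i))) :
    IsRegular A (List.ofFn a) ∧ Module.Flat C (A ⧸ Ideal.span (Set.range a)) := by
  set mA := m.map (algebraMap C A) with hmA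
  let p : A →ₗ[A] A ⧸ mA := Submodule.mkQ mA
  have hp : Surjective p := Submodule.mkQ_surjective mA
  have hker : LinearMap.ker p = mA • (⊤ : Submodule A A) := by
    rw [Submodule.ker_mkQ, smul_eq_mul, Ideal.mul_top]
  have hN : IsWeaklyRegular (A ⧸ mA) (List.ofFn a) := by
    rw [← isWeaklyRegular_map_algebraMap_iff (A ⧸ mA) (A ⧸ mA) (List.ofFn a), List.map_ofFn]
    exact hb.toIsWeaklyRegular
  obtain ⟨h1, h2⟩ := isWeaklyRegular_and_flat_of_mod m hm (List.ofFn a) A (A ⧸ mA) p hp hker hN
  have hspan : Ideal.ofList (List.ofFn a) • (⊤ : Submodule A A) = Ideal.span (Set.range a) := by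
    rw [smul_eq_mul, Ideal.mul_top, ofList_ofFn]
  refine ⟨⟨h1, ?_⟩, ?_⟩
  · rw [hspan]
    intro htop
    apply hb.top_ne_smul
    rw [smul_eq_mul, Ideal.mul_top, ofList_ofFn]
    have h3 : Ideal.span (Set.range fun i => Ideal.Quotient.mk mA (a i)) =
        (Ideal.span (Set.range a)).map (Ideal.Quotient.mk mA) := by
      rw [Ideal.map_span, ← Set.range_comp]
      rfl
    rw [h3, ← htop, Ideal.map_top]
  · exact Module.Flat.of_linearEquiv
      ((Submodule.quotEquivOfEq _ _ hspan).restrictScalars C).symm

end Groth.Agent.H3.DefT
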