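import Mathlib
import Groth.Agent.Lib.Helper1.LocalCriterion5
import Groth.Agent.Lib.Helper3.CA.DefT3

/-! Descending regular sequences with flat quotient to the closed fibre (Noetherian, radical case),
and nilpotent extensions of Noetherian local rings. -/

set_option autoImplicit false
universe u v w

namespace Groth.Agent.H3.DefT

open TensorProduct Function RingTheory.Sequence
open scoped Pointwise

section NilpExt

variable {R : Type u} [CommRing R]

theorem le_jacobson_bot_of_isNilpotent {I : Ideal R} (hI : IsNilpotent I) :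
    I ≤ Ideal.jacobson ⊥ := by
  obtain ⟨n, hn⟩ := hI
  intro x hx
  apply Ideal.radical_le_jacobson
  refine ⟨n, ?_⟩
  rw [← Ideal.zero_eq_bot, ← hn]
  exact Ideal.pow_mem_pow hx n

theorem le_prime_of_isNilpotent {I : Ideal R} (hI : IsNilpotent I) (P : Ideal R) [P.IsPrime] :
    I ≤ P := by
  obtain ⟨n, hn⟩ := hI
  intro x hx
  have : x ^ n ∈ P := by
    have h1 : x ^ n ∈ I ^ n := Ideal.pow_mem_pow hx n
    rw [hn] at h1
    rw [(Ideal.mem_bot).mp h1]
    exact P.zero_mem
  exact Ideal.IsPrime.mem_of_pow_mem inferInstance n this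

/-- A nilpotent extension (by a finitely generated ideal) of a Noetherian ring is Noetherian. -/
theorem isNoetherianRing_of_isNilpotent {I : Ideal R} (hI : IsNilpotent I) (hfg : I.FG)
    [IsNoetherianRing (R ⧸ I)] : IsNoetherianRing R := by
  apply IsNoetherianRing.of_prime
  intro P hP
  have hIP : I ≤ P := le_prime_of_isNilpotent hI P
  have hfg' : (P.map (Ideal.Quotient.mk I)).FG := IsNoetherian.noetherian _
  obtain ⟨s, hs⟩ := hfg'
  have hmem : ∀ y ∈ s, ∃ x ∈ P, Ideal.Quotient.mk I x = y := by
    intro y hy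
    have : y ∈ P.map (Ideal.Quotient.mk I) := hs ▸ Ideal.subset_span hy
    exact (Ideal.mem_map_iff_of_surjective _ Ideal.Quotient.mk_surjective).mp this
  classical
  choose! g hgP hg using hmem
  have hP' : P = Ideal.span (g '' (s : Set (R ⧸ I))) ⊔ I := by
    apply le_antisymm
    · intro y hy
      have h1 : Ideal.Quotient.mk I y ∈ P.map (Ideal.Quotient.mk I) := Ideal.mem_map_of_mem _ hy
      have h2 : P.map (Ideal.Quotient.mk I) =
          (Ideal.span (g '' (s : Set (R ⧸ I)))).map (Ideal.Quotient.mk I) := by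
        rw [Ideal.map_span, ← hs]
        congr 1
        ext z
        simp only [Set.mem_image, Finset.mem_coe, exists_exists_and_eq_and]
        constructor
        · intro hz; exact ⟨z, hz, hg z hz⟩
        · rintro ⟨w, hw, rfl⟩; rwa [hg w hw]
      rw [h2] at h1
      obtain ⟨z, hz, hzy⟩ := (Ideal.mem_map_iff_of_surjective _ Ideal.Quotient.mk_surjective).mp h1
      have h3 : y - z ∈ I := by
        rw [← Ideal.Quotient.eq, hzy]
      have : y = z + (y - z) := by ring
      rw [this]
      exact Submodule.add_mem_sup hz h3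
    · refine sup_le (Ideal.span_le.mpr ?_) hIP
      rintro _ ⟨y, hy, rfl⟩
      exact hgP y hy
  rw [hP']
  exact Submodule.FG.sup ⟨(s.image g), by simp⟩ hfg

/-- A nilpotent extension of a local ring is local. -/
theorem isLocalRing_of_isNilpotent {I : Ideal R} (hI : IsNilpotent I) [IsLocalRing (R ⧸ I)] :
    IsLocalRing R := by
  haveI := isLocalHom_of_le_jacobson_bot I (le_jacobson_bot_of_isNilpotent hI)
  exact RingHom.domain_isLocalRing (Ideal.Quotient.mk I)

end NilpExt

section StepA

variable {C : Type u} [CommRing C] [IsNoetherianRing C] (m : Ideal C)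
  {B : Type w} [CommRing B] [Algebra C B] [IsNoetherianRing B]

theorem ker_quotSMulTop_map (I : Ideal B) (r : B) {M N : Type v} [AddCommGroup M] [Module B M]
    [AddCommGroup N] [Module B N] (p : M →ₗ[B] N) (hp : Surjective p)
    (hker : LinearMap.ker p = I • (⊤ : Submodule B M)) :
    LinearMap.ker (QuotSMulTop.map r p) = I • (⊤ : Submodule B (QuotSMulTop r M)) := by
  apply le_antisymm
  · intro y hy
    obtain ⟨x, rfl⟩ := Submodule.Quotient.mk_surjective _ y
    rw [LinearMap.mem_ker] at hy
    have h1 : p x ∈ r • (⊤ : Submodule B N) := by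
      rw [← Submodule.Quotient.mk_eq_zero]
      exact hy
    rw [Submodule.mem_smul_pointwise_iff_exists] at h1
    obtain ⟨n, -, hn⟩ := h1
    obtain ⟨x', rfl⟩ := hp n
    have h2 : x - r • x' ∈ LinearMap.ker p := by
      rw [LinearMap.mem_ker, map_sub, map_smul, hn, sub_self]
    rw [hker] at h2
    have h3 : Submodule.Quotient.mk (p := r • (⊤ : Submodule B M)) x =
        Submodule.Quotient.mk (x - r • x') := by
      rw [eq_comm, Submodule.Quotient.eq]
      have : x - r • x' - x = - (r • x') := by abel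
      rw [this]
      exact Submodule.neg_mem _ (Submodule.smul_mem_pointwise_smul _ _ _ trivial)
    rw [h3]
    have h4 : Submodule.Quotient.mk (p := r • (⊤ : Submodule B M)) (x - r • x') ∈
        (I • (⊤ : Submodule B M)).map (r • (⊤ : Submodule B M)).mkQ := Submodule.mem_map_of_mem h2
    rwa [Submodule.map_smul'', Submodule.map_top, Submodule.range_mkQ] at h4
  · rw [Submodule.smul_le]
    intro a ha y _
    obtain ⟨x, rfl⟩ := Submodule.Quotient.mk_surjective _ y
    rw [LinearMap.mem_ker, map_smul]
    have h1 : a • x ∈ LinearMap.ker p := by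
      rw [hker]; exact Submodule.smul_mem_smul ha trivial
    have h2 : QuotSMulTop.map r p (Submodule.Quotient.mk x) = Submodule.Quotient.mk (p x) := rfl
    rw [h2, ← Submodule.Quotient.mk_smul, ← map_smul, LinearMap.mem_ker.mp h1,
      Submodule.Quotient.mk_zero]

/-- **Descending to the closed fibre**: if `rs` (in the radical of `B`) is weakly regular on the
finite `B`-module `M` with `M/(rs)M` flat over `C`, then `M` is `C`-flat and `rs` is weakly regular
on `M/mM`. -/
theorem flat_and_isWeaklyRegular_mod : ∀ (rs : List B), (∀ r ∈ rs, r ∈ Ideal.jacobson (⊥ : Ideal B)) →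
    ∀ (M : Type v) [AddCommGroup M] [Module B M] [Module C M] [IsScalarTower C B M]
    [Module.Finite B M] (N : Type v) [AddCommGroup N] [Module B N] (p : M →ₗ[B] N)
    (_ : Surjective p)
    (_ : LinearMap.ker p = (m.map (algebraMap C B)) • (⊤ : Submodule B M)),
    IsWeaklyRegular M rs → Module.Flat C (M ⧸ (Ideal.ofList rs • (⊤ : Submodule B M))) →
      Module.Flat C M ∧ IsWeaklyRegular N rs := by
  intro rs
  induction rs with
  | nil =>
    intro _ M _ _ _ _ _ N _ _ p hp hker _ hflat
    have h0 : (Ideal.ofList ([] : List B)) • (⊤ : Submodule B M) = ⊥ := by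
      rw [Ideal.ofList_nil, Submodule.bot_smul]
    exact ⟨Module.Flat.of_linearEquiv ((Submodule.quotEquivOfEqBot _ h0).restrictScalars C).symm,
      IsWeaklyRegular.nil B N⟩
  | cons r rs ih =>
    intro hrad M _ _ _ _ _ N _ _ p hp hker hM hflat
    rw [isWeaklyRegular_cons_iff] at hM
    obtain ⟨hrM, hrsM⟩ := hM
    have hr : r ∈ Ideal.jacobson (⊥ : Ideal B) := hrad r (List.mem_cons_self)
    have hrad' : ∀ r' ∈ rs, r' ∈ Ideal.jacobson (⊥ : Ideal B) :=
      fun r' h => hrad r' (List.mem_cons_of_mem _ h)
    haveI : Module.Flat C (QuotSMulTop r M ⧸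
        (Ideal.ofList rs • (⊤ : Submodule B (QuotSMulTop r M)))) :=
      Module.Flat.of_linearEquiv
        ((Submodule.quotOfListConsSMulTopEquivQuotSMulTopInner M r rs).restrictScalars C).symm
    have hker' := ker_quotSMulTop_map (m.map (algebraMap C B)) r p hp hker
    obtain ⟨hflat₁, hrsN⟩ := ih hrad' (QuotSMulTop r M) (QuotSMulTop r N) (QuotSMulTop.map r p)
      (QuotSMulTop.map_surjective r hp) hker' hrsM inferInstance
    -- `M` is flat by the local criterion
    haveI : Module.Flat C (M ⧸ (Ideal.span {r} • (⊤ : Submodule B M))) := by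
      have : Ideal.span {r} • (⊤ : Submodule B M) = r • (⊤ : Submodule B M) :=
        Submodule.ideal_span_singleton_smul r ⊤
      exact Module.Flat.of_linearEquiv
        ((Submodule.quotEquivOfEq _ _ this).restrictScalars C)
    haveI hMflat : Module.Flat C M :=
      Groth.Agent.H1.flat_of_isSMulRegular_of_flat_quotient (A := C) (B := B) r hr hrM
    refine ⟨hMflat, (isWeaklyRegular_cons_iff N r rs).mpr ⟨?_, hrsN⟩⟩
    -- `r` is regular on `N = M / mM`
    let φ : M →ₗ[C] M := (LinearMap.lsmul B M r).restrictScalars C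
    let q : M →ₗ[C] QuotSMulTop r M := (Submodule.mkQ _).restrictScalars C
    have hq : Surjective q := Submodule.mkQ_surjective _
    have hex : Exact φ q := by
      intro y
      change Submodule.Quotient.mk y = 0 ↔ _
      rw [Submodule.Quotient.mk_eq_zero, Submodule.mem_smul_pointwise_iff_exists]
      constructor
      · rintro ⟨x, -, rfl⟩; exact ⟨x, rfl⟩
      · rintro ⟨x, rfl⟩; exact ⟨x, trivial, rfl⟩
    have hφt : Injective (φ.lTensor (C ⧸ m)) :=
      LinearMap.lTensor_injective_of_exact_of_flat q hq φ hrM hex (C ⧸ m)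
    intro n₁ n₂ hn
    obtain ⟨x₁, rfl⟩ := hp n₁
    obtain ⟨x₂, rfl⟩ := hp n₂
    have h1 : r • (x₁ - x₂) ∈ LinearMap.ker p := by
      rw [LinearMap.mem_ker, map_smul, map_sub, smul_sub]
      exact sub_eq_zero.mpr hn
    rw [hker, mem_map_smul_top_iff, ← one_tmul_eq_zero_iff] at h1
    have h2 : φ.lTensor (C ⧸ m) ((1 : C ⧸ m) ⊗ₜ[C] (x₁ - x₂)) = 0 := by
      rw [LinearMap.lTensor_tmul]; exact h1
    have h3 : (1 : C ⧸ m) ⊗ₜ[C] (x₁ - x₂) = 0 := hφt (by rw [h2, map_zero])
    rw [one_tmul_eq_zero_iff, ← mem_map_smul_top_iff m (A := B), ← hker, LinearMap.mem_ker,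
      map_sub] at h3
    exact sub_eq_zero.mp h3

end StepA

end Groth.Agent.H3.DefT
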