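import Mathlib
import Groth.Prelude.Def_CAlg
import Groth.Agent.Lib.Helper3.CA.DefT4

/-! Lifting a regular sequence along a small extension of Artin local rings (S11454). -/

set_option autoImplicit false
universe u

namespace Groth.Agent.H3.DefT

open TensorProduct Function RingTheory.Sequence IsLocalRing

theorem main54 (C' : Type u) [CommRing C'] [IsLocalRing C'] [IsArtinianRing C'] (J : Ideal C')
    (hJ : maximalIdeal C' * J = ⊥) (hJne : J ≠ ⊤) (A' : Type u) [CommRing A'] [Algebra C' A']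
    [Module.Flat C' A']
    [IsNoetherianRing (A' ⧸ (maximalIdeal C').map (algebraMap C' A'))]
    [IsLocalRing (A' ⧸ (maximalIdeal C').map (algebraMap C' A'))]
    (r : ℕ) (a' : Fin r → A')
    (hreg : IsRegular (A' ⧸ J.map (algebraMap C' A'))
      (List.ofFn (fun i => Ideal.Quotient.mk (J.map (algebraMap C' A')) (a' i))))
    [Module.Flat (C' ⧸ J) ((A' ⧸ J.map (algebraMap C' A')) ⧸
      Ideal.span (Set.range (fun i => Ideal.Quotient.mk (J.map (algebraMap C' A')) (a' i))))] :
    IsRegular A' (List.ofFn a') ∧ Module.Flat C' (A' ⧸ Ideal.span (Set.range a')) := by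
  set m := maximalIdeal C' with hmdef
  set mA := m.map (algebraMap C' A') with hmA
  set JA := J.map (algebraMap C' A') with hJA
  have hm : IsNilpotent m := by
    rw [hmdef, ← IsLocalRing.jacobson_eq_maximalIdeal ⊥ bot_ne_top]
    exact IsArtinianRing.isNilpotent_jacobson_bot
  have hJm : J ≤ m := IsLocalRing.le_maximalIdeal hJne
  have hJAmA : JA ≤ mA := Ideal.map_mono hJm
  have hmAnil : IsNilpotent mA := by
    obtain ⟨n, hn⟩ := hm
    refine ⟨n, ?_⟩
    rw [hmA, ← Ideal.map_pow, hn, Ideal.zero_eq_bot, Ideal.map_bot]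
    rfl
  have hmAfg : mA.FG := Ideal.FG.map (IsNoetherian.noetherian m) _
  haveI : IsNoetherianRing A' := isNoetherianRing_of_isNilpotent hmAnil hmAfg
  haveI : IsLocalRing A' := isLocalRing_of_isNilpotent hmAnil
  have hmAtop : mA ≠ ⊤ := by
    rw [← Ideal.Quotient.nontrivial_iff]
    infer_instance
  have hJAtop : JA ≠ ⊤ := fun h => hmAtop (top_le_iff.mp (h ▸ hJAmA))
  set B := A' ⧸ JA with hB
  haveI : Nontrivial B := Ideal.Quotient.nontrivial_iff.mpr hJAtop
  haveI : IsLocalRing B := IsLocalRing.of_surjective' (Ideal.Quotient.mk JA)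
    Ideal.Quotient.mk_surjective
  let a : Fin r → B := fun i => Ideal.Quotient.mk JA (a' i)
  -- the `a i` lie in the radical
  have hspan_ne : Ideal.span (Set.range a) ≠ ⊤ := by
    intro htop
    apply hreg.top_ne_smul
    rw [smul_eq_mul, Ideal.mul_top, ofList_ofFn]
    exact htop.symm
  have hrad : ∀ x ∈ List.ofFn a, x ∈ Ideal.jacobson (⊥ : Ideal B) := by
    intro x hx
    rw [List.mem_ofFn] at hx
    obtain ⟨i, rfl⟩ := hx
    rw [IsLocalRing.jacobson_eq_maximalIdeal ⊥ bot_ne_top, IsLocalRing.mem_maximalIdeal,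
      mem_nonunits_iff]
    intro hu
    exact hspan_ne (Ideal.eq_top_of_isUnit_mem _ (Ideal.subset_span ⟨i, rfl⟩) hu)
  -- Step A over `C₀ = C' / J`
  let m₀ : Ideal (C' ⧸ J) := m.map (Ideal.Quotient.mk J)
  set m₀B : Ideal B := m₀.map (algebraMap (C' ⧸ J) B) with hm₀B
  have hm₀B' : m₀B = mA.map (Ideal.Quotient.mk JA) := by
    rw [hm₀B, hmA, Ideal.map_map, Ideal.map_map]
    congr 1
  let N := B ⧸ m₀B
  let p : B →ₗ[B] N := Submodule.mkQ m₀B
  have hp : Surjective p := Submodule.mkQ_surjective m₀B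
  have hker : LinearMap.ker p = m₀B • (⊤ : Submodule B B) := by
    rw [Submodule.ker_mkQ, smul_eq_mul, Ideal.mul_top]
  have hspanB : Ideal.ofList (List.ofFn a) • (⊤ : Submodule B B) = Ideal.span (Set.range a) := by
    rw [smul_eq_mul, Ideal.mul_top, ofList_ofFn]
  have hflatB : Module.Flat (C' ⧸ J)
      (B ⧸ (Ideal.ofList (List.ofFn a) • (⊤ : Submodule B B))) :=
    Module.Flat.of_linearEquiv
      ((Submodule.quotEquivOfEq _ _ hspanB).restrictScalars (C' ⧸ J))
  obtain ⟨-, hN⟩ := flat_and_isWeaklyRegular_mod (C := C' ⧸ J) m₀ (B := B) (List.ofFn a) hrad B N p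
    hp hker hreg.toIsWeaklyRegular hflatB
  -- lift back to `A'`
  let p₂ : A' →ₗ[A'] N := (p.restrictScalars A') ∘ₗ (Submodule.mkQ JA)
  have hp₂ : Surjective p₂ := hp.comp (Submodule.mkQ_surjective JA)
  have hker₂ : LinearMap.ker p₂ = mA • (⊤ : Submodule A' A') := by
    rw [smul_eq_mul, Ideal.mul_top]
    ext x
    have h1 : p₂ x = Ideal.Quotient.mk m₀B (Ideal.Quotient.mk JA x) := rfl
    rw [LinearMap.mem_ker, h1, Ideal.Quotient.eq_zero_iff_mem, hm₀B', ← Ideal.mem_comap,
      Ideal.comap_map_of_surjective _ Ideal.Quotient.mk_surjective, ← RingHom.ker_eq_comap_bot,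
      Ideal.mk_ker, sup_eq_left.mpr hJAmA]
  have hN₂ : IsWeaklyRegular N (List.ofFn a') := by
    rw [← isWeaklyRegular_map_algebraMap_iff B N (List.ofFn a'), List.map_ofFn]
    exact hN
  obtain ⟨h1, h2⟩ := isWeaklyRegular_and_flat_of_mod m hm (List.ofFn a') A' N p₂ hp₂ hker₂ hN₂
  have hspan : Ideal.ofList (List.ofFn a') • (⊤ : Submodule A' A') = Ideal.span (Set.range a') := by
    rw [smul_eq_mul, Ideal.mul_top, ofList_ofFn]
  refine ⟨⟨h1, ?_⟩, ?_⟩
  · rw [hspan]
    intro htop
    apply hspan_ne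
    have h3 : Ideal.span (Set.range a) = (Ideal.span (Set.range a')).map (Ideal.Quotient.mk JA) := by
      rw [Ideal.map_span, ← Set.range_comp]
      rfl
    rw [h3, ← htop, Ideal.map_top]
  · exact Module.Flat.of_linearEquiv
      ((Submodule.quotEquivOfEq _ _ hspan).restrictScalars C').symm

end Groth.Agent.H3.DefT
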