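import Mathlib
import Groth.Prelude.Def_CAlg

set_option autoImplicit false
universe u

namespace Groth.Agent.H3.DimOne

open IsLocalRing

variable {A : Type u} [CommRing A] [IsLocalRing A] [IsNoetherianRing A]

lemma max_not_minimal (hdim : ringKrullDim A = 1) : maximalIdeal A ∉ minimalPrimes A := by
  intro h
  have h0 : (maximalIdeal A).height = 0 := Ideal.height_eq_zero_iff.mpr h
  have := IsLocalRing.maximalIdeal_height_eq_ringKrullDim (R := A)
  rw [h0, hdim] at this
  exact absurd this (by norm_cast)

lemma prime_cases (hdim : ringKrullDim A = 1) (p : Ideal A) [p.IsPrime] :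
    p ∈ minimalPrimes A ∨ p = maximalIdeal A := by
  by_cases hp : p = maximalIdeal A
  · exact Or.inr hp
  · left
    have hlt : p < maximalIdeal A := lt_of_le_of_ne (IsLocalRing.le_maximalIdeal Ideal.IsPrime.ne_top') hp
    have h1 := Ideal.height_add_one_le_of_lt_of_isPrime hlt
    have h2 : ((maximalIdeal A).height : WithBot ℕ∞) = 1 := by
      rw [IsLocalRing.maximalIdeal_height_eq_ringKrullDim, hdim]
    have h3 : (maximalIdeal A).height = 1 := by exact_mod_cast h2
    rw [h3] at h1
    have h0 : p.height = 0 := by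
      have h1' : p.height + 1 ≤ 0 + 1 := by simpa using h1
      exact le_antisymm ((ENat.add_le_add_iff_right ENat.one_ne_top).mp h1') bot_le
    exact Ideal.height_eq_zero_iff.mp h0

lemma exists_notMem_minimalPrimes (hdim : ringKrullDim A = 1) :
    ∃ f ∈ maximalIdeal A, ∀ p ∈ minimalPrimes A, f ∉ p := by
  classical
  by_contra hcon
  push Not at hcon
  have hfin : (minimalPrimes A).Finite := minimalPrimes.finite_of_isNoetherianRing A
  have hsub : ((maximalIdeal A : Ideal A) : Set A) ⊆ ⋃ i ∈ (hfin.toFinset : Set (Ideal A)), (i : Set A) := by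
    intro x hx
    obtain ⟨p, hp, hxp⟩ := hcon x hx
    simp only [Set.mem_iUnion]
    exact ⟨p, by simpa using hp, hxp⟩
  rw [Ideal.subset_union_prime (f := fun i => i) (maximalIdeal A) (maximalIdeal A)
    (fun i hi _ _ => ((hfin.mem_toFinset).mp hi).1.1)] at hsub
  obtain ⟨p, hp, hle⟩ := hsub
  rw [hfin.mem_toFinset] at hp
  have : p = maximalIdeal A :=
    le_antisymm (IsLocalRing.le_maximalIdeal hp.1.1.ne_top) hle
  exact max_not_minimal hdim (this ▸ hp)

lemma radical_iff (hdim : ringKrullDim A = 1) (f : A) (hf : f ∈ maximalIdeal A) :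
    (maximalIdeal A = (Ideal.span {f}).radical) ↔ (∀ p ∈ minimalPrimes A, f ∉ p) := by
  constructor
  · intro h p hp hfp
    have : (Ideal.span {f}).radical ≤ p := by
      haveI := hp.1.1
      rw [Ideal.IsPrime.radical_le_iff hp.1.1, Ideal.span_le]
      simpa using hfp
    rw [← h] at this
    have heq : p = maximalIdeal A := le_antisymm (IsLocalRing.le_maximalIdeal hp.1.1.ne_top) this
    exact max_not_minimal hdim (heq ▸ hp)
  · intro h
    apply le_antisymm
    · rw [Ideal.radical_eq_sInf]
      apply le_sInf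
      rintro J ⟨hJ1, hJ2⟩
      rcases prime_cases hdim J with hJ | hJ
      · exact absurd (hJ1 (Ideal.subset_span rfl)) (h J hJ)
      · exact hJ.ge
    · rw [Ideal.IsPrime.radical_le_iff inferInstance, Ideal.span_le]
      simpa using hf

omit [IsNoetherianRing A] in
lemma exists_regular_of_depth_eq_one (h : LocCoh.depth A A = 1) :
    ∃ x ∈ maximalIdeal A, x ∈ nonZeroDivisors A := by
  classical
  unfold LocCoh.depth LocCoh.idealDepth at h
  split_ifs at h with h1
  · exact absurd h (by simp)
  · by_contra hcon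
    push Not at hcon
    have : (⨆ (rs : List A) (_ : RingTheory.Sequence.IsWeaklyRegular A rs ∧
        ∀ r ∈ rs, r ∈ maximalIdeal A), (rs.length : ℕ∞)) ≤ 0 := by
      apply iSup₂_le
      rintro rs ⟨hrs, hmem⟩
      cases rs with
      | nil => simp
      | cons x rs' =>
        exfalso
        rw [RingTheory.Sequence.isWeaklyRegular_cons_iff] at hrs
        apply hcon x (hmem x (by simp))
        rw [mem_nonZeroDivisors_iff_right]
        intro a ha
        apply hrs.1
        simpa [smul_eq_mul, mul_comm] using ha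
    rw [h] at this
    exact absurd this (by simp)

lemma isRegular_of_notMem_minimalPrimes_of_isReduced [IsReduced A] (f : A)
    (hf : ∀ p ∈ minimalPrimes A, f ∉ p) : f ∈ nonZeroDivisors A := by
  rw [mem_nonZeroDivisors_iff_right]
  intro a ha
  have : a ∈ nilradical A := by
    rw [nilradical, ← Ideal.sInf_minimalPrimes]
    rw [Ideal.mem_sInf]
    intro p hp
    have : a * f ∈ p := by rw [ha]; exact p.zero_mem
    exact (hp.1.1.mem_or_mem this).resolve_right (hf p hp)
  simpa using this

lemma exists_nzd (hdim : ringKrullDim A = 1) (h : LocCoh.depth A A = 1 ∨ IsReduced A) :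
    ∃ x ∈ maximalIdeal A, x ∈ nonZeroDivisors A := by
  rcases h with h | h
  · exact exists_regular_of_depth_eq_one h
  · obtain ⟨f, hfm, hf⟩ := exists_notMem_minimalPrimes hdim
    exact ⟨f, hfm, isRegular_of_notMem_minimalPrimes_of_isReduced f hf⟩

lemma nzd_iff (hdim : ringKrullDim A = 1) (h : LocCoh.depth A A = 1 ∨ IsReduced A)
    (f : A) (hf : f ∈ maximalIdeal A) :
    (∀ p ∈ minimalPrimes A, f ∉ p) ↔ f ∈ nonZeroDivisors A := by
  constructor
  · intro hmin
    obtain ⟨x, hxm, hx⟩ := exists_nzd hdim h
    have hrad := (radical_iff hdim f hf).mpr hmin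
    have hx' : x ∈ (Ideal.span {f}).radical := hrad ▸ hxm
    obtain ⟨n, hn⟩ := hx'
    rw [Ideal.mem_span_singleton'] at hn
    obtain ⟨t, ht⟩ := hn
    have hxn : x ^ n ∈ nonZeroDivisors A := pow_mem hx n
    rw [← ht] at hxn
    exact (mul_mem_nonZeroDivisors.mp hxn).2
  · intro hnzd p hp hfp
    exact Set.disjoint_left.mp (Ideal.disjoint_nonZeroDivisors_of_mem_minimalPrimes hp) hfp hnzd

lemma isLocalization_iff (hdim : ringKrullDim A = 1) (h : LocCoh.depth A A = 1 ∨ IsReduced A)
    (f : A) (hf : f ∈ maximalIdeal A) :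
    (∀ p ∈ minimalPrimes A, f ∉ p) ↔
      IsLocalization (nonZeroDivisors A) (Localization.Away f) := by
  constructor
  · intro hmin
    have hfn := (nzd_iff hdim h f hf).mp hmin
    refine IsLocalization.of_le_of_exists_dvd (Submonoid.powers f) _
      (Submonoid.powers_le.mpr hfn) ?_
    intro s hs
    by_cases hsu : IsUnit s
    · exact ⟨1, one_mem _, hsu.dvd⟩
    · have hsm : s ∈ maximalIdeal A := (IsLocalRing.mem_maximalIdeal s).mpr hsu
      have hsmin := (nzd_iff hdim h s hsm).mpr hs
      have hrad := (radical_iff hdim s hsm).mpr hsmin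
      have hf' : f ∈ (Ideal.span {s}).radical := hrad ▸ hf
      obtain ⟨n, hn⟩ := hf'
      rw [Ideal.mem_span_singleton] at hn
      exact ⟨f ^ n, ⟨n, rfl⟩, hn⟩
  · intro hloc
    apply (nzd_iff hdim h f hf).mpr
    rw [mem_nonZeroDivisors_iff_right]
    intro a ha
    have hinj : Function.Injective (algebraMap A (Localization.Away f)) :=
      IsLocalization.injective _ (M := nonZeroDivisors A) le_rfl
    apply hinj
    rw [map_zero]
    have hu : IsUnit (algebraMap A (Localization.Away f) f) :=
      IsLocalization.Away.algebraMap_isUnit f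
    have : algebraMap A (Localization.Away f) a * algebraMap A (Localization.Away f) f = 0 := by
      rw [← map_mul, ha, map_zero]
    exact (hu.mul_left_eq_zero).mp this

end Groth.Agent.H3.DimOne
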