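import Mathlib
import Groth.Agent.Lib.Helper3.CA.DimOne1

set_option autoImplicit false
universe u

namespace Groth.Agent.H3.DimOne

open IsLocalRing

/-- index type of minimal primes -/
abbrev MinIdx (A : Type u) [CommRing A] := {p : PrimeSpectrum A // p.asIdeal ∈ minimalPrimes A}

section general

variable {A : Type u} [CommRing A]

lemma notMem_of_algEquiv_pi_localization (f : A)
    (e : Localization.Away f ≃ₐ[A] (∀ p : MinIdx A, Localization.AtPrime p.1.asIdeal)) :
    ∀ p ∈ minimalPrimes A, f ∉ p := by
  intro p hp
  haveI := hp.1.1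
  have hu : IsUnit (algebraMap A (Localization.Away f) f) :=
    IsLocalization.Away.algebraMap_isUnit f
  have hu2 : IsUnit (algebraMap A (∀ p : MinIdx A, Localization.AtPrime p.1.asIdeal) f) := by
    rw [← e.commutes]; exact hu.map e
  let P : MinIdx A := ⟨⟨p, hp.1.1⟩, hp⟩
  have hu3 : IsUnit (algebraMap A (Localization.AtPrime p) f) :=
    hu2.map (Pi.evalRingHom (fun p : MinIdx A => Localization.AtPrime p.1.asIdeal) P)
  exact (IsLocalization.AtPrime.isUnit_to_map_iff _ p f).mp hu3

lemma notMem_of_algEquiv_pi_residueField (f : A)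
    (e : Localization.Away f ≃ₐ[A] (∀ p : MinIdx A, p.1.asIdeal.ResidueField)) :
    ∀ p ∈ minimalPrimes A, f ∉ p := by
  intro p hp
  haveI := hp.1.1
  have hu : IsUnit (algebraMap A (Localization.Away f) f) :=
    IsLocalization.Away.algebraMap_isUnit f
  have hu2 : IsUnit (algebraMap A (∀ p : MinIdx A, p.1.asIdeal.ResidueField) f) := by
    rw [← e.commutes]; exact hu.map e
  let P : MinIdx A := ⟨⟨p, hp.1.1⟩, hp⟩
  have hu3 : IsUnit (algebraMap A p.ResidueField f) :=
    hu2.map (Pi.evalRingHom (fun p : MinIdx A => p.1.asIdeal.ResidueField) P)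
  intro hfp
  have := (Ideal.algebraMap_residueField_eq_zero (I := p)).mpr hfp
  rw [this] at hu3
  exact not_isUnit_zero hu3

/-- Structure: if `A_f` is Artinian and its spectrum is identified with the minimal primes. -/
lemma nonempty_algEquiv_pi_localization (f : A) [IsArtinianRing (Localization.Away f)]
    (h : ∀ P : PrimeSpectrum (Localization.Away f),
      (PrimeSpectrum.comap (algebraMap A (Localization.Away f)) P).asIdeal ∈ minimalPrimes A)
    (hbij : Function.Bijective (fun P : PrimeSpectrum (Localization.Away f) =>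
      (⟨PrimeSpectrum.comap (algebraMap A (Localization.Away f)) P, h P⟩ : MinIdx A))) :
    Nonempty (Localization.Away f ≃ₐ[A] (∀ p : MinIdx A, Localization.AtPrime p.1.asIdeal)) := by
  let e : PrimeSpectrum (Localization.Away f) ≃ MinIdx A := Equiv.ofBijective _ hbij
  let Φ₁ : Localization.Away f ≃ₐ[Localization.Away f]
      PrimeSpectrum.PiLocalization (Localization.Away f) :=
    AlgEquiv.ofBijective (PrimeSpectrum.toPiLocalization (Localization.Away f))
      PrimeSpectrum.toPiLocalization_bijective
  let Φ₁' : Localization.Away f ≃ₐ[A]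
      PrimeSpectrum.PiLocalization (Localization.Away f) := Φ₁.restrictScalars A
  let Φ₂ : PrimeSpectrum.PiLocalization (Localization.Away f) ≃ₐ[A]
      (∀ P : PrimeSpectrum (Localization.Away f), Localization.AtPrime (e P).1.asIdeal) :=
    AlgEquiv.piCongrRight (fun P =>
      (IsLocalization.localizationLocalizationAtPrimeIsoLocalization
        (Submonoid.powers f) P.asIdeal).symm)
  let Φ₃ : (∀ P : PrimeSpectrum (Localization.Away f), Localization.AtPrime (e P).1.asIdeal) ≃ₐ[A]
      (∀ p : MinIdx A, Localization.AtPrime p.1.asIdeal) :=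
    AlgEquiv.piCongrLeft A (fun p : MinIdx A => Localization.AtPrime p.1.asIdeal) e
  exact ⟨Φ₁'.trans (Φ₂.trans Φ₃)⟩

end general

section local1

variable {A : Type u} [CommRing A] [IsLocalRing A] [IsNoetherianRing A]

lemma comap_mem_minimalPrimes (hdim : ringKrullDim A = 1) (f : A) (hf : f ∈ maximalIdeal A)
    (P : PrimeSpectrum (Localization.Away f)) :
    (PrimeSpectrum.comap (algebraMap A (Localization.Away f)) P).asIdeal ∈ minimalPrimes A := by
  rcases prime_cases hdim (PrimeSpectrum.comap (algebraMap A (Localization.Away f)) P).asIdeal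
    with h | h
  · exact h
  · exfalso
    have : f ∈ (PrimeSpectrum.comap (algebraMap A (Localization.Away f)) P).asIdeal := h ▸ hf
    exact P.2.ne_top (Ideal.eq_top_of_isUnit_mem _ this (IsLocalization.Away.algebraMap_isUnit f))

lemma bijective_comap (hdim : ringKrullDim A = 1) (f : A) (hf : f ∈ maximalIdeal A)
    (hmin : ∀ p ∈ minimalPrimes A, f ∉ p) :
    Function.Bijective (fun P : PrimeSpectrum (Localization.Away f) =>
      (⟨PrimeSpectrum.comap (algebraMap A (Localization.Away f)) P,
        comap_mem_minimalPrimes hdim f hf P⟩ : MinIdx A)) := by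
  constructor
  · intro P Q hPQ
    have : PrimeSpectrum.comap (algebraMap A (Localization.Away f)) P =
        PrimeSpectrum.comap (algebraMap A (Localization.Away f)) Q := congrArg Subtype.val hPQ
    exact PrimeSpectrum.localization_comap_injective (Localization.Away f) (Submonoid.powers f) this
  · rintro ⟨p, hp⟩
    have : p ∈ Set.range (PrimeSpectrum.comap (algebraMap A (Localization.Away f))) := by
      rw [PrimeSpectrum.localization_away_comap_range (Localization.Away f) f]
      exact hmin p.asIdeal hp
    obtain ⟨P, rfl⟩ := this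
    exact ⟨P, rfl⟩

lemma isArtinianRing_away (hdim : ringKrullDim A = 1) (f : A) (hf : f ∈ maximalIdeal A) :
    IsArtinianRing (Localization.Away f) := by
  haveI : IsNoetherianRing (Localization.Away f) :=
    IsLocalization.isNoetherianRing (Submonoid.powers f) _ inferInstance
  rw [isArtinianRing_iff_krullDimLE_zero, Ring.krullDimLE_zero_iff]
  intro P hP
  obtain ⟨Q, hQmax, hPQ⟩ := Ideal.exists_le_maximal P hP.ne_top
  have h1 := comap_mem_minimalPrimes hdim f hf ⟨P, hP⟩
  have h2 := comap_mem_minimalPrimes hdim f hf ⟨Q, hQmax.isPrime⟩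
  have hle : P.comap (algebraMap A (Localization.Away f)) ≤
      Q.comap (algebraMap A (Localization.Away f)) := Ideal.comap_mono hPQ
  have heq : P.comap (algebraMap A (Localization.Away f)) =
      Q.comap (algebraMap A (Localization.Away f)) :=
    le_antisymm hle (h2.2 ⟨h1.1.1, bot_le⟩ hle)
  have : P = Q := by
    rw [← IsLocalization.map_under (Submonoid.powers f) _ P,
      ← IsLocalization.map_under (Submonoid.powers f) _ Q, Ideal.under_def, Ideal.under_def, heq]
  exact this ▸ hQmax

theorem pi_localization_iff (hdim : ringKrullDim A = 1) (f : A) (hf : f ∈ maximalIdeal A) :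
    (∀ p ∈ minimalPrimes A, f ∉ p) ↔
      Nonempty (Localization.Away f ≃ₐ[A]
        (∀ p : MinIdx A, Localization.AtPrime p.1.asIdeal)) := by
  constructor
  · intro hmin
    haveI := isArtinianRing_away hdim f hf
    exact nonempty_algEquiv_pi_localization f (comap_mem_minimalPrimes hdim f hf)
      (bijective_comap hdim f hf hmin)
  · rintro ⟨e⟩
    exact notMem_of_algEquiv_pi_localization f e

omit [IsLocalRing A] [IsNoetherianRing A] in
lemma nonempty_algEquiv_residueField [IsReduced A] (p : Ideal A) [p.IsPrime]
    (hp : p ∈ minimalPrimes A) :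
    Nonempty (Localization.AtPrime p ≃ₐ[A] p.ResidueField) := by
  haveI : Ring.KrullDimLE 0 (Localization.AtPrime p) := Ring.KrullDimLE.of_isLocalization p hp _
  have hfield : IsField (Localization.AtPrime p) := Ring.KrullDimLE.isField_of_isReduced
  have hm : maximalIdeal (Localization.AtPrime p) = ⊥ :=
    IsLocalRing.isField_iff_maximalIdeal_eq.mp hfield
  refine ⟨AlgEquiv.ofBijective
    (IsScalarTower.toAlgHom A (Localization.AtPrime p) p.ResidueField) ⟨?_, ?_⟩⟩
  · rw [injective_iff_map_eq_zero]
    intro x hx
    have : x ∈ maximalIdeal (Localization.AtPrime p) :=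
      (IsLocalRing.residue_eq_zero_iff x).mp hx
    rw [hm] at this
    simpa using this
  · exact IsLocalRing.residue_surjective

theorem pi_residueField_iff [IsReduced A] (hdim : ringKrullDim A = 1) (f : A)
    (hf : f ∈ maximalIdeal A) :
    (∀ p ∈ minimalPrimes A, f ∉ p) ↔
      Nonempty (Localization.Away f ≃ₐ[A] (∀ p : MinIdx A, p.1.asIdeal.ResidueField)) := by
  constructor
  · intro hmin
    obtain ⟨e⟩ := (pi_localization_iff hdim f hf).mp hmin
    have h2 : ∀ p : MinIdx A, Nonempty (Localization.AtPrime p.1.asIdeal ≃ₐ[A]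
        p.1.asIdeal.ResidueField) := fun p => nonempty_algEquiv_residueField p.1.asIdeal p.2
    exact ⟨e.trans (AlgEquiv.piCongrRight fun p => (h2 p).some)⟩
  · rintro ⟨e⟩
    exact notMem_of_algEquiv_pi_residueField f e

end local1

end Groth.Agent.H3.DimOne
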