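import Mathlib
import Groth.Prelude.Def_Found
import Groth.Prelude.Def_EGA4b
import Groth.Agent.Lib.Helper6.Catenary

set_option autoImplicit false
universe u

namespace Groth.Agent.H3.EquidimCat
open Order

section

variable {A : Type u} [CommRing A] [IsNoetherianRing A] [IsLocalRing A]

/-- In a catenary Noetherian local ring, below every prime `p` there is a minimal prime whose
coheight is `coheight p + height p`. -/
lemma exists_min_coheight_eq (hcat : CAlg.IsCatenary A) :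
    ∀ (h : ℕ) (p : PrimeSpectrum A), Order.height p = h →
      ∃ 𝔭 ≤ p, IsMin 𝔭 ∧ Order.coheight 𝔭 = Order.coheight p + h := by
  intro h
  induction h with
  | zero =>
    intro p hp
    refine ⟨p, le_rfl, ?_, by simp⟩
    rw [← Order.height_eq_zero]; exact_mod_cast hp
  | succ n ih =>
    intro p hp
    have hp' : Order.height p = (n : ℕ∞) + 1 := by exact_mod_cast hp
    obtain ⟨-, ⟨q, hqp, hq⟩, hall⟩ := Order.height_eq_coe_add_one_iff.1 hp'
    have hcov : q ⋖ p := by
      refine ⟨hqp, fun r hqr hrp => ?_⟩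
      have h1 : Order.height r ≤ n := hall r hrp
      have h2 : Order.height q < Order.height r :=
        Order.height_strictMono hqr (by rw [hq]; exact ENat.natCast_lt_top n)
      rw [hq] at h2
      exact absurd (lt_of_lt_of_le h2 h1) (lt_irrefl _)
    obtain ⟨𝔭, h𝔭q, hmin, hco⟩ := ih q hq
    refine ⟨𝔭, h𝔭q.trans hqp.le, hmin, ?_⟩
    rw [hco, Groth.Agent.H6.Cat.coheight_eq_add_one hcat hcov]
    push_cast
    ring

/-- `dim A ≤ ht p + dim A/p` in an equidimensional catenary Noetherian local ring. -/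
lemma dim_le_height_add (hcat : CAlg.IsCatenary A) (heq : EGA4.IsEquidim A) (p : PrimeSpectrum A) :
    ringKrullDim A ≤ (p.asIdeal.height : WithBot ℕ∞) + ringKrullDim (A ⧸ p.asIdeal) := by
  have hfin : p.asIdeal.height ≠ ⊤ := Ideal.height_ne_top p.2.ne_top
  obtain ⟨h, hh⟩ := ENat.ne_top_iff_exists.mp hfin
  have hh' : Order.height p = h := by rw [← p.height_eq_orderHeight, hh]
  obtain ⟨𝔭, -, hmin, hco⟩ := exists_min_coheight_eq hcat h p hh'
  have h1 := heq 𝔭.asIdeal (PrimeSpectrum.isMin_iff.1 hmin)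
  rw [← h1, Groth.Agent.H6.Cat.ringKrullDim_quotient_eq_coheight,
    Groth.Agent.H6.Cat.ringKrullDim_quotient_eq_coheight, hco, ← hh]
  push_cast
  rw [add_comm]

end

/-- `ht q + dim R/q ≤ dim R`. -/
lemma height_add_dim_quotient_le {R : Type u} [CommRing R] (q : PrimeSpectrum R) :
    (q.asIdeal.height : WithBot ℕ∞) + ringKrullDim (R ⧸ q.asIdeal) ≤ ringKrullDim R := by
  have : Nonempty (PrimeSpectrum R) := ⟨q⟩
  rw [q.height_eq_orderHeight, Groth.Agent.H6.Cat.ringKrullDim_quotient_eq_coheight, ringKrullDim,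
    Order.krullDim_eq_iSup_height_add_coheight_of_nonempty]
  exact_mod_cast le_iSup (fun a : PrimeSpectrum R => Order.height a + Order.coheight a) q

section Main

variable {A : Type u} [CommRing A] [IsNoetherianRing A] [IsLocalRing A]

/-- Step A: a prime `p₀ ⊇ p` containing `t` with `dim A/p ≤ dim A/p₀ + 1`. -/
lemma exists_prime_ge (t : A) (ht : t ∈ IsLocalRing.maximalIdeal A) (p : PrimeSpectrum A) :
    ∃ p₀ : PrimeSpectrum A, p ≤ p₀ ∧ t ∈ p₀.asIdeal ∧
      ringKrullDim (A ⧸ p.asIdeal) ≤ ringKrullDim (A ⧸ p₀.asIdeal) + 1 := by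
  by_cases htp : t ∈ p.asIdeal
  · refine ⟨p, le_rfl, htp, ?_⟩
    exact le_add_of_nonneg_right zero_le_one
  · obtain ⟨R, hR⟩ : ∃ R : Type u, R = (A ⧸ p.asIdeal) := ⟨_, rfl⟩
    have hloc : IsLocalRing (A ⧸ p.asIdeal) :=
      IsLocalRing.of_surjective' (Ideal.Quotient.mk p.asIdeal) Ideal.Quotient.mk_surjective
    obtain ⟨tb, htb⟩ : ∃ tb, tb = Ideal.Quotient.mk p.asIdeal t := ⟨_, rfl⟩
    have htbm : tb ∈ IsLocalRing.maximalIdeal (A ⧸ p.asIdeal) := by
      rw [IsLocalRing.mem_maximalIdeal, mem_nonunits_iff, htb]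
      intro hu
      have : IsLocalHom (Ideal.Quotient.mk p.asIdeal) :=
        IsLocalHom.of_surjective _ Ideal.Quotient.mk_surjective
      exact ht (isUnit_of_map_unit (Ideal.Quotient.mk p.asIdeal) t hu)
    have h1 := Ideal.height_le_height_add_one_of_mem (r := tb)
      (p := IsLocalRing.maximalIdeal (A ⧸ p.asIdeal)) htbm
    obtain ⟨M', hM'⟩ : ∃ M', M' = (IsLocalRing.maximalIdeal (A ⧸ p.asIdeal)).map
      (Ideal.Quotient.mk (Ideal.span {tb})) := ⟨_, rfl⟩
    have hM'prime : M'.IsPrime := by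
      rw [hM']
      exact Ideal.isPrime_map_quotientMk_of_isPrime
        (by rw [Ideal.span_singleton_le_iff_mem]; exact htbm)
    obtain ⟨l, hl, hlen⟩ := M'.exists_ltSeries_length_eq_height
    -- pull back along `π : A → (A/p)/(t̄)`
    obtain ⟨π, hπ⟩ : ∃ π : A →+* ((A ⧸ p.asIdeal) ⧸ Ideal.span {tb}),
        π = (Ideal.Quotient.mk (Ideal.span {tb})).comp (Ideal.Quotient.mk p.asIdeal) := ⟨_, rfl⟩
    have hπsurj : Function.Surjective π := by
      rw [hπ]
      exact Ideal.Quotient.mk_surjective.comp Ideal.Quotient.mk_surjective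
    let l' : LTSeries (PrimeSpectrum A) :=
      l.map (PrimeSpectrum.comap π) (RingHom.strictMono_comap_of_surjective hπsurj)
    have hker : ∀ a ∈ p.asIdeal, π a = 0 := by
      intro a ha
      rw [hπ, RingHom.comp_apply, Ideal.Quotient.eq_zero_iff_mem.2 ha, map_zero]
    have hπt : π t = 0 := by
      rw [hπ, RingHom.comp_apply, ← htb, Ideal.Quotient.eq_zero_iff_mem]
      exact Ideal.mem_span_singleton_self tb
    refine ⟨l'.head, ?_, ?_, ?_⟩
    · intro a ha
      change π a ∈ l.head.asIdeal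
      rw [hker a ha]; exact Ideal.zero_mem _
    · change π t ∈ l.head.asIdeal
      rw [hπt]; exact Ideal.zero_mem _
    · rw [Groth.Agent.H6.Cat.ringKrullDim_quotient_eq_coheight l'.head,
        ← IsLocalRing.maximalIdeal_height_eq_ringKrullDim]
      have h2 : (l'.length : ℕ∞) ≤ Order.coheight l'.head := Order.length_le_coheight_head
      have h3 : (l'.length : ℕ∞) = M'.height := by
        change (l.length : ℕ∞) = _
        exact hlen
      rw [← hM', ← h3] at h1
      have h4 : (IsLocalRing.maximalIdeal (A ⧸ p.asIdeal)).height ≤ Order.coheight l'.head + 1 :=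
        h1.trans (add_le_add_left h2 1)
      exact_mod_cast h4

theorem main (hA : EGA4.IsEquidim A) (hA' : CAlg.IsCatenary A) (t : A)
    (ht : ringKrullDim (A ⧸ Ideal.span {t}) + 1 = ringKrullDim A) (Z : Set (PrimeSpectrum A))
    (hZ : StableUnderSpecialization Z) :
    (⨅ p ∈ {p ∈ Z | t ∈ p.asIdeal}, (p.asIdeal.map (Ideal.Quotient.mk (Ideal.span {t}))).height) ≤
        ⨅ p ∈ Z, p.asIdeal.height ∧
      (⨅ p ∈ Z, p.asIdeal.height) ≤ ⨅ p ∈ {p ∈ Z | t ∉ p.asIdeal}, p.asIdeal.height := by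
  refine ⟨?_, le_iInf₂ fun p hp => iInf₂_le p hp.1⟩
  have htm : t ∈ IsLocalRing.maximalIdeal A := by
    by_contra hcon
    have hu : IsUnit t := by
      by_contra h
      exact hcon ((IsLocalRing.mem_maximalIdeal t).2 h)
    have htop : Ideal.span {t} = ⊤ := Ideal.span_singleton_eq_top.2 hu
    have hsub : Subsingleton (A ⧸ Ideal.span {t}) := Ideal.Quotient.subsingleton_iff.2 htop
    rw [ringKrullDim_eq_bot_of_subsingleton, WithBot.bot_add] at ht
    exact absurd ht.symm (ringKrullDim_ne_bot)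
  refine le_iInf₂ fun p hp => ?_
  obtain ⟨p₀, hle, htp₀, hdim⟩ := exists_prime_ge t htm p
  have hp₀Z : p₀ ∈ Z := hZ ((PrimeSpectrum.le_iff_specializes p p₀).1 hle) hp
  refine (iInf₂_le p₀ ⟨hp₀Z, htp₀⟩).trans ?_
  -- the prime of `A/t`
  have hspan : Ideal.span {t} ≤ p₀.asIdeal := by
    rw [Ideal.span_singleton_le_iff_mem]; exact htp₀
  have hqprime : (p₀.asIdeal.map (Ideal.Quotient.mk (Ideal.span {t}))).IsPrime :=
    Ideal.isPrime_map_quotientMk_of_isPrime hspan
  have h1 := height_add_dim_quotient_le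
    (⟨p₀.asIdeal.map (Ideal.Quotient.mk (Ideal.span {t})), hqprime⟩ : PrimeSpectrum _)
  have h2 := ringKrullDim_eq_of_ringEquiv (DoubleQuot.quotQuotEquivQuotOfLE hspan)
  rw [h2] at h1
  have h3 := dim_le_height_add hA' hA p
  -- numerics
  have hloc₀ : IsLocalRing (A ⧸ p₀.asIdeal) :=
    IsLocalRing.of_surjective' (Ideal.Quotient.mk p₀.asIdeal) Ideal.Quotient.mk_surjective
  obtain ⟨d₀, hd₀⟩ : ∃ d₀ : ℕ, ringKrullDim (A ⧸ p₀.asIdeal) = d₀ := by
    have h := (finiteRingKrullDim_iff_ne_bot_and_top (R := A ⧸ p₀.asIdeal)).1 inferInstance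
    obtain ⟨x, hx⟩ := WithBot.ne_bot_iff_exists.1 h.1
    have hxtop : x ≠ ⊤ := by
      intro hx'
      rw [hx'] at hx
      exact h.2 hx.symm
    obtain ⟨n, hn⟩ := ENat.ne_top_iff_exists.mp hxtop
    exact ⟨n, by rw [← hx, ← hn]; rfl⟩
  obtain ⟨a, ha⟩ : ∃ a : ℕ∞,
      (p₀.asIdeal.map (Ideal.Quotient.mk (Ideal.span {t}))).height = a := ⟨_, rfl⟩
  obtain ⟨b, hb⟩ : ∃ b : ℕ∞, p.asIdeal.height = b := ⟨_, rfl⟩
  rw [ha, hb]
  simp only at h1
  rw [ha, hd₀] at h1
  rw [hb] at h3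
  -- `dim A/t + 1 = dim A ≤ b + dim A/p ≤ b + d₀ + 1`
  have h4 : ringKrullDim (A ⧸ Ideal.span {t}) + 1 ≤ (b : WithBot ℕ∞) + (d₀ : WithBot ℕ∞) + 1 := by
    rw [ht]
    refine h3.trans ?_
    rw [add_assoc]
    exact add_le_add_right (hd₀ ▸ hdim) _
  have h5 : ringKrullDim (A ⧸ Ideal.span {t}) ≤ (b : WithBot ℕ∞) + (d₀ : WithBot ℕ∞) := by
    generalize ringKrullDim (A ⧸ Ideal.span {t}) = e at h4
    induction e using WithBot.recBotCoe with
    | bot => exact bot_le
    | coe e' =>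
      have h4' : (e' + 1 : ℕ∞) ≤ (b + d₀) + 1 := by exact_mod_cast h4
      have := (ENat.add_le_add_iff_right ENat.one_ne_top).1 h4'
      exact_mod_cast this
  have h6 : (a : WithBot ℕ∞) + (d₀ : WithBot ℕ∞) ≤ (b : WithBot ℕ∞) + (d₀ : WithBot ℕ∞) :=
    h1.trans h5
  have h6' : a + (d₀ : ℕ∞) ≤ b + (d₀ : ℕ∞) := by exact_mod_cast h6
  exact (ENat.add_le_add_iff_right (ENat.natCast_ne_top d₀)).1 h6'

end Main

end Groth.Agent.H3.EquidimCat
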