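import Mathlib
import Groth.Agent.Lib.Helper1.FlatNilpotent
import Groth.Agent.Lib.Helper1.DeformFP

/-! Étaleness of a square-zero lift (S9462). -/

set_option autoImplicit false
universe u

namespace Groth.Agent.H3.EtSqZero

open TensorProduct Function

section Pushout

variable (A' A B' B : Type u) [CommRing A'] [CommRing A] [CommRing B'] [CommRing B]
  [Algebra A' A] [Algebra A' B'] [Algebra A B] [Algebra B' B] [Algebra A' B]
  [IsScalarTower A' A B] [IsScalarTower A' B' B]

/-- A commutative square of surjections with `ker (B' → B) = ker (A' → A) B'` is a pushout. -/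
theorem isPushout_of_surjective (hA : Surjective (algebraMap A' A))
    (hB : Surjective (algebraMap B' B))
    (hJI : RingHom.ker (algebraMap B' B) = (RingHom.ker (algebraMap A' A)).map (algebraMap A' B')) :
    Algebra.IsPushout A' A B' B := by
  rw [Algebra.isPushout_iff]
  let f : B' →ₗ[A'] B := (IsScalarTower.toAlgHom A' B' B).toLinearMap
  have hf : ∀ b, f b = algebraMap B' B b := fun _ => rfl
  let g : A ⊗[A'] B' →ₗ[A] B := f.liftBaseChange A
  have hone : ∀ t : A ⊗[A'] B', ∃ b : B', t = (1 : A) ⊗ₜ[A'] b := by
    intro t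
    induction t using TensorProduct.induction_on with
    | zero => exact ⟨0, by simp⟩
    | tmul a b =>
      obtain ⟨a', rfl⟩ := hA a
      refine ⟨a' • b, ?_⟩
      rw [TensorProduct.tmul_smul, TensorProduct.smul_tmul', Algebra.algebraMap_eq_smul_one]
    | add x y hx hy =>
      obtain ⟨b₁, rfl⟩ := hx
      obtain ⟨b₂, rfl⟩ := hy
      exact ⟨b₁ + b₂, by rw [TensorProduct.tmul_add]⟩
  have hzero : ∀ b ∈ (RingHom.ker (algebraMap A' A)).map (algebraMap A' B'),
      (1 : A) ⊗ₜ[A'] b = 0 := by
    intro b hb
    have hb' : b ∈ (RingHom.ker (algebraMap A' A)) • (⊤ : Submodule A' B') := by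
      rw [Ideal.smul_top_eq_map]; exact hb
    refine Submodule.smul_induction_on hb' ?_ ?_
    · intro i hi x _
      rw [TensorProduct.tmul_smul, TensorProduct.smul_tmul', ← Algebra.algebraMap_eq_smul_one,
        (RingHom.mem_ker).mp hi, TensorProduct.zero_tmul]
    · intro x y hx hy
      rw [TensorProduct.tmul_add, hx, hy, add_zero]
  have hg : Bijective g := by
    constructor
    · rw [injective_iff_map_eq_zero]
      intro t ht
      obtain ⟨b, rfl⟩ := hone t
      rw [LinearMap.liftBaseChange_tmul, one_smul, hf] at ht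
      exact hzero b (hJI ▸ (RingHom.mem_ker).mpr ht)
    · intro y
      obtain ⟨b, rfl⟩ := hB y
      exact ⟨1 ⊗ₜ b, by rw [LinearMap.liftBaseChange_tmul, one_smul, hf]⟩
  refine IsBaseChange.of_equiv (LinearEquiv.ofBijective g hg) ?_
  intro x
  rw [LinearEquiv.ofBijective_apply, LinearMap.liftBaseChange_tmul, one_smul]

end Pushout

theorem main (A' : Type u) [CommRing A'] (A : Type u) [CommRing A]
    [Algebra A' A] (hA : Function.Surjective (algebraMap A' A))
    (hI : RingHom.ker (algebraMap A' A) ^ 2 = ⊥)
    (B' : Type u) [CommRing B'] [Algebra A' B'] (B : Type u) [CommRing B] [Algebra B' B]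
    [Algebra A B] [Algebra A' B] [IsScalarTower A' A B] [IsScalarTower A' B' B]
    (hB : Function.Surjective (algebraMap B' B))
    [Algebra.Etale A B]
    (hJI : RingHom.ker (algebraMap B' B) = (RingHom.ker (algebraMap A' A)).map (algebraMap A' B'))
    (hinj : Function.Injective ((RingHom.ker (algebraMap A' A)).subtype.baseChange B')) :
    Algebra.Etale A' B' := by
  set I := RingHom.ker (algebraMap A' A) with hIdef
  have hInil : IsNilpotent I := ⟨2, hI⟩
  haveI hpo : Algebra.IsPushout A' A B' B := isPushout_of_surjective A' A B' B hA hB hJI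
  -- flatness
  haveI hflat : Module.Flat A' B' := by
    let Q := A' ⧸ I
    let e : Q ≃+* A := RingHom.quotientKerEquivOfSurjective hA
    letI : Algebra Q A := e.toRingHom.toAlgebra
    haveI : IsScalarTower A' Q A := IsScalarTower.of_algebraMap_eq fun x => rfl
    letI : Algebra Q B := ((algebraMap A B).comp e.toRingHom).toAlgebra
    haveI : IsScalarTower Q A B := IsScalarTower.of_algebraMap_eq fun x => rfl
    haveI : IsScalarTower A' Q B := IsScalarTower.of_algebraMap_eq fun x => by
      change algebraMap A' B x = algebraMap A B (e (Ideal.Quotient.mk I x))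
      rw [IsScalarTower.algebraMap_apply A' A B]
      rfl
    haveI : Module.Flat Q A :=
      Module.Flat.of_linearEquiv (LinearEquiv.ofBijective (Algebra.linearMap Q A) e.bijective).symm
    haveI : Module.Flat A B := inferInstance
    haveI : Module.Flat Q B := Module.Flat.trans Q A B
    -- `Q ⊗ B' ≃ B` as `Q`-modules
    let f : B' →ₗ[A'] B := (IsScalarTower.toAlgHom A' B' B).toLinearMap
    have hfsurj : Surjective f := hB
    have hker : LinearMap.ker f = I • (⊤ : Submodule A' B') := by
      rw [Ideal.smul_top_eq_map, ← hJI]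
      rfl
    let e₁ : (Q ⊗[A'] B') ≃ₗ[A'] B :=
      (TensorProduct.quotTensorEquivQuotSMul B' I) ≪≫ₗ
        (Submodule.quotEquivOfEq _ _ hker.symm) ≪≫ₗ (f.quotKerEquivOfSurjective hfsurj)
    let e₂ : (Q ⊗[A'] B') ≃ₗ[Q] B :=
      LinearEquiv.extendScalarsOfSurjective Ideal.Quotient.mk_surjective e₁
    haveI : Module.Flat Q (Q ⊗[A'] B') := Module.Flat.of_linearEquiv e₂
    have h1 : Injective (I.subtype.lTensor B') := by
      rw [← LinearMap.baseChange_eq_ltensor]; exact hinj
    have h2 : Injective (I.subtype.rTensor B') := (LinearMap.lTensor_inj_iff_rTensor_inj _ _).mp h1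
    exact Groth.Agent.H1.flat_of_isNilpotent_of_flat_quotient I hInil h2
  -- finite presentation
  haveI hfp : Algebra.FinitePresentation A' B' := by
    haveI : Algebra.IsPushout A' A B' B := hpo
    refine Groth.Agent.H1.finitePresentation_of_isPushout_of_isNilpotent A' A' B' A B hA I hInil ?_
    rw [Algebra.algebraMap_self, Ideal.map_id]
  -- formally unramified
  haveI hunr : Algebra.FormallyUnramified A' B' :=
    Groth.Agent.H1.formallyUnramified_of_isPushout_of_isNilpotent A' A B' B hA hInil
  exact Algebra.Etale.of_formallyUnramified_of_flat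

end Groth.Agent.H3.EtSqZero
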