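import Mathlib
import Groth.Prelude.Def_EGA4b
import Groth.Agent.Lib.Helper1.ComplQuot
import Groth.Agent.Lib.Helper3.CA.RegHomLoc
import Groth.Agent.Lib.Helper3.CA.FFDom1
import Groth.Agent.S0543

/-! Helper3: transport of regular homomorphisms along ring isomorphisms; the G-ring property only
depends on the local rings. -/

set_option autoImplicit false
universe u
open TensorProduct

namespace Groth.Agent.H3.GRing

open Groth.Agent.H3.RegHomBC

/-- Transport of a regular homomorphism along compatible ring isomorphisms. -/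
theorem isRegularHom_of_ringEquiv {A B A' B' : Type u} [CommRing A] [CommRing B] [CommRing A']
    [CommRing B'] [Algebra A B] [Algebra A' B'] [IsNoetherianRing B] (e₁ : A ≃+* A') (e₂ : B ≃+* B')
    (hc : ∀ a, e₂ (algebraMap A B a) = algebraMap A' B' (e₁ a)) (h : CAlg.IsRegularHom A B) :
    CAlg.IsRegularHom A' B' := by
  let _ : Algebra A A' := e₁.toRingHom.toAlgebra
  let _ : Algebra A B' := ((algebraMap A' B').comp e₁.toRingHom).toAlgebra
  have : IsScalarTower A A' B' := IsScalarTower.of_algebraMap_eq fun _ => rfl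
  let e₂' : B ≃ₐ[A] B' := AlgEquiv.ofRingEquiv (f := e₂) (fun a => hc a)
  have h1 : CAlg.IsRegularHom A B' := isRegularHom_of_algEquiv A B B' e₂' h
  have : IsNoetherianRing B' := isNoetherianRing_of_ringEquiv B e₂
  have : IsLocalization (⊥ : Submonoid A) A := IsLocalization.self (by simp)
  let eA : A ≃ₐ[A] A' := AlgEquiv.ofRingEquiv (f := e₁) (fun a => rfl)
  have : IsLocalization (⊥ : Submonoid A) A' :=
    IsLocalization.isLocalization_of_algEquiv (⊥ : Submonoid A) eA
  have : IsLocalization (Algebra.algebraMapSubmonoid B' (⊥ : Submonoid A)) B' :=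
    IsLocalization.self (by
      rintro _ ⟨x, hx, rfl⟩
      rw [Submonoid.mem_bot.mp hx, map_one]
      exact isUnit_one)
  exact isRegularHom_localization A B' h1 (⊥ : Submonoid A) A' B'

open IsLocalRing in
/-- Completion of isomorphic local rings. -/
noncomputable def cplEquiv {A B : Type u} [CommRing A] [CommRing B] [IsNoetherianRing A]
    [IsLocalRing A] [IsLocalRing B] (e : A ≃+* B) : EGA4.Cpl A ≃+* EGA4.Cpl B :=
  ((RingEquiv.quotientBot (EGA4.Cpl A)).symm.trans
    (Ideal.quotEquivOfEq (by
      have : RingHom.ker e.toRingHom = ⊥ := (RingHom.injective_iff_ker_eq_bot _).mp e.injective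
      rw [this, Ideal.map_bot]))).trans
    (Groth.Agent.H1.ComplQuot.localEquiv e.toRingHom e.surjective)

theorem cplEquiv_of {A B : Type u} [CommRing A] [CommRing B] [IsNoetherianRing A]
    [IsLocalRing A] [IsLocalRing B] (e : A ≃+* B) (a : A) :
    cplEquiv e (algebraMap A (EGA4.Cpl A) a) = algebraMap B (EGA4.Cpl B) (e a) := by
  simp only [cplEquiv, RingEquiv.trans_apply, RingEquiv.quotientBot_symm_mk,
    Ideal.quotEquivOfEq_mk]
  exact Groth.Agent.H1.ComplQuot.localEquiv_mk_of e.toRingHom e.surjective a

/-- The property "the completion map is regular" transfers along isomorphisms of local rings. -/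
theorem isRegularHom_cpl_of_ringEquiv {A B : Type u} [CommRing A] [CommRing B]
    [IsNoetherianRing A] [IsLocalRing A] [IsLocalRing B] (e : A ≃+* B)
    (h : CAlg.IsRegularHom A (EGA4.Cpl A)) : CAlg.IsRegularHom B (EGA4.Cpl B) := by
  have : IsNoetherianRing (EGA4.Cpl A) := Groth.Agent.S0543.result A _
  exact isRegularHom_of_ringEquiv e (cplEquiv e) (cplEquiv_of e) h

end Groth.Agent.H3.GRing

namespace Groth.Agent.H3.GRing

/-- The G-ring property only depends on the local rings. -/
theorem isGRing_of_local (R' : Type u) [CommRing R'] [IsNoetherianRing R']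
    (h : ∀ (P : Ideal R') [P.IsPrime], ∃ (R : Type u) (_ : CommRing R) (_ : CAlg.IsGRing R)
      (p : Ideal R) (_ : p.IsPrime),
      Nonempty (Localization.AtPrime p ≃+* Localization.AtPrime P)) : CAlg.IsGRing R' := by
  refine ⟨inferInstance, fun P _ => ?_⟩
  obtain ⟨R, _, hR, p, _, ⟨e⟩⟩ := h P
  have : IsNoetherianRing R := hR.1
  have : IsNoetherianRing (Localization.AtPrime p) :=
    IsLocalization.isNoetherianRing p.primeCompl _ inferInstance
  exact isRegularHom_cpl_of_ringEquiv e (hR.2 p)

end Groth.Agent.H3.GRing
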