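import Mathlib
import Groth.Prelude.Def_EGA4b
import Groth.Agent.Lib.Helper3.CA.GRingTransfer
import Groth.Agent.S9126

/-! Helper3: localizations of excellent rings are excellent. -/

set_option autoImplicit false
universe u

namespace Groth.Agent.H3.GRing

open Groth.Agent.H3.FFDom

/-- a finite type algebra over a localization `R_M` is a localization of a finite type `R`-algebra
(adapted from helper1's `S0553.Aux`). -/
theorem exists_finiteType_localization (R : Type u) [CommRing R] (M : Submonoid R)
    (B : Type u) [CommRing B] [Algebra R B] [IsLocalization M B]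
    (S : Type u) [CommRing S] [Algebra B S] (hS : Algebra.FiniteType B S) [Algebra R S]
    [IsScalarTower R B S] :
    ∃ S₀ : Subalgebra R S, Algebra.FiniteType R S₀ ∧
      IsLocalization (Algebra.algebraMapSubmonoid S₀ M) S := by
  obtain ⟨t, ht⟩ := hS.out
  set S₀ : Subalgebra R S := Algebra.adjoin R (t : Set S) with hS₀
  have hft : Algebra.FiniteType R S₀ := by
    rw [← Subalgebra.fg_iff_finiteType]
    exact ⟨t, rfl⟩
  refine ⟨S₀, hft, ?_, ?_, ?_⟩
  · rintro ⟨y, hy⟩
    obtain ⟨m, hm, rfl⟩ := hy
    have h1 : algebraMap S₀ S (algebraMap R S₀ m) = algebraMap B S (algebraMap R B m) := by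
      rw [← IsScalarTower.algebraMap_apply, IsScalarTower.algebraMap_apply R B S]
    show IsUnit (algebraMap S₀ S (algebraMap R S₀ m))
    rw [h1]
    exact (IsLocalization.map_units B ⟨m, hm⟩).map _
  · intro z
    have hz : z ∈ Algebra.adjoin B (t : Set S) := by rw [ht]; trivial
    induction hz using Algebra.adjoin_induction with
    | mem x hx =>
      exact ⟨(⟨x, Algebra.subset_adjoin hx⟩, 1), by simp⟩
    | algebraMap r =>
      obtain ⟨⟨a, m⟩, ham⟩ := IsLocalization.surj M r
      refine ⟨(algebraMap R S₀ a, ⟨algebraMap R S₀ m, Algebra.mem_algebraMapSubmonoid_of_mem m⟩), ?_⟩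
      show algebraMap B S r * algebraMap S₀ S (algebraMap R S₀ m) = algebraMap S₀ S (algebraMap R S₀ a)
      rw [← IsScalarTower.algebraMap_apply, ← IsScalarTower.algebraMap_apply,
        IsScalarTower.algebraMap_apply R B S, IsScalarTower.algebraMap_apply R B S, ← map_mul]
      exact congrArg _ ham
    | add x y _ _ hx hy =>
      obtain ⟨⟨a, m⟩, ham⟩ := hx
      obtain ⟨⟨b, n⟩, hbn⟩ := hy
      refine ⟨(a * n + b * m, m * n), ?_⟩
      simp only [Submonoid.coe_mul, map_mul, map_add] at ham hbn ⊢
      rw [← ham, ← hbn]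
      ring
    | mul x y _ _ hx hy =>
      obtain ⟨⟨a, m⟩, ham⟩ := hx
      obtain ⟨⟨b, n⟩, hbn⟩ := hy
      refine ⟨(a * b, m * n), ?_⟩
      simp only [Submonoid.coe_mul, map_mul] at ham hbn ⊢
      rw [← ham, ← hbn]
      ring
  · intro x y hxy
    refine ⟨1, ?_⟩
    have : x = y := Subtype.ext hxy
    rw [this]

/-- The regular locus of a localization is the preimage of the regular locus. -/
theorem regLocus_eq_preimage {T T' : Type u} [CommRing T] [CommRing T'] [Algebra T T']
    (M : Submonoid T) [IsLocalization M T'] :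
    EGA4.regLocus T' = PrimeSpectrum.comap (algebraMap T T') ⁻¹' EGA4.regLocus T := by
  ext Q
  show IsRegularLocalRing (Localization.AtPrime Q.asIdeal) ↔
    IsRegularLocalRing (Localization.AtPrime (Q.asIdeal.comap (algebraMap T T')))
  constructor
  · intro h
    exact IsRegularLocalRing.of_ringEquiv (atPrimeEquivComap M Q.asIdeal).symm
  · intro h
    exact IsRegularLocalRing.of_ringEquiv (atPrimeEquivComap M Q.asIdeal)

theorem isJ2_of_isLocalization (R : Type u) [CommRing R] (M : Submonoid R)
    (B : Type u) [CommRing B] [Algebra R B] [IsLocalization M B] (h : EGA4.IsJ2 R) :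
    EGA4.IsJ2 B := by
  intro S _ _ hS
  let _ : Algebra R S := ((algebraMap B S).comp (algebraMap R B)).toAlgebra
  have : IsScalarTower R B S := IsScalarTower.of_algebraMap_eq (fun _ => rfl)
  obtain ⟨S₀, hft, hloc⟩ := exists_finiteType_localization R M B S hS
  rw [regLocus_eq_preimage (T := S₀) (Algebra.algebraMapSubmonoid S₀ M)]
  exact (h S₀ hft).preimage (PrimeSpectrum.continuous_comap _)

theorem isGRing_of_isLocalization (R : Type u) [CommRing R] (M : Submonoid R)
    (B : Type u) [CommRing B] [Algebra R B] [IsLocalization M B] (h : CAlg.IsGRing R) :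
    CAlg.IsGRing B := by
  have : IsNoetherianRing R := h.1
  have : IsNoetherianRing B := IsLocalization.isNoetherianRing M B inferInstance
  refine isGRing_of_local B fun P _ => ?_
  exact ⟨R, inferInstance, h, P.comap (algebraMap R B), inferInstance, ⟨atPrimeEquivComap M P⟩⟩

theorem isExcellent_localization (A : Type u) [CommRing A] (hA : EGA4.IsExcellent A)
    (S : Submonoid A) : EGA4.IsExcellent (Localization S) := by
  obtain ⟨hN, hUC, hG, hJ⟩ := hA
  refine ⟨IsLocalization.isNoetherianRing S _ hN, ?_, isGRing_of_isLocalization A S _ hG,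
    isJ2_of_isLocalization A S _ hJ⟩
  have : Algebra.EssFiniteType A (Localization S) := Algebra.EssFiniteType.of_isLocalization _ S
  exact Groth.Agent.S9126.result A (Localization S) hUC

end Groth.Agent.H3.GRing
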