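import Mathlib
import Groth.Agent.Lib.Helper3.CA.CplMap
import Groth.Agent.Lib.Helper3.CA.RegHomDesc
import Groth.Agent.Lib.Helper3.CA.NormHomLoc
import Groth.Agent.Lib.Helper7.Reg1
import Groth.Agent.Lib.Helper1.RegNormal
import Groth.Agent.S9294
import Groth.Agent.S9634

/-! Helper3: descent of properties of formal fibres along flat local homomorphisms. -/

set_option autoImplicit false
universe u
open TensorProduct IsLocalRing

namespace Groth.Agent.H3.FFDesc

open Groth.Agent.H3.RegHomBC Groth.Agent.H8.RHC Groth.Agent.H8.NHC Groth.Agent.H8.GNorm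

theorem isReduced_of_isRegularRing (R : Type u) [CommRing R] [IsRegularRing R] : IsReduced R := by
  refine isReduced_ofLocalizationMaximal R fun Q hQ => ?_
  have := Groth.Agent.H7.Reg.isDomain (Localization.AtPrime Q)
  infer_instance

theorem normalLoc_of_isRegularRing (R : Type u) [CommRing R] [IsRegularRing R] : NormalLoc R :=
  fun p _ => ⟨Groth.Agent.H7.Reg.isDomain _, Groth.Agent.H1.Reg.isIntegrallyClosed _⟩

theorem geomReducedFibres_of_geomRegFibres (A B : Type u) [CommRing A] [CommRing B] [Algebra A B]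
    (h : GeomRegFibres A B) : GeomReducedFibres A B := by
  intro p _
  refine ((Groth.Agent.S9634.result (k := p.ResidueField) (S := p.Fiber B)).out 0 1).mp ?_
  intro k' _ _ hfin _
  have := h p k' hfin
  exact isReduced_of_isRegularRing _

theorem geomNormalFibres_of_geomRegFibres (A B : Type u) [CommRing A] [CommRing B] [Algebra A B]
    (h : GeomRegFibres A B) : GeomNormalFibres A B := by
  intro p _ k' _ _ hfin
  have := h p k' hfin
  exact normalLoc_of_isRegularRing _

section

variable (A A' : Type u) [CommRing A] [CommRing A'] [IsNoetherianRing A] [IsNoetherianRing A']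
  [IsLocalRing A] [IsLocalRing A'] [Algebra A A'] [IsLocalHom (algebraMap A A')]

theorem isRegularHom_cpl_of_isRegularHom (hf : CAlg.IsRegularHom A A')
    (hA' : CAlg.IsRegularHom A' (EGA4.Cpl A')) : CAlg.IsRegularHom A (EGA4.Cpl A) := by
  have : Module.Flat A A' := hf.1
  obtain ⟨_, h1, h3⟩ := Groth.Agent.H3.CplMap.exists_cpl_tower A A'
  have h2 := Groth.Agent.H3.CplMap.isScalarTower_cpl A A'
  have hNS : IsNoetherianRing (EGA4.Cpl A') := Groth.Agent.S0543.result A' _
  have hAS : CAlg.IsRegularHom A (EGA4.Cpl A') :=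
    Groth.Agent.S9294.result A A' (EGA4.Cpl A') hf hA'
      (fun p _ => isNoetherianRing_fiber A (EGA4.Cpl A') p)
  exact isRegularHom_of_comp_of_faithfullyFlat A (EGA4.Cpl A) (EGA4.Cpl A') hAS

theorem geomReducedFibres_cpl [Module.Flat A A'] (hf : GeomReducedFibres A A')
    (hA' : CAlg.IsRegularHom A' (EGA4.Cpl A')) : GeomReducedFibres A (EGA4.Cpl A) := by
  obtain ⟨_, h1, h3⟩ := Groth.Agent.H3.CplMap.exists_cpl_tower A A'
  have h2 := Groth.Agent.H3.CplMap.isScalarTower_cpl A A'
  have hA'S : GeomReducedFibres A' (EGA4.Cpl A') :=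
    geomReducedFibres_of_geomRegFibres _ _ (fun p _ K _ _ hK => (hA'.2 p).2 K hK)
  have hAS : GeomReducedFibres A (EGA4.Cpl A') := geomReducedFibres_comp A A' (EGA4.Cpl A') hf hA'S
  exact geomReducedFibres_of_comp A (EGA4.Cpl A) (EGA4.Cpl A') hAS

theorem geomNormalFibres_cpl [Module.Flat A A'] (hf : GeomNormalFibres A A')
    (hA' : CAlg.IsRegularHom A' (EGA4.Cpl A')) : GeomNormalFibres A (EGA4.Cpl A) := by
  obtain ⟨_, h1, h3⟩ := Groth.Agent.H3.CplMap.exists_cpl_tower A A'
  have h2 := Groth.Agent.H3.CplMap.isScalarTower_cpl A A'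
  have hNS : IsNoetherianRing (EGA4.Cpl A') := Groth.Agent.S0543.result A' _
  have hA'S : GeomNormalFibres A' (EGA4.Cpl A') :=
    geomNormalFibres_of_geomRegFibres _ _ (fun p _ K _ _ hK => (hA'.2 p).2 K hK)
  have hAS : GeomNormalFibres A (EGA4.Cpl A') := geomNormalFibres_comp A A' (EGA4.Cpl A') hf hA'S
  exact geomNormalFibres_of_comp A (EGA4.Cpl A) (EGA4.Cpl A') hAS

end

end Groth.Agent.H3.FFDesc
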