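import Mathlib
import Groth.Prelude.Def_EGA4b
import Groth.Prelude.Def_Found
import Groth.Agent.Lib.Helper3.CA.ExcellentLoc
import Groth.Agent.Lib.Helper3.CA.PHomInst
import Groth.Agent.Lib.Helper3.CA.OnePlusDomain
import Groth.Agent.Lib.Helper3.CA.FFDesc
import Groth.Agent.Lib.Helper3.CA.GeomNormalLoc
import Groth.Agent.Lib.Helper1.RegCompl
import Groth.Agent.Lib.Helper1.ComplQuot
import Groth.Agent.Lib.Helper8.NormalAscent

/-!
# Completions of localizations of excellent normal rings (helper3)
-/

set_option autoImplicit false
universe u
open TensorProduct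

namespace Groth.Agent.H3.ExcCompl

open Groth.Agent.H3.PHom

/-- The `J`-adic completion of a normal G-ring is normal. -/
theorem isNormalRing_adicCompletion (B : Type u) [CommRing B] (hG : CAlg.IsGRing B)
    (hB : EGA4.IsNormalRing B) (J : Ideal B) : EGA4.IsNormalRing (AdicCompletion J B) := by
  haveI : IsNoetherianRing B := hG.1
  haveI : IsNoetherianRing (AdicCompletion J B) := Groth.Agent.S0543.result B J
  have key : PFib PReg B (AdicCompletion J B) :=
    pfib_adicCompletion localProp_reg compAx_reg cancelAx_reg B J
      (fun m _ _ => fun q _ K _ _ hfin => ((hG.2 m).2 q).2 K hfin)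
  haveI : Module.Flat B (AdicCompletion J B) := AdicCompletion.flat_of_isNoetherian J
  refine Groth.Agent.H8.NAsc.normalLoc_of_flat_of_fibres B (AdicCompletion J B) (fun p _ => ?_) hB
  have h1 := key p p.ResidueField inferInstance
  haveI : IsRegularRing (p.Fiber (AdicCompletion J B)) :=
    IsRegularRing.of_ringEquiv
      (R := p.ResidueField ⊗[p.ResidueField] p.Fiber (AdicCompletion J B))
      (Algebra.TensorProduct.lid p.ResidueField (p.Fiber (AdicCompletion J B))).toRingEquiv
  exact Groth.Agent.H3.FFDesc.normalLoc_of_isRegularRing _

/-- If `A` is a quotient of a regular ring, so is every adic completion of `A_f`. -/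
theorem exists_regular_surjection (A : Type u) [CommRing A]
    (hreg : ∃ (R : Type u) (_ : CommRing R) (_ : IsRegularRing R) (φ : R →+* A),
      Function.Surjective φ) (I : Ideal A) (f : A) :
    ∃ (R' : Type u) (_ : CommRing R') (_ : IsRegularRing R')
      (ψ : R' →+* AdicCompletion (I.map (algebraMap A (Localization.Away f)))
        (Localization.Away f)), Function.Surjective ψ := by
  obtain ⟨R, _, _, φ, hφ⟩ := hreg
  obtain ⟨g, rfl⟩ := hφ f
  haveI : IsLocalization ((Submonoid.powers g).map φ) (Localization.Away (φ g)) := by
    rw [Submonoid.map_powers]; infer_instance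
  let φg : Localization.Away g →+* Localization.Away (φ g) :=
    IsLocalization.map (Localization.Away (φ g)) φ (Submonoid.powers g).le_comap_map
  have hφg : Function.Surjective φg := IsLocalization.map_surjective_of_surjective (Submonoid.powers g) (Localization.Away g)
      (Localization.Away (φ g)) hφ
  haveI : IsRegularRing (Localization.Away g) :=
    Groth.Agent.H1.Reg.isRegularRing_of_isLocalization R (Submonoid.powers g) _
  have hJ : I.map (algebraMap A (Localization.Away (φ g))) =
      ((I.map (algebraMap A (Localization.Away (φ g)))).comap φg).map φg :=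
    (Ideal.map_comap_of_surjective φg hφg _).symm
  exact ⟨AdicCompletion ((I.map (algebraMap A (Localization.Away (φ g)))).comap φg)
      (Localization.Away g), inferInstance,
    Groth.Agent.H1.Reg.isRegularRing_adicCompletion _ _,
    Groth.Agent.H1.ComplQuot.compMap φg _ _ hJ,
    Groth.Agent.H1.ComplQuot.compMap_surjective φg _ _ hφg hJ⟩

/-- S17803 -/
theorem main (A : Type u) [CommRing A] [IsDomain A] [IsIntegrallyClosed A]
    (hexc : EGA4.IsExcellent A)
    (hreg : ∃ (R : Type u) (_ : CommRing R) (_ : IsRegularRing R) (φ : R →+* A),
      Function.Surjective φ) (I : Ideal A) (f : A) :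
    EGA4.IsNormalRing (AdicCompletion (I.map (algebraMap A (Localization.Away f)))
        (Localization.Away f)) ∧
      ∃ (R' : Type u) (_ : CommRing R') (_ : IsRegularRing R')
        (ψ : R' →+* AdicCompletion (I.map (algebraMap A (Localization.Away f)))
          (Localization.Away f)), Function.Surjective ψ := by
  refine ⟨?_, exists_regular_surjection A hreg I f⟩
  have hG : CAlg.IsGRing (Localization.Away f) :=
    Groth.Agent.H3.GRing.isGRing_of_isLocalization A (Submonoid.powers f) _ hexc.2.2.1
  have hN : EGA4.IsNormalRing (Localization.Away f) :=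
    Groth.Agent.H3.NorLoc.isNormalRing_of_isLocalization (Submonoid.powers f)
      (Groth.Agent.H3.OnePlus.isNormalRing_of_isIntegrallyClosed A)
  exact isNormalRing_adicCompletion _ hG hN _

end Groth.Agent.H3.ExcCompl
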