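import Mathlib

/-! Filtered colimits of faithfully flat ring maps are faithfully flat. -/

set_option autoImplicit false
universe u v w

namespace Groth.Agent.H3.FFColim

/-- Abstract form: `Φ : C∞ → A∞` is a "colimit" of faithfully flat maps `φ j : Cs j → As j`
in the sense that finite relations `∑ Φ(fᵢ) xᵢ = n` (`n : ℤ`) lift to some stage. -/
theorem faithfullyFlat_of_lift {J : Type w} {Cinf Ainf : Type u} [CommRing Cinf] [CommRing Ainf]
    (Φ : Cinf →+* Ainf)
    (Cs As : J → Type v) [∀ j, CommRing (Cs j)] [∀ j, CommRing (As j)]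
    (φ : ∀ j, Cs j →+* As j) (c : ∀ j, Cs j →+* Cinf) (a : ∀ j, As j →+* Ainf)
    (hcomm : ∀ j (z : Cs j), Φ (c j z) = a j (φ j z))
    (hff : ∀ j, (φ j).FaithfullyFlat)
    (hlift : ∀ (l : ℕ) (f : Fin l → Cinf) (x : Fin l → Ainf) (n : ℤ),
      ∑ i, Φ (f i) * x i = n → ∃ (j : J) (f' : Fin l → Cs j) (x' : Fin l → As j),
        (∀ i, c j (f' i) = f i) ∧ (∀ i, a j (x' i) = x i) ∧ ∑ i, φ j (f' i) * x' i = n) :
    Φ.FaithfullyFlat := by
  letI : Algebra Cinf Ainf := Φ.toAlgebra
  have halg : ∀ z : Cinf, algebraMap Cinf Ainf z = Φ z := fun _ => rfl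
  show Module.FaithfullyFlat Cinf Ainf
  haveI hflat : Module.Flat Cinf Ainf := by
    rw [Module.Flat.iff_forall_isTrivialRelation]
    intro l f x hrel
    have hrel' : ∑ i, Φ (f i) * x i = ((0 : ℤ) : Ainf) := by
      rw [Int.cast_zero, ← hrel]
      exact Finset.sum_congr rfl fun i _ => by rw [Algebra.smul_def, halg]
    obtain ⟨j, f', x', hf', hx', hsum⟩ := hlift l f x 0 hrel'
    letI : Algebra (Cs j) (As j) := (φ j).toAlgebra
    haveI : Module.Flat (Cs j) (As j) := (hff j).toFlat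
    have hrelj : ∑ i, f' i • x' i = 0 := by
      rw [Int.cast_zero] at hsum
      rw [← hsum]
      exact Finset.sum_congr rfl fun i _ => by rw [Algebra.smul_def]; rfl
    obtain ⟨k, α, y, hxy, hfα⟩ := Module.Flat.isTrivialRelation_of_sum_smul_eq_zero
      (R := Cs j) (M := As j) (f := f') (x := x') (by convert hrelj)
    refine ⟨k, fun i t => c j (α i t), fun t => a j (y t), fun i => ?_, fun t => ?_⟩
    · rw [← hx' i, hxy i, map_sum]
      refine Finset.sum_congr rfl fun t _ => ?_
      rw [Algebra.smul_def, Algebra.smul_def, map_mul, halg, hcomm]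
      rfl
    · have := congrArg (c j) (hfα t)
      rw [map_sum, map_zero] at this
      rw [← this]
      refine Finset.sum_congr rfl fun i _ => ?_
      rw [map_mul, hf' i]
  refine ⟨fun m hm htop => ?_⟩
  have h1 : (1 : Ainf) ∈ m.map (algebraMap Cinf Ainf) := by
    have : (1 : Ainf) ∈ (m • (⊤ : Submodule Cinf Ainf)) := by rw [htop]; trivial
    rw [Ideal.smul_top_eq_map] at this
    exact this
  rw [Ideal.map, Ideal.span, Submodule.mem_span_set'] at h1
  obtain ⟨l, x, g, hsum⟩ := h1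
  choose f hfm hfg using fun i => (g i).2
  have hrel' : ∑ i, Φ (f i) * x i = ((1 : ℤ) : Ainf) := by
    rw [Int.cast_one, ← hsum]
    refine Finset.sum_congr rfl fun i _ => ?_
    rw [smul_eq_mul, ← hfg i, halg, mul_comm]
  obtain ⟨j, f', x', hf', hx', hsumj⟩ := hlift l f x 1 hrel'
  rw [Int.cast_one] at hsumj
  letI : Algebra (Cs j) (As j) := (φ j).toAlgebra
  haveI : Module.FaithfullyFlat (Cs j) (As j) := hff j
  have htopj : (Ideal.span (Set.range f')).map (algebraMap (Cs j) (As j)) = ⊤ := by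
    rw [Ideal.eq_top_iff_one, ← hsumj]
    refine Ideal.sum_mem _ fun i _ => Ideal.mul_mem_right _ _ ?_
    exact Ideal.mem_map_of_mem _ (Ideal.subset_span ⟨i, rfl⟩)
  have hj : Ideal.span (Set.range f') = ⊤ := by
    rw [← Ideal.comap_map_eq_self_of_faithfullyFlat (B := As j) (Ideal.span (Set.range f')), htopj,
      Ideal.comap_top]
  have h1m : (1 : Cinf) ∈ m := by
    have h2 : (1 : Cs j) ∈ Ideal.span (Set.range f') := by rw [hj]; trivial
    have h3 : (Ideal.span (Set.range f')).map (c j) ≤ m := by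
      rw [Ideal.map_span, Ideal.span_le]
      rintro _ ⟨_, ⟨i, rfl⟩, rfl⟩
      rw [hf' i]
      exact hfm i
    have := h3 (Ideal.mem_map_of_mem (c j) h2)
    rwa [map_one] at this
  exact hm.ne_top ((Ideal.eq_top_iff_one _).mpr h1m)

end Groth.Agent.H3.FFColim
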