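import Mathlib
import Groth.Agent.Lib.Helper3.CA.FFColim

/-! Filtered colimits of faithfully flat ring maps in `CommRingCat`. -/

set_option autoImplicit false
universe u

namespace Groth.Agent.H3.FFColim

open CategoryTheory CategoryTheory.Limits

variable {J : Type u} [SmallCategory J] [IsFiltered J]

theorem ι_map_apply (F : J ⥤ CommRingCat.{u}) {j k : J} (s : j ⟶ k) (y : F.obj j) :
    (colimit.ι F k).hom ((F.map s).hom y) = (colimit.ι F j).hom y := by
  have := colimit.w F s
  exact ConcreteCategory.congr_hom this y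

/-- Finite families of elements of a filtered colimit lift to a common stage. -/
theorem exists_rep_family (F : J ⥤ CommRingCat.{u}) (l : ℕ)
    (x : Fin l → (colimit F : CommRingCat.{u})) (j₀ : J) :
    ∃ (j : J) (_ : j₀ ⟶ j) (y : Fin l → F.obj j), ∀ i, (colimit.ι F j).hom (y i) = x i := by
  classical
  choose jj yy hyy using fun i => Concrete.colimit_exists_rep F (x i)
  obtain ⟨S, hS⟩ := IsFiltered.sup_objs_exists (insert j₀ (Finset.univ.image jj))
  have u : ∀ i, jj i ⟶ S := fun i => (hS (by simp)).some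
  refine ⟨S, (hS (by simp)).some, fun i => (F.map (u i)).hom (yy i), fun i => ?_⟩
  rw [ι_map_apply]
  exact hyy i

theorem main (C A : J ⥤ CommRingCat.{u}) (φ : C ⟶ A)
    (h : ∀ j : J, (φ.app j).hom.FaithfullyFlat) : (colimMap φ).hom.FaithfullyFlat := by
  have hcomm : ∀ j (z : C.obj j), (colimMap φ).hom ((colimit.ι C j).hom z) =
      (colimit.ι A j).hom ((φ.app j).hom z) := by
    intro j z
    have := ι_colimMap φ j
    exact ConcreteCategory.congr_hom this z
  have hnat : ∀ {j k : J} (s : j ⟶ k) (z : C.obj j),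
      (φ.app k).hom ((C.map s).hom z) = (A.map s).hom ((φ.app j).hom z) := by
    intro j k s z
    have := φ.naturality s
    exact ConcreteCategory.congr_hom this z
  refine faithfullyFlat_of_lift (J := J) (colimMap φ).hom (fun j => C.obj j) (fun j => A.obj j)
    (fun j => (φ.app j).hom) (fun j => (colimit.ι C j).hom) (fun j => (colimit.ι A j).hom)
    hcomm h ?_
  intro l f x n hrel
  obtain ⟨j₁, -, f₁, hf₁⟩ := exists_rep_family C l f (Classical.choice IsFiltered.nonempty)
  obtain ⟨j₂, s₁₂, x₂, hx₂⟩ := exists_rep_family A l x j₁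
  -- move `f₁` to stage `j₂`
  let f₂ : Fin l → C.obj j₂ := fun i => (C.map s₁₂).hom (f₁ i)
  have hf₂ : ∀ i, (colimit.ι C j₂).hom (f₂ i) = f i := fun i => by
    rw [ι_map_apply]; exact hf₁ i
  -- the relation holds in the colimit
  have hrel₂ : (colimit.ι A j₂).hom (∑ i, (φ.app j₂).hom (f₂ i) * x₂ i) =
      (colimit.ι A j₂).hom ((n : ℤ) : A.obj j₂) := by
    rw [map_sum, map_intCast, ← hrel]
    refine Finset.sum_congr rfl fun i _ => ?_
    rw [map_mul, ← hcomm, hf₂ i, hx₂ i]
  obtain ⟨k, s, t, hst⟩ := Concrete.colimit_exists_of_rep_eq A _ _ hrel₂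
  refine ⟨k, fun i => (C.map s).hom (f₂ i), fun i => (A.map s).hom (x₂ i), fun i => ?_, fun i => ?_,
    ?_⟩
  · rw [ι_map_apply]; exact hf₂ i
  · rw [ι_map_apply]; exact hx₂ i
  · have h1 : (A.map s).hom (∑ i, (φ.app j₂).hom (f₂ i) * x₂ i) = ((n : ℤ) : A.obj k) := by
      have : (A.map s).hom (∑ i, (φ.app j₂).hom (f₂ i) * x₂ i) =
          (A.map t).hom ((n : ℤ) : A.obj j₂) := hst
      rw [this, map_intCast]
    rw [← h1, map_sum]
    refine Finset.sum_congr rfl fun i _ => ?_
    rw [map_mul, hnat]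

end Groth.Agent.H3.FFColim
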