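import Mathlib
import Groth.Agent.Lib.Helper3.CA.FFDom1
import Groth.Agent.Lib.Helper3.CA.RegHomLoc
import Groth.Agent.S9250

/-! Helper3: geometric regularity of fibres tested on finite domains. -/

set_option autoImplicit false
universe u
open TensorProduct

namespace Groth.Agent.H3.FFDom

open Groth.Agent.H3.RegHomBC

section G1

variable (A C B : Type u) [CommRing A] [CommRing C] [Algebra A C] [IsNoetherianRing C]
  [CommRing B] [IsDomain B] [Algebra A B] [IsNoetherianRing (B ⊗[A] C)]

attribute [local instance] Algebra.TensorProduct.rightAlgebra in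
theorem isRegularLocalRing_atPrime_of_isRegularHom (h : CAlg.IsRegularHom A C)
    (q : Ideal (B ⊗[A] C)) [q.IsPrime] (hq : q.comap (algebraMap B (B ⊗[A] C)) = ⊥) :
    IsRegularLocalRing (Localization.AtPrime q) := by
  have hBT : CAlg.IsRegularHom B (B ⊗[A] C) := isRegularHom_baseChange_of_isNoetherianRing A C B h
  let K := FractionRing B
  let M : Submonoid (B ⊗[A] C) := Algebra.algebraMapSubmonoid (B ⊗[A] C) (nonZeroDivisors B)
  have hloc : IsLocalization M (K ⊗[B] (B ⊗[A] C)) := inferInstance
  have hN : IsNoetherianRing (K ⊗[B] (B ⊗[A] C)) :=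
    IsLocalization.isNoetherianRing M _ inferInstance
  have hKT : CAlg.IsRegularHom K (K ⊗[B] (B ⊗[A] C)) :=
    isRegularHom_baseChange_of_isNoetherianRing B (B ⊗[A] C) K hBT
  have hreg : IsRegularRing (K ⊗[B] (B ⊗[A] C)) := Groth.Agent.S9250.result K _ hKT
  have hd : Disjoint (M : Set (B ⊗[A] C)) (q : Set (B ⊗[A] C)) := by
    rw [Set.disjoint_left]
    rintro x ⟨b, hb, rfl⟩ hx
    have : b ∈ q.comap (algebraMap B (B ⊗[A] C)) := hx
    rw [hq] at this
    exact (nonZeroDivisors.ne_zero hb) this
  obtain ⟨Q, hQ, -, ⟨e⟩⟩ := exists_atPrimeEquivMap (T' := K ⊗[B] (B ⊗[A] C)) M q hd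
  have := isRegularRing_iff.mp hreg Q
  exact IsRegularLocalRing.of_ringEquiv (R := Localization.AtPrime Q) e.symm

end G1


section G2

variable (A C : Type u) [CommRing A] [CommRing C] [Algebra A C] [IsNoetherianRing C]

/-- `B ⊗[A] C` is Noetherian for `B` finite over `A` and `C` Noetherian. -/
theorem isNoetherianRing_tensor_of_finite (B : Type u) [CommRing B] [Algebra A B]
    [Module.Finite A B] : IsNoetherianRing (B ⊗[A] C) := by
  have : Module.Finite C (C ⊗[A] B) := inferInstance
  have : IsNoetherianRing (C ⊗[A] B) := IsNoetherianRing.of_finite C _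
  exact isNoetherianRing_of_ringEquiv _ (Algebra.TensorProduct.comm A C B).toRingEquiv

theorem exists_localization_aux (p : Ideal A) [p.IsPrime] (k' : Type u) [Field k']
    [Algebra p.ResidueField k'] [Algebra A k'] [IsScalarTower A p.ResidueField k']
    (B : Type u) [CommRing B] [IsDomain B] [Algebra A B] [Algebra B k'] [IsScalarTower A B k']
    [IsFractionRing B k'] :
    ∃ (T' : Type u) (_ : CommRing T') (_ : Algebra (B ⊗[A] C) T'),
      IsLocalization (Algebra.algebraMapSubmonoid (B ⊗[A] C) (nonZeroDivisors B)) T' ∧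
      Nonempty (T' ≃+* k' ⊗[p.ResidueField] p.Fiber C) :=
  ⟨(B ⊗[A] C) ⊗[B] k', inferInstance, inferInstance, inferInstance,
    ⟨((Algebra.TensorProduct.comm B (B ⊗[A] C) k').toRingEquiv.trans
    (Algebra.TensorProduct.cancelBaseChange A B k' k' C).toRingEquiv).trans
    (Algebra.TensorProduct.cancelBaseChange A p.ResidueField k' k' C).symm.toRingEquiv⟩⟩

/-- The key construction: for a finite extension `k'` of `κ(p)`, the ring `k' ⊗ fibre` is a
localization of `B ⊗[A] C` for a finite `A`-algebra domain `B`, at elements coming from nonzero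
elements of `B`. -/
theorem exists_finite_domain_localization (p : Ideal A) [p.IsPrime] (k' : Type u) [Field k']
    [Algebra p.ResidueField k'] [Module.Finite p.ResidueField k'] :
    ∃ (B : Type u) (_ : CommRing B) (_ : IsDomain B) (_ : Algebra A B) (_ : Module.Finite A B)
      (T' : Type u) (_ : CommRing T') (_ : Algebra (B ⊗[A] C) T'),
      IsLocalization (Algebra.algebraMapSubmonoid (B ⊗[A] C) (nonZeroDivisors B)) T' ∧
      Nonempty (T' ≃+* k' ⊗[p.ResidueField] p.Fiber C) := by
  let _ : Algebra A k' := ((algebraMap p.ResidueField k').comp (algebraMap A p.ResidueField)).toAlgebra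
  have : IsScalarTower A p.ResidueField k' := IsScalarTower.of_algebraMap_eq fun _ => rfl
  let _ : Algebra (A ⧸ p) k' :=
    ((algebraMap p.ResidueField k').comp (algebraMap (A ⧸ p) p.ResidueField)).toAlgebra
  have : IsScalarTower (A ⧸ p) p.ResidueField k' := IsScalarTower.of_algebraMap_eq fun _ => rfl
  have : IsScalarTower A (A ⧸ p) k' := by
    refine IsScalarTower.of_algebraMap_eq fun a => ?_
    change algebraMap p.ResidueField k' (algebraMap A p.ResidueField a) =
      algebraMap p.ResidueField k' (algebraMap (A ⧸ p) p.ResidueField (algebraMap A (A ⧸ p) a))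
    rw [← IsScalarTower.algebraMap_apply A (A ⧸ p) p.ResidueField]
  obtain ⟨B, hBfin, hBfrac⟩ := exists_finite_subalgebra_isFractionRing (A ⧸ p) p.ResidueField k'
  have hfinA : Module.Finite A B := Module.Finite.trans (A ⧸ p) B
  exact ⟨B, inferInstance, inferInstance, inferInstance, hfinA,
    exists_localization_aux A C p k' B⟩

theorem geomRegFibres_of_forall_finite_domain
    (H : ∀ (B : Type u) [CommRing B] [IsDomain B] [Algebra A B] [Module.Finite A B]
      (q : Ideal (B ⊗[A] C)) [q.IsPrime],
      q.comap (algebraMap B (B ⊗[A] C)) = ⊥ → IsRegularLocalRing (Localization.AtPrime q)) :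
    GeomRegFibres A C := by
  intro p _ k' _ _ hfin
  obtain ⟨B, _, _, _, _, T', _, _, hloc, ⟨e⟩⟩ := exists_finite_domain_localization A C p k'
  have hNT : IsNoetherianRing (B ⊗[A] C) := isNoetherianRing_tensor_of_finite A C B
  have hNT' : IsNoetherianRing T' := IsLocalization.isNoetherianRing
    (Algebra.algebraMapSubmonoid (B ⊗[A] C) (nonZeroDivisors B)) T' hNT
  have hreg : IsRegularRing T' := by
    refine isRegularRing_iff.mpr fun Q _ => ?_
    have hq : (Q.comap (algebraMap (B ⊗[A] C) T')).comap (algebraMap B (B ⊗[A] C)) = ⊥ := by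
      rw [eq_bot_iff]
      intro b hb
      by_contra hb0
      have hb0' : b ≠ 0 := hb0
      have hu : IsUnit (algebraMap (B ⊗[A] C) T' (algebraMap B (B ⊗[A] C) b)) :=
        IsLocalization.map_units T' (⟨_, b, mem_nonZeroDivisors_of_ne_zero hb0', rfl⟩ :
          Algebra.algebraMapSubmonoid (B ⊗[A] C) (nonZeroDivisors B))
      exact (Ideal.IsPrime.ne_top inferInstance) (Ideal.eq_top_of_isUnit_mem Q hb hu)
    have h1 := H B (Q.comap (algebraMap (B ⊗[A] C) T')) hq
    exact IsRegularLocalRing.of_ringEquiv
      (R := Localization.AtPrime (Q.comap (algebraMap (B ⊗[A] C) T')))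
      (atPrimeEquivComap (Algebra.algebraMapSubmonoid (B ⊗[A] C) (nonZeroDivisors B)) Q)
  exact IsRegularRing.of_ringEquiv (R := T') e

end G2

end Groth.Agent.H3.FFDom
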