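import Mathlib
import Groth.Agent.Lib.Helper3.CA.FFDom2
import Groth.Agent.Lib.Helper3.CA.NormHomLoc
import Groth.Agent.S9634

/-! Helper3: geometric reducedness of fibres tested on finite domains. -/

set_option autoImplicit false
universe u
open TensorProduct

namespace Groth.Agent.H3.FFDom

open Groth.Agent.H8.RHC

section G1

variable (A C B : Type u) [CommRing A] [CommRing C] [Algebra A C]
  [CommRing B] [IsDomain B] [Algebra A B]

attribute [local instance] Algebra.TensorProduct.rightAlgebra in
theorem isReduced_atPrime_of_geomReducedFibres (h : GeomReducedFibres A C)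
    (q : Ideal (B ⊗[A] C)) [q.IsPrime] (hq : q.comap (algebraMap B (B ⊗[A] C)) = ⊥) :
    IsReduced (Localization.AtPrime q) := by
  have hBT : GeomReducedFibres B (B ⊗[A] C) :=
    Groth.Agent.H3.NormHomLoc.geomReducedFibres_baseChange A C B h
  let K := FractionRing B
  let M : Submonoid (B ⊗[A] C) := Algebra.algebraMapSubmonoid (B ⊗[A] C) (nonZeroDivisors B)
  have hloc : IsLocalization M (K ⊗[B] (B ⊗[A] C)) := inferInstance
  have hred : IsReduced (K ⊗[B] (B ⊗[A] C)) :=
    isReduced_tensor_field_of_geomReduced B (B ⊗[A] C) hBT K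
  have hd : Disjoint (M : Set (B ⊗[A] C)) (q : Set (B ⊗[A] C)) := by
    rw [Set.disjoint_left]
    rintro x ⟨b, hb, rfl⟩ hx
    have : b ∈ q.comap (algebraMap B (B ⊗[A] C)) := hx
    rw [hq] at this
    exact (nonZeroDivisors.ne_zero hb) this
  obtain ⟨Q, hQ, -, ⟨e⟩⟩ := exists_atPrimeEquivMap (T' := K ⊗[B] (B ⊗[A] C)) M q hd
  exact isReduced_of_injective e.toRingHom e.injective

end G1

section G2

variable (A C : Type u) [CommRing A] [CommRing C] [Algebra A C] [IsNoetherianRing C]

theorem geomReducedFibres_of_forall_finite_domain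
    (H : ∀ (B : Type u) [CommRing B] [IsDomain B] [Algebra A B] [Module.Finite A B]
      (q : Ideal (B ⊗[A] C)) [q.IsPrime],
      q.comap (algebraMap B (B ⊗[A] C)) = ⊥ → IsReduced (Localization.AtPrime q)) :
    GeomReducedFibres A C := by
  intro p _
  refine ((Groth.Agent.S9634.result (k := p.ResidueField) (S := p.Fiber C)).out 0 1).mp ?_
  intro k' _ _ hfin _
  obtain ⟨B, _, _, _, _, T', _, _, hloc, ⟨e⟩⟩ := exists_finite_domain_localization A C p k'
  have hred : IsReduced T' := by
    refine isReduced_ofLocalizationMaximal T' fun Q hQ => ?_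
    have hq : (Q.comap (algebraMap (B ⊗[A] C) T')).comap (algebraMap B (B ⊗[A] C)) = ⊥ := by
      rw [eq_bot_iff]
      intro b hb
      by_contra hb0
      have hb0' : b ≠ 0 := hb0
      have hu : IsUnit (algebraMap (B ⊗[A] C) T' (algebraMap B (B ⊗[A] C) b)) :=
        IsLocalization.map_units T' (⟨_, b, mem_nonZeroDivisors_of_ne_zero hb0', rfl⟩ :
          Algebra.algebraMapSubmonoid (B ⊗[A] C) (nonZeroDivisors B))
      exact (Ideal.IsPrime.ne_top inferInstance) (Ideal.eq_top_of_isUnit_mem Q hb hu)
    have h1 := H B (Q.comap (algebraMap (B ⊗[A] C) T')) hq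
    have e' := atPrimeEquivComap (Algebra.algebraMapSubmonoid (B ⊗[A] C) (nonZeroDivisors B)) Q
    exact isReduced_of_injective e'.symm.toRingHom e'.symm.injective
  exact isReduced_of_injective e.symm.toRingHom e.symm.injective

end G2

end Groth.Agent.H3.FFDom
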