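import Mathlib

/-!
# Integrality over the reduction of a faithfully flat algebra (helper3)
-/

set_option autoImplicit false

universe u

open Polynomial

namespace Groth.Agent.H3.FFlatReduced

section General

variable {D : Type*} [CommRing D]

/-- the ideal `s · (s, a)^N` -/
def J (a s : D) (N : ℕ) : Ideal D := Ideal.span {s} * Ideal.span {s, a} ^ N

lemma s_mem (a s : D) : s ∈ Ideal.span ({s, a} : Set D) := Ideal.subset_span (by simp)
lemma a_mem (a s : D) : a ∈ Ideal.span ({s, a} : Set D) := Ideal.subset_span (by simp)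

lemma J_le (a s : D) (N : ℕ) : J a s N ≤ Ideal.span {s, a} ^ (N + 1) := by
  rw [pow_succ', J]
  exact Ideal.mul_mono_left ((Ideal.span_singleton_le_iff_mem _).2 (s_mem a s))

lemma mul_mem_J {a s : D} {N M : ℕ} {x y : D} (hx : x ∈ Ideal.span ({s, a} : Set D) ^ M)
    (hy : y ∈ J a s N) : x * y ∈ J a s (M + N) := by
  rw [J, pow_add, mul_comm (Ideal.span {s, a} ^ M), ← mul_assoc, mul_comm x y]
  exact Ideal.mul_mem_mul hy hx

/-- integral elements `a/s` give membership `a^(N+1) ∈ s·(s,a)^N`. -/
lemma exists_pow_mem_J_of_isIntegral {T : Type*} [CommRing T] (φ : D →+* T)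
    (hφ : Function.Injective φ) {a s : D} {z : T} (hz : φ s * z = φ a) (hint : φ.IsIntegralElem z) :
    ∃ N : ℕ, a ^ (N + 1) ∈ J a s N := by
  obtain ⟨p, hp, hpz⟩ := hint
  have h1 : eval₂ φ (φ a) (scaleRoots p s) = 0 := by
    rw [← hz]; exact scaleRoots_eval₂_eq_zero φ hpz
  rw [Polynomial.eval₂_hom] at h1
  have h2 : eval a (scaleRoots p s) = 0 := hφ (by rw [h1, map_zero])
  rcases Nat.eq_zero_or_pos p.natDegree with hd | hd
  · -- the degenerate case: `D` is trivial
    have hp1 : p = 1 := Polynomial.eq_one_of_monic_natDegree_zero hp hd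
    rw [hp1] at h2
    have h10 : (1 : D) = 0 := by
      have hsr : scaleRoots (1 : D[X]) s = 1 := by
        ext i
        rw [coeff_scaleRoots, natDegree_one, Polynomial.coeff_one]
        split_ifs with hi
        · subst hi; simp
        · simp
      rw [hsr, eval_one] at h2
      exact h2
    refine ⟨0, ?_⟩
    have : a ^ (0 + 1) = 0 := by
      calc a ^ (0 + 1) = a ^ (0 + 1) * 1 := (mul_one _).symm
        _ = 0 := by rw [h10, mul_zero]
    rw [this]; exact Submodule.zero_mem _
  · obtain ⟨N, hN⟩ : ∃ N, p.natDegree = N + 1 := ⟨p.natDegree - 1, by omega⟩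
    refine ⟨N, ?_⟩
    rw [Polynomial.eval_eq_sum_range, natDegree_scaleRoots, hN, Finset.sum_range_succ] at h2
    have hlead : (scaleRoots p s).coeff (N + 1) = 1 := by
      rw [← hN, coeff_scaleRoots_natDegree]; exact hp
    rw [hlead, one_mul] at h2
    have h3 : a ^ (N + 1) = -∑ i ∈ Finset.range (N + 1), (scaleRoots p s).coeff i * a ^ i := by
      rw [eq_neg_iff_add_eq_zero, add_comm]; exact h2
    rw [h3]
    refine Submodule.neg_mem _ (Submodule.sum_mem _ fun i hi => ?_)
    rw [Finset.mem_range] at hi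
    rw [coeff_scaleRoots, hN]
    have h4 : s ^ (N + 1 - i) = s * s ^ (N - i) := by
      rw [← pow_succ']; congr 1; omega
    rw [h4]
    have h5 : p.coeff i * (s * s ^ (N - i)) * a ^ i = s * (p.coeff i * (s ^ (N - i) * a ^ i)) := by ring
    rw [h5, J]
    refine Ideal.mul_mem_mul (Ideal.mem_span_singleton_self s) (Ideal.mul_mem_left _ _ ?_)
    have h6 : Ideal.span ({s, a} : Set D) ^ N =
        Ideal.span ({s, a} : Set D) ^ (N - i) * Ideal.span ({s, a} : Set D) ^ i := by
      rw [← pow_add]; congr 1; omega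
    rw [h6]
    exact Ideal.mul_mem_mul (Ideal.pow_mem_pow (s_mem a s) _) (Ideal.pow_mem_pow (a_mem a s) _)

/-- lifting the membership along a surjection with nil kernel. -/
lemma exists_pow_mem_J_of_surjective {C : Type*} [CommRing C] (π : D →+* C)
    (hπ : Function.Surjective π) (hker : RingHom.ker π ≤ nilradical D) {a s : D} {N : ℕ}
    (h : π a ^ (N + 1) ∈ J (π a) (π s) N) : ∃ N' : ℕ, a ^ (N' + 1) ∈ J a s N' := by
  have hmap : J (π a) (π s) N = (J a s N).map π := by
    rw [J, J, Ideal.map_mul, Ideal.map_pow, Ideal.map_span, Ideal.map_span, Set.image_singleton,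
      Set.image_pair]
  rw [hmap, ← map_pow, Ideal.mem_map_iff_of_surjective π hπ] at h
  obtain ⟨y, hy, hya⟩ := h
  have hν : a ^ (N + 1) - y ∈ nilradical D := hker (by rw [RingHom.mem_ker, map_sub, hya, sub_self])
  obtain ⟨k, hk⟩ := hν
  -- the key induction
  have hνm : a ^ (N + 1) - y ∈ Ideal.span ({s, a} : Set D) ^ (N + 1) :=
    Submodule.sub_mem _ (Ideal.pow_mem_pow (a_mem a s) _) (J_le a s N hy)
  have key : ∀ j : ℕ, (a ^ (N + 1)) ^ (j + 1) - (a ^ (N + 1) - y) ^ (j + 1) ∈
      J a s ((N + 1) * j + N) := by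
    intro j
    induction j with
    | zero => simpa using hy
    | succ j ih =>
      have e : (a ^ (N + 1)) ^ (j + 1 + 1) - (a ^ (N + 1) - y) ^ (j + 1 + 1) =
          a ^ (N + 1) * ((a ^ (N + 1)) ^ (j + 1) - (a ^ (N + 1) - y) ^ (j + 1)) +
            (a ^ (N + 1) - y) ^ (j + 1) * y := by ring
      rw [e]
      refine Submodule.add_mem _ ?_ ?_
      · have := mul_mem_J (Ideal.pow_mem_pow (a_mem a s) (N + 1)) ih
        have e2 : N + 1 + ((N + 1) * j + N) = (N + 1) * (j + 1) + N := by ring
        rwa [e2] at this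
      · have h1 : (a ^ (N + 1) - y) ^ (j + 1) ∈ Ideal.span ({s, a} : Set D) ^ ((N + 1) * (j + 1)) := by
          rw [pow_mul]; exact Ideal.pow_mem_pow hνm _
        exact mul_mem_J h1 hy
  refine ⟨(N + 1) * k + N, ?_⟩
  have := key k
  rw [pow_succ (a ^ (N + 1) - y) k, hk, zero_mul, sub_zero, ← pow_mul] at this
  have e3 : (N + 1) * (k + 1) = (N + 1) * k + N + 1 := by ring
  rwa [e3] at this

end General

section FFlat

variable {A B : Type*} [CommRing A] [CommRing B] [Algebra A B] [Module.FaithfullyFlat A B]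

lemma pow_mem_J_of_faithfullyFlat {a s : A} {N : ℕ}
    (h : algebraMap A B a ^ (N + 1) ∈ J (algebraMap A B a) (algebraMap A B s) N) :
    a ^ (N + 1) ∈ J a s N := by
  have hmap : J (algebraMap A B a) (algebraMap A B s) N = (J a s N).map (algebraMap A B) := by
    rw [J, J, Ideal.map_mul, Ideal.map_pow, Ideal.map_span, Ideal.map_span, Set.image_singleton,
      Set.image_pair]
  rw [hmap, ← map_pow] at h
  rw [← Ideal.comap_map_eq_self_of_faithfullyFlat (B := B) (J a s N)]
  exact h

end FFlat

section Domain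

variable {A K : Type*} [CommRing A] [IsDomain A] [Field K] [Algebra A K] [IsFractionRing A K]

omit [IsDomain A] in
lemma span_pow_succ_le (a s : A) (N : ℕ) :
    Ideal.span ({s, a} : Set A) ^ (N + 1) ≤ J a s N ⊔ Ideal.span {a ^ (N + 1)} := by
  induction N with
  | zero =>
    rw [J, pow_zero, Ideal.one_eq_top, Ideal.mul_top, zero_add, pow_one, pow_one, Ideal.span_insert]
  | succ N ih =>
    have hsa : Ideal.span ({s, a} : Set A) = Ideal.span {s} ⊔ Ideal.span {a} := Ideal.span_insert _ _
    rw [pow_succ' _ (N + 1)]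
    nth_rewrite 1 [hsa]
    rw [Ideal.sup_mul]
    refine sup_le (le_sup_left.trans' (le_of_eq rfl)) ?_
    calc Ideal.span {a} * Ideal.span {s, a} ^ (N + 1)
        ≤ Ideal.span {a} * (J a s N ⊔ Ideal.span {a ^ (N + 1)}) := Ideal.mul_mono_right ih
      _ = Ideal.span {a} * J a s N ⊔ Ideal.span {a} * Ideal.span {a ^ (N + 1)} := Ideal.mul_sup _ _ _
      _ ≤ J a s (N + 1) ⊔ Ideal.span {a ^ (N + 1 + 1)} := by
        refine sup_le_sup ?_ ?_
        · rw [J, J, ← mul_assoc, mul_comm (Ideal.span {a}), mul_assoc, pow_succ']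
          exact Ideal.mul_mono_right (Ideal.mul_mono_left
            ((Ideal.span_singleton_le_iff_mem _).2 (a_mem a s)))
        · rw [Ideal.span_singleton_mul_span_singleton, ← pow_succ']

lemma isIntegral_of_pow_mem_J {a s : A} (hs : s ≠ 0) {x : K}
    (hx : algebraMap A K s * x = algebraMap A K a) {N : ℕ} (h : a ^ (N + 1) ∈ J a s N) :
    IsIntegral A x := by
  -- `a · (s,a)^N ⊆ s · (s,a)^N`
  have hmul : Ideal.span {a} * Ideal.span ({s, a} : Set A) ^ N ≤ J a s N := by
    cases N with
    | zero =>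
      rw [pow_zero, Ideal.one_eq_top, Ideal.mul_top, Ideal.span_singleton_le_iff_mem]
      simpa using h
    | succ N =>
      calc Ideal.span {a} * Ideal.span ({s, a} : Set A) ^ (N + 1)
          ≤ Ideal.span {a} * (J a s N ⊔ Ideal.span {a ^ (N + 1)}) :=
            Ideal.mul_mono_right (span_pow_succ_le a s N)
        _ = Ideal.span {a} * J a s N ⊔ Ideal.span {a} * Ideal.span {a ^ (N + 1)} :=
            Ideal.mul_sup _ _ _
        _ ≤ J a s (N + 1) := by
          refine sup_le ?_ ?_
          · rw [J, J, ← mul_assoc, mul_comm (Ideal.span {a}), mul_assoc, pow_succ']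
            exact Ideal.mul_mono_right (Ideal.mul_mono_left
              ((Ideal.span_singleton_le_iff_mem _).2 (a_mem a s)))
          · rw [Ideal.span_singleton_mul_span_singleton, ← pow_succ',
              Ideal.span_singleton_le_iff_mem]
            exact h
  have hsK : algebraMap A K s ≠ 0 := by
    intro h0
    exact hs ((IsFractionRing.injective A K) (by rw [h0, map_zero]))
  let M : Submodule A K := Submodule.map (Algebra.linearMap A K)
    ((Ideal.span ({s, a} : Set A) ^ N).restrictScalars A)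
  refine isIntegral_of_smul_mem_submodule (M := K) M ?_ ?_ x ?_
  · intro hbot
    have hsN : s ^ N ∈ Ideal.span ({s, a} : Set A) ^ N := Ideal.pow_mem_pow (s_mem a s) N
    have : algebraMap A K (s ^ N) ∈ M := ⟨s ^ N, hsN, rfl⟩
    rw [hbot, Submodule.mem_bot, map_pow] at this
    exact hsK (eq_zero_of_pow_eq_zero this)
  · exact Submodule.FG.map _ (by
      have : (Ideal.span ({s, a} : Set A) ^ N).FG :=
        Ideal.FG.pow (Submodule.fg_span (Set.toFinite {s, a}))
      exact this)
  · rintro _ ⟨t, ht, rfl⟩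
    have hat : a * t ∈ J a s N := hmul (Ideal.mul_mem_mul (Ideal.mem_span_singleton_self a) ht)
    rw [J, Ideal.mem_span_singleton_mul] at hat
    obtain ⟨t', ht', hst⟩ := hat
    refine ⟨t', ht', ?_⟩
    show algebraMap A K t' = x • algebraMap A K t
    rw [smul_eq_mul]
    apply mul_left_cancel₀ hsK
    rw [← mul_assoc, hx, ← map_mul, ← map_mul, hst]

end Domain

end Groth.Agent.H3.FFlatReduced

namespace Groth.Agent.H3.FFlatReduced

variable {A B : Type u} [CommRing A] [IsDomain A] [CommRing B] [Algebra A B]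
  [Module.FaithfullyFlat A B]

lemma algebraMap_quot (a : A) :
    algebraMap A (B ⧸ nilradical B) a = Ideal.Quotient.mk (nilradical B) (algebraMap A B a) := rfl

lemma injective_algebraMap_quot : Function.Injective (algebraMap A (B ⧸ nilradical B)) := by
  rw [injective_iff_map_eq_zero]
  intro a ha
  rw [algebraMap_quot, Ideal.Quotient.eq_zero_iff_mem] at ha
  obtain ⟨n, hn⟩ := ha
  rw [← map_pow] at hn
  have hinj : Function.Injective (algebraMap A B) := FaithfulSMul.algebraMap_injective A B
  have : a ^ n = 0 := hinj (by rw [hn, map_zero])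
  exact eq_zero_of_pow_eq_zero this

lemma mem_nonZeroDivisors_quot {a : A} (ha : a ≠ 0) :
    algebraMap A (B ⧸ nilradical B) a ∈ nonZeroDivisors (B ⧸ nilradical B) := by
  rw [mem_nonZeroDivisors_iff_right]
  intro c hc
  obtain ⟨b, rfl⟩ := Ideal.Quotient.mk_surjective c
  rw [algebraMap_quot, ← map_mul, Ideal.Quotient.eq_zero_iff_mem] at hc
  obtain ⟨n, hn⟩ := hc
  rw [Ideal.Quotient.eq_zero_iff_mem]
  refine ⟨n, ?_⟩
  rw [mul_pow, ← map_pow] at hn
  have hreg : IsSMulRegular A (a ^ n) := by
    have : a ^ n ≠ 0 := pow_ne_zero n ha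
    exact (isRegular_of_ne_zero this).left.isSMulRegular
  have hregB : IsSMulRegular B (algebraMap A B (a ^ n)) := IsSMulRegular.of_flat hreg
  apply hregB
  show algebraMap A B (a ^ n) • b ^ n = algebraMap A B (a ^ n) • 0
  rw [smul_eq_mul, smul_zero, mul_comm]
  exact hn

theorem main :
    Function.Injective (algebraMap A (B ⧸ nilradical B)) ∧
    (∀ a : A, a ≠ 0 → algebraMap A (B ⧸ nilradical B) a ∈ nonZeroDivisors (B ⧸ nilradical B)) ∧
    ∀ (R : Type u) [CommRing R] [Algebra (B ⧸ nilradical B) R] [IsFractionRing (B ⧸ nilradical B) R]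
      [Algebra A R] [IsScalarTower A (B ⧸ nilradical B) R] [Algebra (FractionRing A) R]
      [IsScalarTower A (FractionRing A) R] (x : FractionRing A),
      IsIntegral (B ⧸ nilradical B) (algebraMap (FractionRing A) R x) ↔ IsIntegral A x := by
  refine ⟨injective_algebraMap_quot, fun a ha => mem_nonZeroDivisors_quot ha, ?_⟩
  intro R _ _ _ _ _ _ _ x
  constructor
  · intro hint
    obtain ⟨a, s, hs, hx⟩ : ∃ a s : A, s ≠ 0 ∧ algebraMap A (FractionRing A) s * x =
        algebraMap A (FractionRing A) a := by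
      obtain ⟨⟨a, s⟩, h⟩ := IsLocalization.surj (nonZeroDivisors A) x
      exact ⟨a, s.1, nonZeroDivisors.ne_zero s.2, by rw [mul_comm]; exact h⟩
    have hCR : Function.Injective (algebraMap (B ⧸ nilradical B) R) :=
      IsLocalization.injective R (le_refl (nonZeroDivisors (B ⧸ nilradical B)))
    have hz : algebraMap (B ⧸ nilradical B) R (algebraMap A (B ⧸ nilradical B) s) *
        algebraMap (FractionRing A) R x =
        algebraMap (B ⧸ nilradical B) R (algebraMap A (B ⧸ nilradical B) a) := by
      rw [← IsScalarTower.algebraMap_apply A (B ⧸ nilradical B) R,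
        ← IsScalarTower.algebraMap_apply A (B ⧸ nilradical B) R,
        IsScalarTower.algebraMap_apply A (FractionRing A) R,
        IsScalarTower.algebraMap_apply A (FractionRing A) R, ← map_mul, hx]
    obtain ⟨N, hN⟩ := exists_pow_mem_J_of_isIntegral (algebraMap (B ⧸ nilradical B) R) hCR hz hint
    rw [algebraMap_quot, algebraMap_quot] at hN
    obtain ⟨N', hN'⟩ := exists_pow_mem_J_of_surjective (Ideal.Quotient.mk (nilradical B))
      Ideal.Quotient.mk_surjective (by rw [Ideal.mk_ker]) hN
    exact isIntegral_of_pow_mem_J hs hx (pow_mem_J_of_faithfullyFlat (B := B) hN')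
  · intro hint
    have h1 : IsIntegral A (algebraMap (FractionRing A) R x) :=
      hint.map (IsScalarTower.toAlgHom A (FractionRing A) R)
    exact h1.tower_top

end Groth.Agent.H3.FFlatReduced
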