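import Mathlib

set_option autoImplicit false

universe u

open scoped TensorProduct

namespace Groth.Agent.H3.FPDescLim

open Submodule

section General

variable (R S : Type u) [CommRing R] [CommRing S] [Algebra R S] {n : ℕ} {κ : Type u}
  (w : κ → (Fin n → R))

/-- coordinatewise `algebraMap`. -/
def incl (n : ℕ) : (Fin n → R) →ₗ[R] (Fin n → S) := (Algebra.linearMap R S).compLeft (Fin n)

theorem incl_apply (x : Fin n → R) (j : Fin n) : incl R S n x j = algebraMap R S (x j) := rfl

/-- forward map -/
noncomputable def fwd :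
    S ⊗[R] ((Fin n → R) ⧸ span R (Set.range w)) →ₗ[S]
      (Fin n → S) ⧸ span S (Set.range fun k => incl R S n (w k)) :=
  LinearMap.liftBaseChange S
    ((span R (Set.range w)).liftQ
      (((span S (Set.range fun k => incl R S n (w k))).mkQ.restrictScalars R) ∘ₗ incl R S n)
      (by
        rw [span_le]
        rintro _ ⟨k, rfl⟩
        show (span S (Set.range fun k => incl R S n (w k))).mkQ (incl R S n (w k)) = 0
        rw [mkQ_apply, Submodule.Quotient.mk_eq_zero]
        exact subset_span ⟨k, rfl⟩))

theorem fwd_tmul (s : S) (x : Fin n → R) :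
    fwd R S w (s ⊗ₜ[R] Submodule.Quotient.mk x) = s • Submodule.Quotient.mk (incl R S n x) := by
  rw [fwd, LinearMap.liftBaseChange_tmul]
  rfl

/-- auxiliary: `S^n → S ⊗ (R^n / K)` -/
noncomputable def psi :
    (Fin n → S) →ₗ[S] S ⊗[R] ((Fin n → R) ⧸ span R (Set.range w)) :=
  (LinearMap.baseChange S (span R (Set.range w)).mkQ) ∘ₗ
    (TensorProduct.piScalarRight R S S (Fin n)).symm.toLinearMap

theorem psi_incl (x : Fin n → R) :
    psi R S w (incl R S n x) = (1 : S) ⊗ₜ[R] Submodule.Quotient.mk x := by
  have h1 : incl R S n x = TensorProduct.piScalarRight R S S (Fin n) ((1 : S) ⊗ₜ[R] x) := by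
    rw [TensorProduct.piScalarRight_apply, TensorProduct.piScalarRightHom_tmul]
    funext j
    rw [incl_apply, Algebra.smul_def, mul_one]
  rw [psi, LinearMap.comp_apply, h1]
  show LinearMap.baseChange S _ ((TensorProduct.piScalarRight R S S (Fin n)).symm _) = _
  rw [LinearEquiv.symm_apply_apply, LinearMap.baseChange_tmul]
  rfl

/-- backward map -/
noncomputable def bwd :
    ((Fin n → S) ⧸ span S (Set.range fun k => incl R S n (w k))) →ₗ[S]
      S ⊗[R] ((Fin n → R) ⧸ span R (Set.range w)) :=
  (span S (Set.range fun k => incl R S n (w k))).liftQ (psi R S w) (by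
    rw [span_le]
    rintro _ ⟨k, rfl⟩
    show psi R S w (incl R S n (w k)) = 0
    rw [psi_incl]
    have : (Submodule.Quotient.mk (w k) : (Fin n → R) ⧸ span R (Set.range w)) = 0 := by
      rw [Submodule.Quotient.mk_eq_zero]
      exact subset_span ⟨k, rfl⟩
    rw [this, TensorProduct.tmul_zero])

theorem bwd_mk_incl (x : Fin n → R) :
    bwd R S w (Submodule.Quotient.mk (incl R S n x)) = (1 : S) ⊗ₜ[R] Submodule.Quotient.mk x := by
  rw [bwd, liftQ_apply, psi_incl]

theorem single_eq (j : Fin n) (s : S) :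
    (Pi.single j s : Fin n → S) = s • incl R S n (Pi.single j 1) := by
  funext l
  rw [Pi.smul_apply, incl_apply]
  by_cases h : l = j
  · subst h; simp
  · simp [Pi.single_eq_of_ne h]

noncomputable def equiv :
    S ⊗[R] ((Fin n → R) ⧸ span R (Set.range w)) ≃ₗ[S]
      (Fin n → S) ⧸ span S (Set.range fun k => incl R S n (w k)) :=
  LinearEquiv.ofLinearMap (fwd R S w) (bwd R S w)
    (by
      apply Submodule.linearMap_qext
      apply LinearMap.pi_ext'
      intro j
      ext
      simp only [LinearMap.coe_comp, Function.comp_apply, LinearMap.coe_single, mkQ_apply,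
        LinearMap.id_coe, id_eq]
      rw [single_eq R S j (1 : S), one_smul, bwd_mk_incl, fwd_tmul, one_smul])
    (by
      apply TensorProduct.AlgebraTensorModule.ext
      intro s y
      obtain ⟨x, rfl⟩ := Submodule.Quotient.mk_surjective _ y
      simp only [LinearMap.coe_comp, Function.comp_apply, LinearMap.id_coe, id_eq]
      rw [fwd_tmul, map_smul, bwd_mk_incl, TensorProduct.smul_tmul', smul_eq_mul, mul_one])

end General


theorem main (ι : Type u) [Preorder ι] [Nonempty ι] [IsDirectedOrder ι]
    (G : ι → Type u) [∀ i, CommRing (G i)] (f : ∀ i j, i ≤ j → G i →+* G j)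
    [DirectedSystem G (fun i j h ↦ f i j h)] (M : Type u) [AddCommGroup M]
    [Module (Ring.DirectLimit G (fun i j h ↦ f i j h)) M]
    [Module.FinitePresentation (Ring.DirectLimit G (fun i j h ↦ f i j h)) M] :
    ∃ (i : ι) (Mi : Type u) (_ : AddCommGroup Mi) (_ : Module (G i) Mi),
      Module.FinitePresentation (G i) Mi ∧
      letI : Algebra (G i) (Ring.DirectLimit G (fun i j h ↦ f i j h)) :=
        (Ring.DirectLimit.of G (fun i j h ↦ f i j h) i).toAlgebra
      Nonempty (M ≃ₗ[Ring.DirectLimit G (fun i j h ↦ f i j h)]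
        (Ring.DirectLimit G (fun i j h ↦ f i j h)) ⊗[G i] Mi) := by
  classical
  set D := Ring.DirectLimit G (fun i j h ↦ f i j h) with hD
  obtain ⟨n, K, e, hK⟩ := Module.FinitePresentation.exists_fin D M
  obtain ⟨m, v, hv⟩ := Submodule.fg_iff_exists_fin_generating_family.mp hK
  -- lift the entries
  choose i0 x0 hx0 using fun kj : Fin m × Fin n =>
    Ring.DirectLimit.exists_of (G := G) (f := fun i j h ↦ f i j h) (v kj.1 kj.2)
  obtain ⟨i, hi⟩ := (Finset.univ.image i0).exists_le
  have hi' : ∀ kj, i0 kj ≤ i := fun kj => hi _ (Finset.mem_image_of_mem _ (Finset.mem_univ _))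
  let w : ULift.{u} (Fin m) → (Fin n → G i) := fun k j => f _ _ (hi' (k.down, j)) (x0 (k.down, j))
  letI : Algebra (G i) D := (Ring.DirectLimit.of G (fun i j h ↦ f i j h) i).toAlgebra
  have hw : ∀ k j, algebraMap (G i) D (w k j) = v k.down j := by
    intro k j
    show Ring.DirectLimit.of G (fun i j h ↦ f i j h) i (f _ _ (hi' (k.down, j)) (x0 (k.down, j)))
      = _
    rw [Ring.DirectLimit.of_f]
    exact hx0 (k.down, j)
  have hKw : K = span D (Set.range fun k => incl (G i) D n (w k)) := by
    rw [← hv]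
    congr 1
    ext y
    constructor
    · rintro ⟨k, rfl⟩
      exact ⟨⟨k⟩, funext fun j => hw ⟨k⟩ j⟩
    · rintro ⟨k, rfl⟩
      exact ⟨k.down, (funext fun j => hw k j).symm⟩
  refine ⟨i, (Fin n → G i) ⧸ span (G i) (Set.range w), inferInstance, inferInstance, ?_, ?_⟩
  · refine Module.finitePresentation_of_free_of_surjective (span (G i) (Set.range w)).mkQ
      (mkQ_surjective _) ?_
    rw [ker_mkQ]
    exact Submodule.fg_span (Set.finite_range w)
  · exact ⟨e.trans ((Submodule.quotEquivOfEq _ _ hKw).trans (equiv (G i) D w).symm)⟩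

end Groth.Agent.H3.FPDescLim
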