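import Mathlib
import Groth.Prelude.Def_Found
import Groth.Prelude.Def_EGA4b
import Groth.Agent.Lib.Helper3.CA.PHomInst

/-!
# G-rings via finite free algebras (helper3), part 1: general lemmas
-/

set_option autoImplicit false
universe u
open TensorProduct IsLocalRing

namespace Groth.Agent.H3.GRingFF

open Groth.Agent.H3.PHom

/-- pointwise version of `pfib_of_forall_maximal`, with arbitrary models of the local rings -/
theorem fiber_of_forall_maximal {P : ∀ (R : Type u) [CommRing R], Prop} (hP : LocalProp P)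
    (A B : Type u) [CommRing A] [CommRing B] [Algebra A B] [IsNoetherianRing B]
    (p : Ideal A) [p.IsPrime]
    (h : ∀ (n : Ideal B) [n.IsMaximal], p ≤ n.under A →
      ∃ (L : Type u) (_ : CommRing L) (_ : Algebra B L) (_ : Algebra A L)
        (_ : IsScalarTower A B L), IsLocalization.AtPrime L n ∧ P (p.Fiber L)) :
    P (p.Fiber B) := by
  have : IsNoetherianRing (p.Fiber B) := RegHomBC.isNoetherianRing_fiber A B p
  refine hP.of_atPrime _ fun 𝔮 _ => ?_
  let ι : B →+* p.Fiber B :=
    (Algebra.TensorProduct.includeRight : B →ₐ[A] p.Fiber B).toRingHom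
  have hq : (𝔮.comap ι) ≠ ⊤ := (Ideal.comap_isPrime ι 𝔮).ne_top
  obtain ⟨n, hn, hqn⟩ := Ideal.exists_le_maximal _ hq
  have hpn : p ≤ n.under A := by
    intro a ha
    apply hqn
    show ι (algebraMap A B a) ∈ 𝔮
    have : ι (algebraMap A B a) = 0 := by
      show (1 : p.ResidueField) ⊗ₜ[A] (algebraMap A B a) = 0
      rw [Algebra.algebraMap_eq_smul_one, ← TensorProduct.smul_tmul, Algebra.smul_def, mul_one,
        (Ideal.algebraMap_residueField_eq_zero).mpr ha, TensorProduct.zero_tmul]
    rw [this]
    exact 𝔮.zero_mem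
  obtain ⟨L, _, _, _, _, hL, hPL⟩ := h n hpn
  obtain ⟨_, _, hloc⟩ := exists_isLocalization_tensor A p.ResidueField B L n.primeCompl
  set M' := (n.primeCompl.map (Algebra.TensorProduct.includeRight (R := A)
        (A := p.ResidueField))) with hM'
  have hd : Disjoint (M' : Set (p.Fiber B)) (𝔮 : Set _) := by
    rw [Set.disjoint_left]
    rintro x hx hxQ
    rw [hM'] at hx
    obtain ⟨b, hb, rfl⟩ := hx
    exact hb (hqn (show b ∈ 𝔮.comap ι from hxQ))
  obtain ⟨Q', _, _, ⟨e⟩⟩ := FFDom.exists_atPrimeEquivMap (T' := p.Fiber L) M' 𝔮 hd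
  have h2 : P (Localization.AtPrime Q') := hP.of_isLocalization Q'.primeCompl hPL
  exact hP.of_ringEquiv e.symm h2

/-- geometrically regular implies regular -/
theorem isRegularRing_of_isGeometricallyRegular (k S : Type u) [Field k] [CommRing S]
    [Algebra k S] (h : CAlg.IsGeometricallyRegular k S) : IsRegularRing S := by
  have h1 : IsRegularRing (k ⊗[k] S) := h k (Module.Finite.self k)
  exact IsRegularRing.of_ringEquiv (Algebra.TensorProduct.lid k S).toRingEquiv


/-- the fibre over `S` of an `S_Q`-algebra is a fibre over `S_Q` -/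
theorem exists_fiber_equiv_localization (S : Type u) [CommRing S] (Q : Ideal S) [Q.IsPrime]
    (C : Type u) [CommRing C] [Algebra S C] [Algebra (Localization.AtPrime Q) C]
    [IsScalarTower S (Localization.AtPrime Q) C] (q : Ideal S) [q.IsPrime] (hqQ : q ≤ Q) :
    ∃ (Q' : Ideal (Localization.AtPrime Q)) (_ : Q'.IsPrime),
      Nonempty (q.Fiber C ≃+* Q'.Fiber C) := by
  have hd : Disjoint (Q.primeCompl : Set S) (q : Set S) := by
    rw [Set.disjoint_left]
    intro x hx hxq
    exact hx (hqQ hxq)
  have hprime : (q.map (algebraMap S (Localization.AtPrime Q))).IsPrime :=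
    IsLocalization.isPrime_of_isPrime_disjoint Q.primeCompl _ q inferInstance hd
  have hcomap : (q.map (algebraMap S (Localization.AtPrime Q))).comap
      (algebraMap S (Localization.AtPrime Q)) = q :=
    IsLocalization.under_map_of_isPrime_disjoint Q.primeCompl _ inferInstance hd
  refine ⟨q.map (algebraMap S (Localization.AtPrime Q)), hprime, ?_⟩
  set Q' := q.map (algebraMap S (Localization.AtPrime Q)) with hQ'
  let ρ : q.ResidueField →ₐ[S] Q'.ResidueField :=
    Ideal.ResidueField.mapₐ q Q' (Algebra.ofId S (Localization.AtPrime Q)) hcomap.symm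
  have hρ : Function.Bijective ρ :=
    (RingHom.surjectiveOnStalks_of_isLocalization Q.primeCompl
      (Localization.AtPrime Q)).residueFieldMap_bijective q Q' hcomap.symm
  let e₁ : q.ResidueField ≃ₐ[S] Q'.ResidueField := AlgEquiv.ofBijective ρ hρ
  let e₂ : q.ResidueField ⊗[S] C ≃ₐ[S] Q'.ResidueField ⊗[S] C :=
    Algebra.TensorProduct.congr e₁ AlgEquiv.refl
  let e₃ : Q'.ResidueField ⊗[Localization.AtPrime Q] C ≃ₐ[Localization.AtPrime Q]
      Q'.ResidueField ⊗[S] C :=
    IsLocalization.algebraTensorEquiv Q.primeCompl (Localization.AtPrime Q) Q'.ResidueField C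
  exact ⟨e₂.toRingEquiv.trans e₃.symm.toRingEquiv⟩

end Groth.Agent.H3.GRingFF
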