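import Mathlib
import Groth.Prelude.Def_EGA4b
import Groth.Agent.Lib.Helper3.CA.CplBaseChange
import Groth.Agent.Lib.Helper3.CA.CplBij
import Groth.Agent.Lib.Helper3.CA.CplMap
import Groth.Agent.Lib.Helper1.Adic
import Groth.Agent.Lib.Helper9.ChevMod
import Groth.Agent.Lib.Helper5.CA.FinCL
import Groth.Agent.S0543

/-!
# Formal fibres under quasi-finite local homomorphisms (helper3), part 1:
`(B ⊗_A Â)_{𝔪_B}` is a complete local ring when `B/𝔪_A B` is finite over `A`.
-/

set_option autoImplicit false
universe u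
open IsLocalRing TensorProduct

namespace Groth.Agent.H3.QFFormal

variable (A B : Type u) [CommRing A] [CommRing B] [IsNoetherianRing A]
  [IsNoetherianRing B] [IsLocalRing A] [IsLocalRing B] [Algebra A B] [IsLocalHom (algebraMap A B)]

local notation "Â" => AdicCompletion (maximalIdeal A) A
local notation "B'" => B ⊗[A] AdicCompletion (maximalIdeal A) A
local notation "ι" => algebraMap B (B ⊗[A] AdicCompletion (maximalIdeal A) A)

/-- the maximal ideal `𝔪_B B'` -/
noncomputable def nn : Ideal (B ⊗[A] AdicCompletion (maximalIdeal A) A) := (maximalIdeal B).map ι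

instance : (nn A B).IsMaximal := CplBC.isMaximal_map A B

theorem map_le_nn : (maximalIdeal A).map (algebraMap A B') ≤ nn A B := by
  rw [IsScalarTower.algebraMap_eq A B B', ← Ideal.map_map]
  exact Ideal.map_mono (CplMap.map_maximalIdeal_le A B)

theorem exists_sub_mem_map (N : ℕ)
    (hN : maximalIdeal B ^ N ≤ (maximalIdeal A).map (algebraMap A B)) (x : B') :
    ∃ b : B, x - ι b ∈ (maximalIdeal A).map (algebraMap A B') := by
  obtain ⟨b, hb⟩ := CplBC.exists_sub_mem A B N x
  refine ⟨b, ?_⟩
  have : (maximalIdeal B ^ N).map ι ≤ (maximalIdeal A).map (algebraMap A B') := by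
    rw [IsScalarTower.algebraMap_eq A B B', ← Ideal.map_map]
    exact Ideal.map_mono hN
  exact this hb

theorem aux_mem {L : Type*} [CommRing L] (J : Ideal L) (y s x bs bx v : L) (hys : y * s = x)
    (h1 : s - bs ∈ J) (h2 : x - bx ∈ J) (hv : v * bs = 1) : y - bx * v ∈ J := by
  have : y - bx * v = v * ((x - bx) - y * (s - bs)) := by
    have e1 : v * ((x - bx) - y * (s - bs)) = v * (x - y * s) + y * (v * bs) - bx * v := by ring
    rw [e1, hys, hv]; ring
  rw [this]
  exact J.mul_mem_left _ (J.sub_mem h2 (J.mul_mem_left _ h1))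

variable (L : Type u) [CommRing L] [Algebra (B ⊗[A] AdicCompletion (maximalIdeal A) A) L]
  [IsLocalization.AtPrime L (nn A B)]

/-- every element of `L` is congruent to an element of `B` modulo `𝔪_A L` -/
theorem exists_sub_mem_map_loc (N : ℕ)
    (hN : maximalIdeal B ^ N ≤ (maximalIdeal A).map (algebraMap A B)) (y : L) :
    ∃ b : B, y - algebraMap B' L (ι b) ∈
      ((maximalIdeal A).map (algebraMap A B')).map (algebraMap B' L) := by
  obtain ⟨x, s, rfl⟩ := IsLocalization.exists_mk'_eq (nn A B).primeCompl y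
  obtain ⟨bs, hbs⟩ := exists_sub_mem_map A B N hN (s : B')
  obtain ⟨bx, hbx⟩ := exists_sub_mem_map A B N hN x
  have hbsu : IsUnit bs := by
    by_contra hnu
    have h1 : bs ∈ maximalIdeal B := (IsLocalRing.mem_maximalIdeal bs).mpr hnu
    have h2 : ι bs ∈ nn A B := Ideal.mem_map_of_mem _ h1
    have h3 : (s : B') ∈ nn A B := by
      have : (s : B') = ((s : B') - ι bs) + ι bs := by ring
      rw [this]
      exact Ideal.add_mem _ (map_le_nn A B hbs) h2
    exact s.2 h3
  obtain ⟨u, hu⟩ := hbsu
  refine ⟨bx * (u⁻¹ : Bˣ), ?_⟩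
  rw [map_mul, map_mul]
  refine aux_mem _ _ (algebraMap B' L (s : B')) (algebraMap B' L x) (algebraMap B' L (ι bs)) _ _
    (IsLocalization.mk'_spec _ x s) ?_ ?_ ?_
  · rw [← map_sub]; exact Ideal.mem_map_of_mem _ hbs
  · rw [← map_sub]; exact Ideal.mem_map_of_mem _ hbx
  · rw [← map_mul, ← map_mul, ← hu, Units.inv_mul, map_one, map_one]

/-- the ring hom `B → L` -/
noncomputable def φ : B →+* L := (algebraMap B' L).comp ι

/-- the ring hom `Â → L` -/
noncomputable def θ : Â →+* L :=
  (algebraMap B' L).comp (Algebra.TensorProduct.includeRight : Â →ₐ[A] B').toRingHom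

omit [IsNoetherianRing A] [IsNoetherianRing B] [IsLocalRing B] [IsLocalHom (algebraMap A B)]
  [IsLocalization.AtPrime L (nn A B)] in
theorem θ_of (a : A) : θ A B L (algebraMap A Â a) = φ A B L (algebraMap A B a) := by
  unfold θ φ
  simp only [RingHom.comp_apply]
  congr 1
  simp only [AlgHom.toRingHom_eq_coe, RingHom.coe_coe, Algebra.TensorProduct.includeRight_apply,
    Algebra.TensorProduct.algebraMap_apply]
  rw [Algebra.algebraMap_eq_smul_one (A := Â) a, Algebra.algebraMap_eq_smul_one (A := B) a,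
    TensorProduct.tmul_smul, TensorProduct.smul_tmul']
  simp

section Complete

variable [IsNoetherianRing (B ⊗[A] AdicCompletion (maximalIdeal A) A)]

include A B in
theorem isNoetherianRing_loc : IsNoetherianRing L :=
  IsLocalization.isNoetherianRing (nn A B).primeCompl _ inferInstance

include A B in
theorem isLocalRing_loc : IsLocalRing L := IsLocalization.AtPrime.isLocalRing L (nn A B)

/-- the ideal `𝔪_A L` -/
noncomputable def JL : Ideal L := ((maximalIdeal A).map (algebraMap A B)).map (φ A B L)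

theorem JL_eq : JL A B L = ((maximalIdeal A).map (algebraMap A B')).map (algebraMap B' L) := by
  unfold JL φ
  rw [IsScalarTower.algebraMap_eq A B B', ← Ideal.map_map, ← Ideal.map_map]

theorem JL_eq' : JL A B L = (maximalIdeal Â).map (θ A B L) := by
  unfold JL
  rw [AdicCompletion.maximalIdeal_eq_map, Ideal.map_map, Ideal.map_map]
  congr 1
  exact RingHom.ext fun a => (θ_of A B L a).symm

theorem map_φ_maximalIdeal [IsLocalRing L] :
    (maximalIdeal B).map (φ A B L) = maximalIdeal L := by
  unfold φ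
  rw [← Ideal.map_map]
  exact IsLocalization.AtPrime.map_eq_maximalIdeal (nn A B) _

theorem JL_le [IsLocalRing L] : JL A B L ≤ maximalIdeal L := by
  rw [← map_φ_maximalIdeal A B L]
  exact Ideal.map_mono (CplMap.map_maximalIdeal_le A B)

theorem pow_le_JL [IsLocalRing L] (N : ℕ)
    (hN : maximalIdeal B ^ N ≤ (maximalIdeal A).map (algebraMap A B)) :
    maximalIdeal L ^ N ≤ JL A B L := by
  rw [← map_φ_maximalIdeal A B L, ← Ideal.map_pow]
  exact Ideal.map_mono hN

omit [IsNoetherianRing A] [IsNoetherianRing B] [IsLocalRing B] [IsLocalHom (algebraMap A B)]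
  [IsNoetherianRing (B ⊗[A] AdicCompletion (maximalIdeal A) A)] in
theorem exists_fun_sub_mem
    (H2 : Module.Finite A (B ⧸ (maximalIdeal A).map (algebraMap A B))) :
    ∃ (n : ℕ) (g : Fin n → B), ∀ b : B, ∃ a : Fin n → A,
      b - ∑ i, algebraMap A B (a i) * g i ∈ (maximalIdeal A).map (algebraMap A B) := by
  obtain ⟨n, s, hs⟩ := Module.Finite.exists_fin (R := A)
    (M := B ⧸ (maximalIdeal A).map (algebraMap A B))
  choose g hg using fun i => Ideal.Quotient.mk_surjective (s i)
  refine ⟨n, g, fun b => ?_⟩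
  have hb : Ideal.Quotient.mk ((maximalIdeal A).map (algebraMap A B)) b ∈
      Submodule.span A (Set.range s) := by rw [hs]; trivial
  obtain ⟨a, ha⟩ := (Submodule.mem_span_range_iff_exists_fun A).mp hb
  refine ⟨a, ?_⟩
  rw [← Ideal.Quotient.eq, ← ha, map_sum]
  refine Finset.sum_congr rfl fun i _ => ?_
  rw [map_mul, hg, Algebra.smul_def]; rfl

theorem finite_quot (N : ℕ) (hN : maximalIdeal B ^ N ≤ (maximalIdeal A).map (algebraMap A B))
    (H2 : Module.Finite A (B ⧸ (maximalIdeal A).map (algebraMap A B))) :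
    letI : Algebra Â L := (θ A B L).toAlgebra
    Module.Finite Â (L ⧸ (maximalIdeal Â • ⊤ : Submodule Â L)) := by
  letI : Algebra Â L := (θ A B L).toAlgebra
  obtain ⟨n, g, hg⟩ := exists_fun_sub_mem A B H2
  let P : Submodule Â L := maximalIdeal Â • ⊤
  let v : Fin n → (L ⧸ P) := fun i => P.mkQ (φ A B L (g i))
  refine Module.Finite.of_surjective (Fintype.linearCombination Â v) ?_
  intro q
  obtain ⟨y, rfl⟩ := Submodule.Quotient.mk_surjective _ q
  obtain ⟨b, hb⟩ := exists_sub_mem_map_loc A B L N hN y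
  obtain ⟨a, ha⟩ := hg b
  refine ⟨fun i => algebraMap A Â (a i), ?_⟩
  rw [Fintype.linearCombination_apply]
  have hsm : ∀ (e : Â) (x : L), e • x = θ A B L e * x := fun e x => rfl
  have h1 : ∀ i, algebraMap A Â (a i) • v i =
      P.mkQ (φ A B L (algebraMap A B (a i) * g i)) := by
    intro i
    simp only [v]
    rw [← map_smul, hsm, θ_of, ← map_mul (φ A B L)]
  simp only [h1]
  rw [← map_sum, ← map_sum, Submodule.mkQ_apply, eq_comm, Submodule.Quotient.eq]
  show _ ∈ maximalIdeal Â • (⊤ : Submodule Â L)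
  have h2 : y - φ A B L (∑ i, algebraMap A B (a i) * g i) ∈ JL A B L := by
    have e : y - φ A B L (∑ i, algebraMap A B (a i) * g i) =
        (y - φ A B L b) + φ A B L (b - ∑ i, algebraMap A B (a i) * g i) := by
      rw [map_sub (φ A B L) b _]; ring
    rw [e]
    refine (JL A B L).add_mem ?_ (Ideal.mem_map_of_mem _ ha)
    rw [JL_eq]; exact hb
  rw [Ideal.smul_top_eq_map, Submodule.restrictScalars_mem]
  rw [JL_eq'] at h2; exact h2

/-- **Lemma Y**: `L = (B ⊗_A Â)_{𝔪_B}` is a complete local ring. -/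
theorem isAdicComplete_loc [IsLocalRing L] (N : ℕ)
    (hN : maximalIdeal B ^ N ≤ (maximalIdeal A).map (algebraMap A B))
    (H2 : Module.Finite A (B ⧸ (maximalIdeal A).map (algebraMap A B))) :
    IsAdicComplete (maximalIdeal L) L := by
  letI : Algebra Â L := (θ A B L).toAlgebra
  have hJ : (maximalIdeal Â).map (algebraMap Â L) = JL A B L := (JL_eq' A B L).symm
  haveI : IsNoetherianRing Â := Groth.Agent.S0543.result A (maximalIdeal A)
  haveI : IsNoetherianRing L := isNoetherianRing_loc A B L
  haveI : IsHausdorff (maximalIdeal Â) L := by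
    rw [← IsHausdorff.map_algebraMap_iff (S := L), hJ]
    refine IsHausdorff.of_le_jacobson _ _ ?_
    rw [IsLocalRing.jacobson_eq_maximalIdeal ⊥ bot_ne_top]
    exact JL_le A B L
  have hfin := finite_quot A B L N hN H2
  haveI : Module.Finite Â L :=
    H1.module_finite_of_isHausdorff_of_quotient_finite (maximalIdeal Â) L hfin
  haveI : IsAdicComplete (maximalIdeal Â) L :=
    H9.ChevMod.isAdicComplete_of_finite Â (maximalIdeal Â) L
  haveI : IsAdicComplete (JL A B L) L := by
    rw [← hJ]; exact (IsAdicComplete.map_algebraMap_iff _ _).mpr this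
  exact H5.FinCL.isAdicComplete_of_le_of_pow_le (JL A B L) (maximalIdeal L) (JL_le A B L) N
    (pow_le_JL A B L N hN)

end Complete

end Groth.Agent.H3.QFFormal
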