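import Mathlib
import Groth.Prelude.Def_Found
import Groth.Agent.Lib.Helper3.CA.PHomInst
import Groth.Agent.Lib.Helper3.CA.RegHomLoc

/-!
# Regularity of a ring map is local on the target (helper3)
-/

set_option autoImplicit false
universe u
open TensorProduct IsLocalRing

namespace Groth.Agent.H3.RegHomLocal

open Groth.Agent.H3.PHom Groth.Agent.H3.RegHomBC

variable (R Λ : Type u) [CommRing R] [CommRing Λ] [Algebra R Λ] [IsNoetherianRing Λ]

attribute [local instance] Localization.AtPrime.algebraOfLiesOver

/-- (⇒) -/
theorem isRegularHom_localRingHom (h : CAlg.IsRegularHom R Λ) (q : Ideal Λ) [q.IsPrime] :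
    CAlg.IsRegularHom (Localization.AtPrime (q.under R)) (Localization.AtPrime q) := by
  have h1 : CAlg.IsRegularHom R (Localization.AtPrime q) := by
    refine ⟨?_, fun p _ => ⟨isNoetherianRing_fiber R _ p, fun K _ _ hfin => ?_⟩⟩
    · have := h.1
      exact Module.Flat.trans R Λ (Localization.AtPrime q)
    · exact compAx_reg R Λ (Localization.AtPrime q) (fun p _ K _ _ hK => ((h.2 p).2 K hK))
        (pfib_of_isLocalization localProp_reg Λ _ q.primeCompl) p K hfin
  have hloc : IsLocalization (Algebra.algebraMapSubmonoid (Localization.AtPrime q)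
      (q.under R).primeCompl) (Localization.AtPrime q) := by
    apply IsLocalization.self
    rintro _ ⟨s, hs, rfl⟩
    rw [IsScalarTower.algebraMap_apply R Λ (Localization.AtPrime q)]
    exact IsLocalization.map_units _ (⟨algebraMap R Λ s, hs⟩ : q.primeCompl)
  exact isRegularHom_localization R (Localization.AtPrime q) h1 (q.under R).primeCompl _ _

/-- (⇐) -/
theorem isRegularHom_of_forall_maximal
    (h : ∀ (n : Ideal Λ) [n.IsMaximal],
      CAlg.IsRegularHom (Localization.AtPrime (n.under R)) (Localization.AtPrime n)) :
    CAlg.IsRegularHom R Λ := by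
  refine ⟨?_, fun p _ => ⟨isNoetherianRing_fiber R Λ p, fun K _ _ hfin => ?_⟩⟩
  · apply Module.flat_of_isLocalized_maximal Λ Λ (fun P _ => Localization.AtPrime P)
      (fun P _ => Algebra.linearMap Λ _)
    intro P _
    have := (h P).1
    exact Module.Flat.trans R (Localization.AtPrime (P.under R)) (Localization.AtPrime P)
  · have key : PFib PReg R Λ := pfib_of_forall_maximal R Λ localProp_reg fun n _ => by
      have := (h n).1
      exact geomRegFibres_comp R (Localization.AtPrime (n.under R)) (Localization.AtPrime n)
        (pfib_of_isLocalization localProp_reg R _ (n.under R).primeCompl)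
        (fun q _ => isNoetherianRing_fiber _ _ q) (fun q _ K _ _ hK => ((h n).2 q).2 K hK)
        (fun p _ => isNoetherianRing_fiber _ _ p)
    exact key p K hfin

end Groth.Agent.H3.RegHomLocal
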