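import Mathlib
import Groth.Prelude.Def_EGA4b
import Groth.Prelude.Def_Found
import Groth.Agent.Lib.Helper3.CA.QFFormal1
import Groth.Agent.Lib.Helper3.CA.RegHomLocal

/-!
# Formal fibres under quasi-finite local homomorphisms (helper3), part 2:
`B̂ ≅ (B ⊗_A Â)_{𝔪_B}` and regularity of `B → B̂`.
-/

set_option autoImplicit false
universe u
open IsLocalRing TensorProduct

namespace Groth.Agent.H3.QFFormal

open Groth.Agent.H3.PHom Groth.Agent.H3.RegHomBC

variable (A B : Type u) [CommRing A] [CommRing B] [IsNoetherianRing A]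
  [IsNoetherianRing B] [IsLocalRing A] [IsLocalRing B] [Algebra A B] [IsLocalHom (algebraMap A B)]
  [IsNoetherianRing (B ⊗[A] AdicCompletion (maximalIdeal A) A)]
  (L : Type u) [CommRing L] [Algebra (B ⊗[A] AdicCompletion (maximalIdeal A) A) L]
  [IsLocalization.AtPrime L (nn A B)] [Algebra B L]
  [IsScalarTower B (B ⊗[A] AdicCompletion (maximalIdeal A) A) L]

local notation "Â" => AdicCompletion (maximalIdeal A) A
local notation "B'" => B ⊗[A] AdicCompletion (maximalIdeal A) A
local notation "ι" => algebraMap B (B ⊗[A] AdicCompletion (maximalIdeal A) A)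

omit [IsLocalRing B] [IsLocalHom (algebraMap A B)] in
theorem isRegularHom_base (h : CAlg.IsRegularHom A Â) : CAlg.IsRegularHom B B' := by
  haveI : IsNoetherianRing Â := Groth.Agent.S0543.result A (maximalIdeal A)
  exact isRegularHom_baseChange_of_isNoetherianRing A Â B h

theorem isRegularHom_loc (h : CAlg.IsRegularHom A Â) : CAlg.IsRegularHom B L := by
  have h1 := isRegularHom_base A B h
  haveI : IsNoetherianRing L := isNoetherianRing_loc A B L
  haveI : Module.Flat B' L := IsLocalization.flat L (nn A B).primeCompl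
  haveI : Module.Flat B B' := h1.1
  refine ⟨Module.Flat.trans B B' L, fun p _ => ⟨isNoetherianRing_fiber B L p, fun K _ _ hfin => ?_⟩⟩
  exact compAx_reg B B' L (fun p _ K _ _ hK => ((h1.2 p).2 K hK))
    (pfib_of_isLocalization localProp_reg B' L (nn A B).primeCompl) p K hfin

theorem algebraMap_eq_φ : algebraMap B L = φ A B L := IsScalarTower.algebraMap_eq B B' L

theorem exists_algEquiv (N : ℕ)
    (hN : maximalIdeal B ^ N ≤ (maximalIdeal A).map (algebraMap A B))
    (H2 : Module.Finite A (B ⧸ (maximalIdeal A).map (algebraMap A B))) :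
    Nonempty (L ≃ₐ[B] EGA4.Cpl B) := by
  haveI : IsNoetherianRing L := isNoetherianRing_loc A B L
  haveI : IsLocalRing L := isLocalRing_loc A B L
  have hm : (maximalIdeal B).map (algebraMap B L) = maximalIdeal L := by
    rw [algebraMap_eq_φ A B L]; exact map_φ_maximalIdeal A B L
  haveI : IsLocalHom (algebraMap B L) :=
    ((IsLocalRing.local_hom_TFAE (algebraMap B L)).out 0 2).mpr hm.le
  haveI : Module.Flat B' L := IsLocalization.flat L (nn A B).primeCompl
  haveI : Module.Flat B L := Module.Flat.trans B B' L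
  have hres : ∀ ℓ : L, ∃ b : B, ℓ - algebraMap B L b ∈ maximalIdeal L := by
    intro ℓ
    obtain ⟨b, hb⟩ := exists_sub_mem_map_loc A B L N hN ℓ
    refine ⟨b, ?_⟩
    rw [IsScalarTower.algebraMap_apply B B' L]
    rw [← JL_eq] at hb
    exact JL_le A B L hb
  have hψ : (CplMap.cplHom B L).comp (algebraMap B (EGA4.Cpl B)) =
      (algebraMap L (EGA4.Cpl L)).comp (algebraMap B L) :=
    RingHom.ext fun b => CplMap.cplHom_of B L b
  have hbij := CplBij.bijective_of_compatible B L hm hres (CplMap.cplHom B L) hψ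
  haveI hc : IsAdicComplete (maximalIdeal L) L := isAdicComplete_loc A B L N hN H2
  have hof : Function.Bijective (algebraMap L (EGA4.Cpl L)) :=
    (AdicCompletion.of_bijective_iff (I := maximalIdeal L) (M := L)).mpr hc
  let e1 : EGA4.Cpl B ≃+* EGA4.Cpl L := RingEquiv.ofBijective _ hbij
  let e2 : L ≃+* EGA4.Cpl L := RingEquiv.ofBijective _ hof
  refine ⟨AlgEquiv.ofRingEquiv (f := e2.trans e1.symm) fun b => ?_⟩
  rw [RingEquiv.trans_apply, RingEquiv.symm_apply_eq]
  exact (CplMap.cplHom_of B L b).symm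

/-- **Local theorem**: if `A → B` is a local homomorphism of Noetherian local rings with
`B ⊗_A Â` Noetherian, `B/𝔪_A B` finite over `A` and `𝔪_B^N ⊆ 𝔪_A B`, and `A → Â` is regular, then
`B → B̂` is regular. -/
theorem isRegularHom_cpl (N : ℕ)
    (hN : maximalIdeal B ^ N ≤ (maximalIdeal A).map (algebraMap A B))
    (H2 : Module.Finite A (B ⧸ (maximalIdeal A).map (algebraMap A B)))
    (h : CAlg.IsRegularHom A Â) : CAlg.IsRegularHom B (EGA4.Cpl B) := by
  obtain ⟨e⟩ := exists_algEquiv A B (Localization.AtPrime (nn A B)) N hN H2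
  exact isRegularHom_of_algEquiv B (Localization.AtPrime (nn A B)) (EGA4.Cpl B) e
    (isRegularHom_loc A B (Localization.AtPrime (nn A B)) h)

end Groth.Agent.H3.QFFormal
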