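import Mathlib
import Groth.Prelude.Def_EGA4b
import Groth.Prelude.Def_Found
import Groth.Agent.Lib.Helper3.CA.QFFormal2

/-!
# Formal fibres under quasi-finite local homomorphisms (helper3), part 3:
deriving the hypotheses from quasi-finiteness.
-/

set_option autoImplicit false
universe u
open IsLocalRing TensorProduct

namespace Groth.Agent.H3.QFFormal

section Local

variable (A B : Type u) [CommRing A] [CommRing B] [IsNoetherianRing A]
  [IsNoetherianRing B] [IsLocalRing A] [IsLocalRing B] [Algebra A B] [IsLocalHom (algebraMap A B)]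

/-- the algebra structure `A/𝔪_A → B/𝔪_A B` -/
noncomputable abbrev resAlg :
    Algebra (ResidueField A) (B ⧸ (maximalIdeal A).map (algebraMap A B)) :=
  (Ideal.quotientMap ((maximalIdeal A).map (algebraMap A B)) (algebraMap A B)
    Ideal.le_comap_map).toAlgebra

theorem resAlg_tower :
    letI := resAlg A B
    IsScalarTower A (ResidueField A) (B ⧸ (maximalIdeal A).map (algebraMap A B)) := by
  letI := resAlg A B
  exact IsScalarTower.of_algebraMap_eq fun a => rfl

theorem finite_quot_of_quasiFinite [Algebra.QuasiFinite A B] :
    Module.Finite A (B ⧸ (maximalIdeal A).map (algebraMap A B)) := by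
  letI := resAlg A B
  haveI := resAlg_tower A B
  haveI : Algebra.QuasiFinite A (B ⧸ (maximalIdeal A).map (algebraMap A B)) := inferInstance
  haveI : Algebra.QuasiFinite (ResidueField A) (B ⧸ (maximalIdeal A).map (algebraMap A B)) :=
    Algebra.QuasiFinite.of_restrictScalars A _ _
  haveI : Module.Finite (ResidueField A) (B ⧸ (maximalIdeal A).map (algebraMap A B)) :=
    Module.Finite.of_quasiFinite
  exact Module.Finite.trans (ResidueField A) _

theorem exists_pow_le (H2 : Module.Finite A (B ⧸ (maximalIdeal A).map (algebraMap A B))) :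
    ∃ N : ℕ, maximalIdeal B ^ N ≤ (maximalIdeal A).map (algebraMap A B) := by
  letI := resAlg A B
  haveI := resAlg_tower A B
  haveI : Module.Finite (ResidueField A) (B ⧸ (maximalIdeal A).map (algebraMap A B)) :=
    Module.Finite.of_restrictScalars_finite A _ _
  haveI : IsArtinianRing (B ⧸ (maximalIdeal A).map (algebraMap A B)) :=
    IsArtinianRing.of_finite (ResidueField A) _
  obtain ⟨N, hN⟩ := IsArtinianRing.isNilpotent_jacobson_bot
    (R := B ⧸ (maximalIdeal A).map (algebraMap A B))
  refine ⟨N, ?_⟩
  have h1 : (maximalIdeal B).map (Ideal.Quotient.mk ((maximalIdeal A).map (algebraMap A B))) ≤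
      Ideal.jacobson ⊥ := by
    rw [Ideal.map_le_iff_le_comap]
    intro x hx
    rw [Ideal.mem_comap, Ideal.mem_jacobson_bot]
    intro y
    obtain ⟨y, rfl⟩ := Ideal.Quotient.mk_surjective y
    rw [← map_mul, ← map_one (Ideal.Quotient.mk ((maximalIdeal A).map (algebraMap A B))),
      ← map_add]
    apply IsUnit.map
    rw [← IsLocalRing.jacobson_eq_maximalIdeal ⊥ bot_ne_top, Ideal.mem_jacobson_bot] at hx
    exact hx y
  intro b hb
  rw [← Ideal.Quotient.eq_zero_iff_mem]
  have h2 : Ideal.Quotient.mk ((maximalIdeal A).map (algebraMap A B)) b ∈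
      (Ideal.jacobson (⊥ : Ideal (B ⧸ (maximalIdeal A).map (algebraMap A B)))) ^ N := by
    refine Ideal.pow_right_mono h1 N ?_
    rw [← Ideal.map_pow]
    exact Ideal.mem_map_of_mem _ hb
  rw [hN] at h2
  simpa using h2

omit [IsNoetherianRing B] [IsLocalRing B] [IsLocalHom (algebraMap A B)] in
theorem isNoetherianRing_tensor [Algebra.EssFiniteType A B] :
    IsNoetherianRing (B ⊗[A] AdicCompletion (maximalIdeal A) A) := by
  haveI : IsNoetherianRing (AdicCompletion (maximalIdeal A) A) :=
    Groth.Agent.S0543.result A (maximalIdeal A)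
  haveI : Algebra.EssFiniteType (AdicCompletion (maximalIdeal A) A)
    (AdicCompletion (maximalIdeal A) A ⊗[A] B) := inferInstance
  haveI : IsNoetherianRing (AdicCompletion (maximalIdeal A) A ⊗[A] B) :=
    Algebra.EssFiniteType.isNoetherianRing (AdicCompletion (maximalIdeal A) A) _
  exact isNoetherianRing_of_ringEquiv _
    (Algebra.TensorProduct.comm A (AdicCompletion (maximalIdeal A) A) B).toRingEquiv

/-- **Local theorem**, quasi-finite form. -/
theorem isRegularHom_cpl_of_quasiFinite [Algebra.EssFiniteType A B] [Algebra.QuasiFinite A B]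
    (h : CAlg.IsRegularHom A (AdicCompletion (maximalIdeal A) A)) :
    CAlg.IsRegularHom B (EGA4.Cpl B) := by
  haveI := isNoetherianRing_tensor A B
  have H2 := finite_quot_of_quasiFinite A B
  obtain ⟨N, hN⟩ := exists_pow_le A B H2
  exact isRegularHom_cpl A B N hN H2 h

end Local

section Global

attribute [local instance] Localization.AtPrime.algebraOfLiesOver

variable (R R' : Type u) [CommRing R] [CommRing R'] [IsNoetherianRing R] [IsNoetherianRing R']
  [Algebra R R'] [Algebra.FiniteType R R'] (p' : Ideal R') [p'.IsPrime]
  [Algebra.QuasiFiniteAt R p']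

theorem main
    (h : CAlg.IsRegularHom (Localization.AtPrime (p'.under R))
      (AdicCompletion (maximalIdeal (Localization.AtPrime (p'.under R)))
        (Localization.AtPrime (p'.under R)))) :
    CAlg.IsRegularHom (Localization.AtPrime p')
      (AdicCompletion (maximalIdeal (Localization.AtPrime p')) (Localization.AtPrime p')) := by
  haveI : IsNoetherianRing (Localization.AtPrime (p'.under R)) :=
    IsLocalization.isNoetherianRing (p'.under R).primeCompl _ inferInstance
  haveI : IsNoetherianRing (Localization.AtPrime p') :=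
    IsLocalization.isNoetherianRing p'.primeCompl _ inferInstance
  haveI : IsLocalHom (algebraMap (Localization.AtPrime (p'.under R)) (Localization.AtPrime p')) :=
    Localization.isLocalHom_localRingHom _ _ _ _
  haveI : Algebra.EssFiniteType R (Localization.AtPrime p') :=
    Algebra.EssFiniteType.comp R R' _
  haveI : Algebra.EssFiniteType (Localization.AtPrime (p'.under R)) (Localization.AtPrime p') :=
    Algebra.EssFiniteType.of_comp R _ _
  haveI : Algebra.QuasiFinite (Localization.AtPrime (p'.under R)) (Localization.AtPrime p') :=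
    Algebra.QuasiFinite.of_restrictScalars R _ _
  exact isRegularHom_cpl_of_quasiFinite (Localization.AtPrime (p'.under R))
    (Localization.AtPrime p') h

end Global

end Groth.Agent.H3.QFFormal
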