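import Mathlib
import Groth.Prelude.Def_EGA4b
import Groth.Prelude.Def_Found
import Groth.Agent.Lib.Helper3.CA.QFFormal3

/-!
# Formal fibres under quasi-finite local homomorphisms (helper3), part 4: pointwise version.
-/

set_option autoImplicit false
universe u
open IsLocalRing TensorProduct

namespace Groth.Agent.H3.QFFormal

open Groth.Agent.H8.GNorm Groth.Agent.H8.NHB Groth.Agent.H3.RegHomBC Groth.Agent.H3.PHom

section BC

variable (A B A' : Type u) [CommRing A] [CommRing B] [CommRing A'] [Algebra A B] [Algebra A A']

/-- pointwise version of `RegHomBC.isRegularRing_fibre_baseChange` -/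
theorem isRegularRing_fibre_baseChange_pt (p' : Ideal A') [p'.IsPrime]
    (hgr : CAlg.IsGeometricallyRegular (p'.under A).ResidueField ((p'.under A).Fiber B))
    [IsNoetherianRing ((p'.under A).Fiber B)] [IsNoetherianRing (p'.Fiber (A' ⊗[A] B))]
    (K : Type u) [Field K] [Algebra p'.ResidueField K] (hfin : Module.Finite p'.ResidueField K) :
    IsRegularRing (K ⊗[p'.ResidueField] p'.Fiber (A' ⊗[A] B)) := by
  have hlies : p'.LiesOver (p'.under A) := ⟨rfl⟩
  let ρ : (p'.under A).ResidueField →+* p'.ResidueField :=
    Ideal.ResidueField.map (p'.under A) p' (algebraMap A A') hlies.over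
  let _ : Algebra A' K :=
    ((algebraMap p'.ResidueField K).comp (algebraMap A' p'.ResidueField)).toAlgebra
  have : IsScalarTower A' p'.ResidueField K := IsScalarTower.of_algebraMap_eq fun _ => rfl
  let _ : Algebra A K := ((algebraMap A' K).comp (algebraMap A A')).toAlgebra
  have : IsScalarTower A A' K := IsScalarTower.of_algebraMap_eq fun _ => rfl
  let _ : Algebra (p'.under A).ResidueField K := ((algebraMap p'.ResidueField K).comp ρ).toAlgebra
  have : IsScalarTower A (p'.under A).ResidueField K := by
    refine IsScalarTower.of_algebraMap_eq fun a => ?_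
    show algebraMap p'.ResidueField K (algebraMap A' p'.ResidueField (algebraMap A A' a)) =
      algebraMap p'.ResidueField K (ρ (algebraMap A (p'.under A).ResidueField a))
    congr 1
    exact (Ideal.ResidueField.map_algebraMap (p'.under A) p' (algebraMap A A') hlies.over a).symm
  let e : K ⊗[p'.ResidueField] p'.Fiber (A' ⊗[A] B) ≃+*
      K ⊗[(p'.under A).ResidueField] (p'.under A).Fiber B :=
    (isoBC A B A' p' K).trans (isoF A B (p'.under A) K).symm
  have := hfin
  have : IsNoetherianRing (K ⊗[p'.ResidueField] p'.Fiber (A' ⊗[A] B)) :=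
    isNoetherianRing_tensor_finite _ _ _
  have : IsNoetherianRing (K ⊗[(p'.under A).ResidueField] (p'.under A).Fiber B) :=
    isNoetherianRing_of_ringEquiv (K ⊗[p'.ResidueField] p'.Fiber (A' ⊗[A] B)) e
  have := H5.NG.isRegularRing_baseChange_of_isGeometricallyRegular (p'.under A).ResidueField
    ((p'.under A).Fiber B) K hgr
  exact IsRegularRing.of_ringEquiv
    (R := K ⊗[(p'.under A).ResidueField] (p'.under A).Fiber B) e.symm

end BC

/-- pointwise transfer along an algebra isomorphism -/
theorem isGeomReg_fibre_of_algEquiv (R S S' : Type u) [CommRing R] [CommRing S] [CommRing S']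
    [Algebra R S] [Algebra R S'] (e : S ≃ₐ[R] S') (p : Ideal R) [p.IsPrime]
    (h : CAlg.IsGeometricallyRegular p.ResidueField (p.Fiber S)) :
    CAlg.IsGeometricallyRegular p.ResidueField (p.Fiber S') := by
  intro K _ _ hfin
  let ep : p.Fiber S ≃ₐ[p.ResidueField] p.Fiber S' :=
    Algebra.TensorProduct.congr (AlgEquiv.refl : p.ResidueField ≃ₐ[p.ResidueField] p.ResidueField) e
  have := h K hfin
  let eK : K ⊗[p.ResidueField] p.Fiber S ≃ₐ[K] K ⊗[p.ResidueField] p.Fiber S' :=
    Algebra.TensorProduct.congr (AlgEquiv.refl : K ≃ₐ[K] K) ep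
  exact IsRegularRing.of_ringEquiv (R := K ⊗[p.ResidueField] p.Fiber S) eK.toRingEquiv

section Local

variable (A B : Type u) [CommRing A] [CommRing B] [IsNoetherianRing A]
  [IsNoetherianRing B] [IsLocalRing A] [IsLocalRing B] [Algebra A B] [IsLocalHom (algebraMap A B)]
  [IsNoetherianRing (B ⊗[A] AdicCompletion (maximalIdeal A) A)]
  (L : Type u) [CommRing L] [Algebra (B ⊗[A] AdicCompletion (maximalIdeal A) A) L]
  [IsLocalization.AtPrime L (nn A B)] [Algebra B L]
  [IsScalarTower B (B ⊗[A] AdicCompletion (maximalIdeal A) A) L]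

theorem isGeomReg_fibre_loc (Q' : Ideal B) [Q'.IsPrime]
    (hgr : CAlg.IsGeometricallyRegular (Q'.under A).ResidueField
      ((Q'.under A).Fiber (AdicCompletion (maximalIdeal A) A))) :
    CAlg.IsGeometricallyRegular Q'.ResidueField (Q'.Fiber L) := by
  intro K _ _ hfin
  haveI : IsNoetherianRing (AdicCompletion (maximalIdeal A) A) :=
    Groth.Agent.S0543.result A (maximalIdeal A)
  haveI : IsNoetherianRing ((Q'.under A).Fiber (AdicCompletion (maximalIdeal A) A)) :=
    isNoetherianRing_fiber A _ _
  haveI : IsNoetherianRing (Q'.Fiber (B ⊗[A] AdicCompletion (maximalIdeal A) A)) :=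
    isNoetherianRing_fiber B _ _
  have key := isRegularRing_fibre_baseChange_pt A (AdicCompletion (maximalIdeal A) A) B Q' hgr K hfin
  obtain ⟨_, hloc⟩ := isLocalization_fiber B (B ⊗[A] AdicCompletion (maximalIdeal A) A) Q' K
    (nn A B).primeCompl L
  exact @H1.Reg.isRegularRing_of_isLocalization _ _ key _ _ _ _ hloc

theorem isGeomReg_formalFibre (N : ℕ)
    (hN : maximalIdeal B ^ N ≤ (maximalIdeal A).map (algebraMap A B))
    (H2 : Module.Finite A (B ⧸ (maximalIdeal A).map (algebraMap A B)))
    (Q' : Ideal B) [Q'.IsPrime]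
    (hgr : CAlg.IsGeometricallyRegular (Q'.under A).ResidueField
      ((Q'.under A).Fiber (AdicCompletion (maximalIdeal A) A))) :
    CAlg.IsGeometricallyRegular Q'.ResidueField (Q'.Fiber (EGA4.Cpl B)) := by
  obtain ⟨e⟩ := exists_algEquiv A B (Localization.AtPrime (nn A B)) N hN H2
  exact isGeomReg_fibre_of_algEquiv B (Localization.AtPrime (nn A B)) (EGA4.Cpl B) e Q'
    (isGeomReg_fibre_loc A B (Localization.AtPrime (nn A B)) Q' hgr)

end Local

section Local2

variable (A B : Type u) [CommRing A] [CommRing B] [IsNoetherianRing A]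
  [IsNoetherianRing B] [IsLocalRing A] [IsLocalRing B] [Algebra A B] [IsLocalHom (algebraMap A B)]

theorem isGeomReg_formalFibre_of_quasiFinite [Algebra.EssFiniteType A B] [Algebra.QuasiFinite A B]
    (Q' : Ideal B) [Q'.IsPrime]
    (hgr : CAlg.IsGeometricallyRegular (Q'.under A).ResidueField
      ((Q'.under A).Fiber (AdicCompletion (maximalIdeal A) A))) :
    CAlg.IsGeometricallyRegular Q'.ResidueField (Q'.Fiber (EGA4.Cpl B)) := by
  haveI := isNoetherianRing_tensor A B
  have H2 := finite_quot_of_quasiFinite A B
  obtain ⟨N, hN⟩ := exists_pow_le A B H2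
  exact isGeomReg_formalFibre A B N hN H2 Q' hgr

end Local2

section Global

attribute [local instance] Localization.AtPrime.algebraOfLiesOver

variable (R R' : Type u) [CommRing R] [CommRing R'] [IsNoetherianRing R] [IsNoetherianRing R']
  [Algebra R R'] [Algebra.FiniteType R R'] (p' : Ideal R') [p'.IsPrime]
  [Algebra.QuasiFiniteAt R p']

theorem main_pt (Q' : Ideal (Localization.AtPrime p')) [Q'.IsPrime]
    (Q : Ideal (Localization.AtPrime (p'.under R))) [Q.IsPrime]
    (hQ : Ideal.comap (algebraMap R (Localization.AtPrime (p'.under R))) Q =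
      Ideal.comap (algebraMap R (Localization.AtPrime p')) Q')
    (h : CAlg.IsGeometricallyRegular Q.ResidueField
      (EGA4.formalFibre (Localization.AtPrime (p'.under R)) Q)) :
    CAlg.IsGeometricallyRegular Q'.ResidueField
      (EGA4.formalFibre (Localization.AtPrime p') Q') := by
  haveI : IsNoetherianRing (Localization.AtPrime (p'.under R)) :=
    IsLocalization.isNoetherianRing (p'.under R).primeCompl _ inferInstance
  haveI : IsNoetherianRing (Localization.AtPrime p') :=
    IsLocalization.isNoetherianRing p'.primeCompl _ inferInstance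
  haveI : IsLocalHom (algebraMap (Localization.AtPrime (p'.under R)) (Localization.AtPrime p')) :=
    Localization.isLocalHom_localRingHom _ _ _ _
  haveI : Algebra.EssFiniteType R (Localization.AtPrime p') :=
    Algebra.EssFiniteType.comp R R' _
  haveI : Algebra.EssFiniteType (Localization.AtPrime (p'.under R)) (Localization.AtPrime p') :=
    Algebra.EssFiniteType.of_comp R _ _
  haveI : Algebra.QuasiFinite (Localization.AtPrime (p'.under R)) (Localization.AtPrime p') :=
    Algebra.QuasiFinite.of_restrictScalars R _ _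
  have hQ' : Q = Q'.under (Localization.AtPrime (p'.under R)) := by
    have h1 : (Q'.under (Localization.AtPrime (p'.under R))).under R = Q'.under R :=
      Ideal.under_under _
    have h2 : Q.under R = Q'.under R := hQ
    rw [← IsLocalization.map_under (p'.under R).primeCompl (Localization.AtPrime (p'.under R)) Q,
      h2, ← h1, IsLocalization.map_under (p'.under R).primeCompl]
  subst hQ'
  exact isGeomReg_formalFibre_of_quasiFinite (Localization.AtPrime (p'.under R))
    (Localization.AtPrime p') Q' h

end Global

end Groth.Agent.H3.QFFormal
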