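import Mathlib
import Groth.Prelude.Def_Found
import Groth.Prelude.Def_EGA4b
import Groth.Agent.Lib.Helper3.CA.GRingFF1
import Groth.Agent.Lib.Helper3.CA.QFFormal4

/-!
# G-rings via finite free algebras (helper3), part 2: local models of `S ⊗[R] (R_P)^`
-/

set_option autoImplicit false
universe u
open TensorProduct IsLocalRing

namespace Groth.Agent.H3.GRingFF

/-- `B ⊗[A] E` is the localization of `S ⊗[R] E` at the image of `M`, for `A`, `B`
localizations of `R`, `S`. -/
theorem exists_isLocalization_tensor_left (R S A B E : Type u) [CommRing R] [CommRing S]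
    [CommRing A] [CommRing B] [CommRing E] [Algebra R S] [Algebra R A] [Algebra S B]
    [Algebra A B] [Algebra R B] [IsScalarTower R S B] [IsScalarTower R A B]
    [Algebra A E] [Algebra R E] [IsScalarTower R A E]
    (M₀ : Submonoid R) [IsLocalization M₀ A] (M : Submonoid S) [IsLocalization M B] :
    ∃ (f : (S ⊗[R] E) →+* (B ⊗[A] E)),
      (∀ s : S, f (s ⊗ₜ 1) = (algebraMap S B s) ⊗ₜ 1) ∧
      @IsLocalization _ _ (Algebra.algebraMapSubmonoid (S ⊗[R] E) M) (B ⊗[A] E) _
        f.toAlgebra := by
  let l₁ : S ⊗[R] E →ₐ[R] B ⊗[R] E :=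
    Algebra.TensorProduct.map (IsScalarTower.toAlgHom R S B) (AlgHom.id R E)
  letI alg1 : Algebra (S ⊗[R] E) (B ⊗[R] E) := l₁.toRingHom.toAlgebra
  have hmap : ∀ x, algebraMap (S ⊗[R] E) (B ⊗[R] E) x = l₁ x := fun _ => rfl
  haveI : IsScalarTower S (S ⊗[R] E) (B ⊗[R] E) := by
    refine IsScalarTower.of_algebraMap_eq fun s => ?_
    rw [hmap, Algebra.TensorProduct.algebraMap_apply, Algebra.TensorProduct.algebraMap_apply]
    simp [l₁]
  have H : (algebraMap (S ⊗[R] E) (B ⊗[R] E)).comp
      (Algebra.TensorProduct.includeRight : E →ₐ[R] S ⊗[R] E).toRingHom =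
      (Algebra.TensorProduct.includeRight : E →ₐ[R] B ⊗[R] E).toRingHom := by
    ext x
    simp [hmap, l₁]
  have h1 : IsLocalization (Algebra.algebraMapSubmonoid (S ⊗[R] E) M) (B ⊗[R] E) :=
    IsLocalization.tensorProduct_tensorProduct R E M B H
  let e : B ⊗[A] E ≃ₐ[A] B ⊗[R] E := IsLocalization.algebraTensorEquiv M₀ A B E
  letI alg2 : Algebra (S ⊗[R] E) (B ⊗[A] E) :=
    (e.symm.toRingEquiv.toRingHom.comp (algebraMap (S ⊗[R] E) (B ⊗[R] E))).toAlgebra
  let e' : (B ⊗[R] E) ≃ₐ[S ⊗[R] E] (B ⊗[A] E) :=
    AlgEquiv.ofRingEquiv (f := e.symm.toRingEquiv) (fun x => rfl)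
  refine ⟨e.symm.toRingEquiv.toRingHom.comp (algebraMap (S ⊗[R] E) (B ⊗[R] E)), fun s => ?_,
    IsLocalization.isLocalization_of_algEquiv _ e'⟩
  show e.symm (l₁ (s ⊗ₜ 1)) = _
  rw [AlgEquiv.symm_apply_eq]
  simp [l₁, e, IsLocalization.algebraTensorEquiv, Algebra.TensorProduct.equivOfCompatibleSMul]


section Model

attribute [local instance] Localization.AtPrime.algebraOfLiesOver

open Groth.Agent.H3.QFFormal

variable (R S : Type u) [CommRing R] [CommRing S] [IsNoetherianRing R] [IsNoetherianRing S]
  [Algebra R S] [Module.Finite R S]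
  (P : Ideal R) [P.IsPrime] (Q : Ideal S) [Q.IsPrime] [Q.LiesOver P]

local notation "A₀" => Localization.AtPrime P
local notation "B₀" => Localization.AtPrime Q
local notation "Â₀" => AdicCompletion (maximalIdeal (Localization.AtPrime P)) (Localization.AtPrime P)

/-- `S ⊗[R] (R_P)^` -/
abbrev WW : Type u := S ⊗[R] AdicCompletion (maximalIdeal (Localization.AtPrime P))
  (Localization.AtPrime P)

/-- `S_Q ⊗[R_P] (R_P)^` -/
abbrev BB : Type u := Localization.AtPrime Q ⊗[Localization.AtPrime P]
  AdicCompletion (maximalIdeal (Localization.AtPrime P)) (Localization.AtPrime P)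

local notation "W" => WW R S P
local notation "B'" => BB R S P Q

set_option maxSynthPendingDepth 3 in
/-- The local ring of `S ⊗[R] (R_P)^` at a prime over `Q` is the completion of `S_Q`. -/
theorem exists_local_model (N : Ideal W) [N.IsPrime] (hN : N.comap (algebraMap S W) = Q) :
    ∃ (L : Type u) (_ : CommRing L) (_ : Algebra W L) (_ : Algebra B₀ L) (_ : Algebra S L)
      (_ : IsScalarTower S W L) (_ : IsScalarTower S B₀ L),
      IsLocalization.AtPrime L N ∧ Nonempty (L ≃ₐ[B₀] EGA4.Cpl B₀) := by
  haveI : IsNoetherianRing A₀ := IsLocalization.isNoetherianRing P.primeCompl _ inferInstance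
  haveI : IsNoetherianRing B₀ := IsLocalization.isNoetherianRing Q.primeCompl _ inferInstance
  haveI : Algebra.EssFiniteType R B₀ := Algebra.EssFiniteType.comp R S _
  haveI : Algebra.EssFiniteType A₀ B₀ := Algebra.EssFiniteType.of_comp R _ _
  haveI : Algebra.QuasiFinite A₀ B₀ := Algebra.QuasiFinite.of_restrictScalars R _ _
  haveI := isNoetherianRing_tensor A₀ B₀
  have H2 := finite_quot_of_quasiFinite A₀ B₀
  obtain ⟨N₀, hN₀⟩ := exists_pow_le A₀ B₀ H2
  obtain ⟨e⟩ := exists_algEquiv A₀ B₀ (Localization.AtPrime (nn A₀ B₀)) N₀ hN₀ H2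
  obtain ⟨f, hform, hloc⟩ := exists_isLocalization_tensor_left R S A₀ B₀ Â₀ P.primeCompl
    Q.primeCompl
  letI alg : Algebra W B' := f.toAlgebra
  have hfeq : algebraMap W B' = f := rfl
  have hform : ∀ s : S, algebraMap W B' (s ⊗ₜ 1) = (algebraMap S B₀ s) ⊗ₜ 1 := by
    intro s
    rw [hfeq]
    exact hform s
  have htower : IsScalarTower S W (Localization.AtPrime (nn A₀ B₀)) := by
    refine IsScalarTower.of_algebraMap_eq fun s => ?_
    rw [IsScalarTower.algebraMap_apply W B' (Localization.AtPrime (nn A₀ B₀)),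
      Algebra.TensorProduct.algebraMap_apply, Algebra.algebraMap_self, RingHom.id_apply, hform,
      IsScalarTower.algebraMap_apply S B' (Localization.AtPrime (nn A₀ B₀)),
      Algebra.TensorProduct.algebraMap_apply]
  refine ⟨Localization.AtPrime (nn A₀ B₀), inferInstance, inferInstance, inferInstance,
    inferInstance, htower, inferInstance, ?_, ⟨e⟩⟩
  have h1 : IsLocalization.AtPrime (Localization.AtPrime (nn A₀ B₀))
      ((nn A₀ B₀).comap (algebraMap W B')) :=
    IsLocalization.isLocalization_isLocalization_atPrime_isLocalization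
      (Algebra.algebraMapSubmonoid W Q.primeCompl) (Localization.AtPrime (nn A₀ B₀)) (nn A₀ B₀)
  have hd : Disjoint (Algebra.algebraMapSubmonoid W Q.primeCompl : Set W) (N : Set W) := by
    rw [Set.disjoint_left]
    rintro x ⟨s, hs, rfl⟩ hx
    apply hs
    rw [← hN]
    exact hx
  have hprime : (N.map (algebraMap W B')).IsPrime :=
    IsLocalization.isPrime_of_isPrime_disjoint _ _ N inferInstance hd
  have hcomap : (N.map (algebraMap W B')).comap (algebraMap W B') = N :=
    IsLocalization.under_map_of_isPrime_disjoint _ _ inferInstance hd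
  have hle : nn A₀ B₀ ≤ N.map (algebraMap W B') := by
    have hmB : maximalIdeal B₀ = Q.map (algebraMap S B₀) :=
      (Localization.AtPrime.map_eq_maximalIdeal).symm
    show (maximalIdeal B₀).map (algebraMap B₀ B') ≤ _
    rw [hmB, Ideal.map_map, Ideal.map_le_iff_le_comap]
    intro s hs
    rw [Ideal.mem_comap, RingHom.comp_apply, Algebra.TensorProduct.algebraMap_apply,
      Algebra.algebraMap_self, RingHom.id_apply, ← hform]
    apply Ideal.mem_map_of_mem
    have : algebraMap S W s ∈ N := by
      rw [← hN] at hs; exact hs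
    rwa [Algebra.TensorProduct.algebraMap_apply, Algebra.algebraMap_self,
      RingHom.id_apply] at this
  have heq : nn A₀ B₀ = N.map (algebraMap W B') :=
    (inferInstance : (nn A₀ B₀).IsMaximal).eq_of_le hprime.ne_top hle
  have h2 : (nn A₀ B₀).comap (algebraMap W B') = N := by rw [heq, hcomap]
  exact h2 ▸ h1

omit [IsNoetherianRing S] [Q.IsPrime] [Q.LiesOver P] in
theorem isIntegral_includeRight :
    (Algebra.TensorProduct.includeRight : Â₀ →ₐ[R] W).toRingHom.IsIntegral := by
  set j : Â₀ →+* W := (Algebra.TensorProduct.includeRight : Â₀ →ₐ[R] W).toRingHom with hj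
  have hcomp : j.comp (algebraMap R Â₀) = algebraMap R W := by
    ext r
    exact (Algebra.TensorProduct.includeRight : Â₀ →ₐ[R] W).commutes r
  intro w
  induction w using TensorProduct.induction_on with
  | zero => exact j.isIntegralElem_zero
  | tmul s x =>
    have h1 : (s ⊗ₜ[R] x : W) = (s ⊗ₜ[R] (1 : Â₀)) * j x := by
      show _ = (s ⊗ₜ[R] (1 : Â₀)) * ((1 : S) ⊗ₜ[R] x)
      rw [Algebra.TensorProduct.tmul_mul_tmul, mul_one, one_mul]
    rw [h1]
    refine RingHom.IsIntegralElem.mul j ?_ j.isIntegralElem_map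
    obtain ⟨p, hp, hps⟩ := Algebra.IsIntegral.isIntegral (R := R) s
    refine ⟨p.map (algebraMap R Â₀), hp.map _, ?_⟩
    rw [Polynomial.eval₂_map, hcomp, IsScalarTower.algebraMap_eq R S W]
    have : (s ⊗ₜ[R] (1 : Â₀) : W) = algebraMap S W s := by
      rw [Algebra.TensorProduct.algebraMap_apply, Algebra.algebraMap_self, RingHom.id_apply]
    rw [this, ← Polynomial.hom_eval₂, hps, map_zero]
  | add x y hx hy => exact RingHom.IsIntegralElem.add j hx hy

omit [IsNoetherianRing S] [Q.IsPrime] [Q.LiesOver P] in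
/-- a maximal ideal of `S ⊗[R] (R_P)^` lies over `P` -/
theorem comap_comap_eq_of_isMaximal (N : Ideal W) [N.IsMaximal] :
    (N.comap (algebraMap S W)).comap (algebraMap R S) = P := by
  haveI : IsNoetherianRing A₀ := IsLocalization.isNoetherianRing P.primeCompl _ inferInstance
  set j : Â₀ →+* W := (Algebra.TensorProduct.includeRight : Â₀ →ₐ[R] W).toRingHom with hj
  have hcomp : j.comp (algebraMap R Â₀) = algebraMap R W := by
    ext r
    exact (Algebra.TensorProduct.includeRight : Â₀ →ₐ[R] W).commutes r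
  have hmax : (N.comap j).IsMaximal :=
    Ideal.isMaximal_comap_of_isIntegral_of_isMaximal' j (isIntegral_includeRight R S P) N
  have h1 : N.comap j = maximalIdeal Â₀ := IsLocalRing.eq_maximalIdeal hmax
  have h2 : (maximalIdeal Â₀).comap (algebraMap A₀ Â₀) = maximalIdeal A₀ :=
    ((IsLocalRing.local_hom_TFAE (algebraMap A₀ Â₀)).out 0 4).mp
      (inferInstance : IsLocalHom (algebraMap A₀ Â₀))
  have h3 : (maximalIdeal A₀).comap (algebraMap R A₀) = P :=
    Localization.AtPrime.under_maximalIdeal
  rw [Ideal.comap_comap, ← IsScalarTower.algebraMap_eq R S W, ← hcomp, ← Ideal.comap_comap, h1,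
    IsScalarTower.algebraMap_eq R A₀ Â₀, ← Ideal.comap_comap, h2, h3]

end Model

section Key

open Groth.Agent.H3.PHom

variable (R S : Type u) [CommRing R] [CommRing S] [IsNoetherianRing R]
  [Algebra R S] [Module.Finite R S] (P : Ideal R) [P.IsPrime]

attribute [local instance] Localization.AtPrime.algebraOfLiesOver

theorem isNoetherianRing_WW : IsNoetherianRing (WW R S P) := by
  haveI : IsNoetherianRing (Localization.AtPrime P) :=
    IsLocalization.isNoetherianRing P.primeCompl _ inferInstance
  haveI : IsNoetherianRing (AdicCompletion (maximalIdeal (Localization.AtPrime P))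
      (Localization.AtPrime P)) := Groth.Agent.S0543.result _ _
  haveI : IsNoetherianRing (AdicCompletion (maximalIdeal (Localization.AtPrime P))
      (Localization.AtPrime P) ⊗[R] S) :=
    Algebra.FiniteType.isNoetherianRing (AdicCompletion (maximalIdeal (Localization.AtPrime P))
      (Localization.AtPrime P)) _
  exact isNoetherianRing_of_ringEquiv _
    (Algebra.TensorProduct.comm R (AdicCompletion (maximalIdeal (Localization.AtPrime P))
      (Localization.AtPrime P)) S).toRingEquiv

/-- **Key claim**: the fibres of `S → S ⊗[R] (R_P)^` are regular as soon as the formal fibres of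
the local rings of `S` are. -/
theorem isRegularRing_fiber_tensor
    (H : ∀ (Q : Ideal S) [Q.IsPrime] (p' : Ideal (Localization.AtPrime Q)) [p'.IsPrime],
      IsRegularRing (EGA4.formalFibre (Localization.AtPrime Q) p'))
    (q : Ideal S) [q.IsPrime] : IsRegularRing (q.Fiber (WW R S P)) := by
  haveI : IsNoetherianRing S := Algebra.FiniteType.isNoetherianRing R S
  haveI : IsNoetherianRing (WW R S P) := isNoetherianRing_WW R S P
  refine fiber_of_forall_maximal localProp_reg S (WW R S P) q ?_
  intro N hN hqN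
  haveI hQprime : (N.comap (algebraMap S (WW R S P))).IsPrime := Ideal.comap_isPrime _ _
  haveI : (N.comap (algebraMap S (WW R S P))).LiesOver P :=
    ⟨(comap_comap_eq_of_isMaximal R S P N).symm⟩
  obtain ⟨L, _, _, _, _, ht1, ht2, hloc, ⟨e⟩⟩ :=
    exists_local_model R S P (N.comap (algebraMap S (WW R S P))) N rfl
  refine ⟨L, inferInstance, inferInstance, inferInstance, ht1, hloc, ?_⟩
  obtain ⟨Q', hQ', ⟨e2⟩⟩ := exists_fiber_equiv_localization S (N.comap (algebraMap S (WW R S P)))
    (EGA4.Cpl (Localization.AtPrime (N.comap (algebraMap S (WW R S P))))) q hqN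
  have h1 : IsRegularRing (Q'.Fiber (EGA4.Cpl (Localization.AtPrime
      (N.comap (algebraMap S (WW R S P)))))) := H _ Q'
  have h2 : IsRegularRing (q.Fiber (EGA4.Cpl (Localization.AtPrime
      (N.comap (algebraMap S (WW R S P)))))) := IsRegularRing.of_ringEquiv e2.symm
  let e3 : q.Fiber L ≃ₐ[q.ResidueField] q.Fiber (EGA4.Cpl (Localization.AtPrime
      (N.comap (algebraMap S (WW R S P))))) :=
    Algebra.TensorProduct.congr AlgEquiv.refl (e.restrictScalars S)
  exact IsRegularRing.of_ringEquiv e3.symm.toRingEquiv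

end Key

end Groth.Agent.H3.GRingFF
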