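import Mathlib
import Groth.Prelude.Def_Found
import Groth.Prelude.Def_EGA4b
import Groth.Agent.Lib.Helper3.CA.GRingFF2
import Groth.Agent.Lib.Helper3.CA.ResExt1
import Groth.Agent.Lib.Helper3.CA.QFFormal3

/-!
# G-rings via finite free algebras (helper3), part 3: the characterization
-/

set_option autoImplicit false
universe u
open TensorProduct IsLocalRing

namespace Groth.Agent.H3.GRingFF

open Groth.Agent.H8.NHB Groth.Agent.H3.RegHomBC

section StepA

variable (R : Type u) [CommRing R] [IsNoetherianRing R]

/-- the hypothesis: formal fibres of local rings of finite free algebras are regular -/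
def HFF : Prop :=
  ∀ (S : Type u) [CommRing S] [Algebra R S] [Module.Finite R S] [Module.Free R S]
    (q : Ideal S) [q.IsPrime] (p : Ideal (Localization.AtPrime q)) [p.IsPrime],
    IsRegularRing (EGA4.formalFibre (Localization.AtPrime q) p)

variable {R}

set_option maxSynthPendingDepth 3 in
theorem isRegularRing_of_HFF (H : HFF R) (P : Ideal R) [P.IsPrime]
    (p : Ideal (Localization.AtPrime P)) [p.IsPrime] (K : Type u) [Field K]
    [Algebra p.ResidueField K] (hfin : Module.Finite p.ResidueField K) :
    IsRegularRing (K ⊗[p.ResidueField] p.Fiber (AdicCompletion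
      (maximalIdeal (Localization.AtPrime P)) (Localization.AtPrime P))) := by
  set A₀ := Localization.AtPrime P with hA₀
  set p₀ : Ideal R := p.comap (algebraMap R A₀) with hp₀
  haveI : p₀.IsPrime := Ideal.comap_isPrime _ _
  let ρ : p₀.ResidueField →+* p.ResidueField :=
    Ideal.ResidueField.map p₀ p (algebraMap R A₀) rfl
  have hρ : Function.Bijective ρ :=
    (RingHom.surjectiveOnStalks_of_isLocalization P.primeCompl A₀).residueFieldMap_bijective
      p₀ p rfl
  letI : Algebra A₀ K :=
    ((algebraMap p.ResidueField K).comp (algebraMap A₀ p.ResidueField)).toAlgebra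
  haveI : IsScalarTower A₀ p.ResidueField K := IsScalarTower.of_algebraMap_eq fun _ => rfl
  letI : Algebra R K := ((algebraMap A₀ K).comp (algebraMap R A₀)).toAlgebra
  haveI : IsScalarTower R A₀ K := IsScalarTower.of_algebraMap_eq fun _ => rfl
  letI : Algebra p₀.ResidueField K := ((algebraMap p.ResidueField K).comp ρ).toAlgebra
  haveI : IsScalarTower R p₀.ResidueField K := by
    refine IsScalarTower.of_algebraMap_eq fun r => ?_
    show algebraMap p.ResidueField K (algebraMap A₀ p.ResidueField (algebraMap R A₀ r)) =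
      algebraMap p.ResidueField K (ρ (algebraMap R p₀.ResidueField r))
    congr 1
    exact (Ideal.ResidueField.map_algebraMap p₀ p (algebraMap R A₀) rfl r).symm
  haveI : Module.Finite p₀.ResidueField K := by
    letI : Algebra p₀.ResidueField p.ResidueField := ρ.toAlgebra
    haveI : IsScalarTower p₀.ResidueField p.ResidueField K :=
      IsScalarTower.of_algebraMap_eq fun _ => rfl
    haveI : Module.Finite p₀.ResidueField p.ResidueField :=
      Module.Finite.of_surjective (Algebra.linearMap p₀.ResidueField p.ResidueField) hρ.2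
    exact Module.Finite.trans p.ResidueField K
  obtain ⟨S, _, _, hSfin, hSfree, hprime, e, he⟩ := ResExt.main R p₀ K
  set q := p₀.map (algebraMap R S) with hq
  -- the isomorphism chain
  let e₁ : K ⊗[p.ResidueField] p.Fiber (AdicCompletion (maximalIdeal A₀) A₀) ≃+*
      K ⊗[A₀] AdicCompletion (maximalIdeal A₀) A₀ :=
    isoF A₀ (AdicCompletion (maximalIdeal A₀) A₀) p K
  let e₂ : K ⊗[A₀] AdicCompletion (maximalIdeal A₀) A₀ ≃ₐ[A₀]
      K ⊗[R] AdicCompletion (maximalIdeal A₀) A₀ :=
    IsLocalization.algebraTensorEquiv P.primeCompl A₀ K (AdicCompletion (maximalIdeal A₀) A₀)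
  let e' : q.ResidueField ≃ₐ[R] K := AlgEquiv.ofRingEquiv (f := e) he
  let e₃ : q.ResidueField ⊗[R] AdicCompletion (maximalIdeal A₀) A₀ ≃ₐ[R]
      K ⊗[R] AdicCompletion (maximalIdeal A₀) A₀ :=
    Algebra.TensorProduct.congr e' AlgEquiv.refl
  let e₄ : q.Fiber (WW R S P) ≃ₐ[q.ResidueField]
      q.ResidueField ⊗[R] AdicCompletion (maximalIdeal A₀) A₀ :=
    Algebra.TensorProduct.cancelBaseChange R S q.ResidueField q.ResidueField
      (AdicCompletion (maximalIdeal A₀) A₀)
  have hreg : IsRegularRing (q.Fiber (WW R S P)) :=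
    isRegularRing_fiber_tensor R S P (fun Q _ p' _ => H S Q p') q
  exact IsRegularRing.of_ringEquiv
    ((e₄.toRingEquiv.trans e₃.toRingEquiv).trans (e₂.symm.toRingEquiv.trans e₁.symm))

end StepA

section Main

variable (R : Type u) [CommRing R] [IsNoetherianRing R]

instance (p : Ideal R) [p.IsPrime] : IsNoetherianRing (Localization.AtPrime p) :=
  IsLocalization.isNoetherianRing p.primeCompl _ inferInstance

theorem isGRing_of_HFF (H : HFF R) : CAlg.IsGRing R := by
  refine ⟨inferInstance, fun P _ => ⟨AdicCompletion.flat_of_isNoetherian _, fun p _ => ?_⟩⟩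
  haveI : IsNoetherianRing (AdicCompletion (maximalIdeal (Localization.AtPrime P))
      (Localization.AtPrime P)) := Groth.Agent.S0543.result _ _
  exact ⟨isNoetherianRing_fiber _ _ p, fun K _ _ hfin => isRegularRing_of_HFF H P p K hfin⟩

attribute [local instance] Localization.AtPrime.algebraOfLiesOver in
theorem HFF_of_isGRing (hG : CAlg.IsGRing R) : HFF R := by
  intro S _ _ _ _ q _ p _
  haveI : IsNoetherianRing S := Algebra.FiniteType.isNoetherianRing R S
  have h1 := QFFormal.main R S q (hG.2 (q.under R))
  exact isRegularRing_of_isGeometricallyRegular _ _ (h1.2 p).2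

theorem main : CAlg.IsGRing R ↔ HFF R := ⟨HFF_of_isGRing R, isGRing_of_HFF R⟩

end Main

end Groth.Agent.H3.GRingFF
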