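import Mathlib
import Groth.Prelude.Def_EGA4b
import Groth.Agent.Lib.Helper3.CA.FormalFibreQuot
import Groth.Agent.Lib.Helper3.CA.GRingTransfer
import Groth.Agent.Lib.Helper3.CA.RegHomBC
import Groth.Agent.Lib.Helper3.CA.RegHomLoc
import Groth.Agent.Lib.Helper3.CA.QFFormal4

/-! Helper3: G-rings via generic formal fibres of local quotients (S9257). -/

set_option autoImplicit false
universe u
open TensorProduct IsLocalRing

namespace Groth.Agent.H3.GRingGeneric

open Groth.Agent.H3.RegHomBC Groth.Agent.H8.NHB

/-- The fibre over `p' ∩ A` of `B` from the fibre over `p'` of `A' ⊗ B`, for `A → A'` surjective. -/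
theorem isGeomReg_fiber_under_of_surjective (A A' B : Type u) [CommRing A] [CommRing A']
    [CommRing B] [Algebra A A'] [Algebra A B] (hs : Function.Surjective (algebraMap A A'))
    (p' : Ideal A') [p'.IsPrime]
    (h : CAlg.IsGeometricallyRegular p'.ResidueField (p'.Fiber (A' ⊗[A] B))) :
    CAlg.IsGeometricallyRegular (p'.under A).ResidueField ((p'.under A).Fiber B) := by
  intro K _ _ hfin
  have hlies : p'.LiesOver (p'.under A) := ⟨rfl⟩
  let ρ : (p'.under A).ResidueField →+* p'.ResidueField :=
    Ideal.ResidueField.map (p'.under A) p' (algebraMap A A') hlies.over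
  have H : Function.Bijective ρ :=
    (RingHom.surjectiveOnStalks_of_surjective hs).residueFieldMap_bijective _ _ _
  let σ : p'.ResidueField ≃+* (p'.under A).ResidueField := (RingEquiv.ofBijective ρ H).symm
  have hσρ : ∀ x, σ (ρ x) = x := fun x => (RingEquiv.ofBijective ρ H).symm_apply_apply x
  letI : Algebra p'.ResidueField K :=
    ((algebraMap (p'.under A).ResidueField K).comp σ.toRingHom).toAlgebra
  letI : Algebra (p'.under A).ResidueField p'.ResidueField := ρ.toAlgebra
  haveI : IsScalarTower (p'.under A).ResidueField p'.ResidueField K := by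
    refine IsScalarTower.of_algebraMap_eq fun x => ?_
    show algebraMap (p'.under A).ResidueField K x =
      algebraMap (p'.under A).ResidueField K (σ (ρ x))
    rw [hσρ]
  haveI := hfin
  haveI hfin' : Module.Finite p'.ResidueField K :=
    Module.Finite.of_restrictScalars_finite (p'.under A).ResidueField p'.ResidueField K
  letI : Algebra A' K :=
    ((algebraMap p'.ResidueField K).comp (algebraMap A' p'.ResidueField)).toAlgebra
  haveI : IsScalarTower A' p'.ResidueField K := IsScalarTower.of_algebraMap_eq fun _ => rfl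
  letI : Algebra A K := ((algebraMap A' K).comp (algebraMap A A')).toAlgebra
  haveI : IsScalarTower A A' K := IsScalarTower.of_algebraMap_eq fun _ => rfl
  haveI : IsScalarTower A (p'.under A).ResidueField K := by
    refine IsScalarTower.of_algebraMap_eq fun a => ?_
    show algebraMap (p'.under A).ResidueField K
        (σ (algebraMap A' p'.ResidueField (algebraMap A A' a))) =
      algebraMap (p'.under A).ResidueField K (algebraMap A (p'.under A).ResidueField a)
    congr 1
    rw [← Ideal.ResidueField.map_algebraMap (p'.under A) p' (algebraMap A A') hlies.over a]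
    exact hσρ _
  have h1 : IsRegularRing (K ⊗[p'.ResidueField] p'.Fiber (A' ⊗[A] B)) := h K hfin'
  let e : K ⊗[p'.ResidueField] p'.Fiber (A' ⊗[A] B) ≃+*
      K ⊗[(p'.under A).ResidueField] (p'.under A).Fiber B :=
    (isoBC A B A' p' K).trans (isoF A B (p'.under A) K).symm
  exact IsRegularRing.of_ringEquiv (R := K ⊗[p'.ResidueField] p'.Fiber (A' ⊗[A] B)) e

theorem cast_ideal {A B : Type u} [CommRing A] [CommRing B] [Algebra A B] {q q' : Ideal A}
    [hq : q.IsPrime] [hq' : q'.IsPrime] (h : q = q')
    (H : CAlg.IsGeometricallyRegular q.ResidueField (q.Fiber B)) :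
    CAlg.IsGeometricallyRegular q'.ResidueField (q'.Fiber B) := by
  subst h; exact H

section Phi

variable (A A' : Type u) [CommRing A] [CommRing A'] [IsNoetherianRing A] [IsLocalRing A]
  [IsLocalRing A'] [Algebra A A']

/-- `A' ⊗_A Â ≃ (A')^` for a surjection of local rings `A → A'`. -/
theorem nonempty_cplTensorEquiv (hs : Function.Surjective (algebraMap A A')) :
    Nonempty ((A' ⊗[A] EGA4.Cpl A) ≃ₐ[A'] EGA4.Cpl A') := by
  let I : Ideal A := RingHom.ker (algebraMap A A')
  let e₁ : (A ⧸ I) ≃ₐ[A] A' := Ideal.quotientKerAlgEquivOfSurjective (f := Algebra.ofId A A') hs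
  haveI : IsLocalRing (A ⧸ I) := e₁.symm.toRingEquiv.isLocalRing
  let e₂ : (A ⧸ I) ⊗[A] EGA4.Cpl A ≃ₐ[A] A' ⊗[A] EGA4.Cpl A :=
    Algebra.TensorProduct.congr e₁ AlgEquiv.refl
  let e₃ := Groth.Agent.H3.FFQ.cplQuotAlgEquiv A I
  let e₄ : EGA4.Cpl (A ⧸ I) ≃+* EGA4.Cpl A' := Groth.Agent.H3.GRing.cplEquiv e₁.toRingEquiv
  let Φ : (A' ⊗[A] EGA4.Cpl A) ≃+* EGA4.Cpl A' :=
    e₂.symm.toRingEquiv.trans (e₃.toRingEquiv.trans e₄)
  refine ⟨AlgEquiv.ofRingEquiv (f := Φ) ?_⟩
  intro a'
  obtain ⟨a, rfl⟩ := hs a'
  have h1 : e₂.symm (algebraMap A' (A' ⊗[A] EGA4.Cpl A) (algebraMap A A' a)) =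
      algebraMap (A ⧸ I) ((A ⧸ I) ⊗[A] EGA4.Cpl A) (Ideal.Quotient.mk I a) := by
    rw [AlgEquiv.symm_apply_eq]
    show _ = Algebra.TensorProduct.congr e₁ AlgEquiv.refl ((Ideal.Quotient.mk I a) ⊗ₜ[A] 1)
    rw [Algebra.TensorProduct.congr_apply, Algebra.TensorProduct.map_tmul]
    rfl
  show e₄ (e₃ (e₂.symm (algebraMap A' (A' ⊗[A] EGA4.Cpl A) (algebraMap A A' a)))) = _
  rw [h1, AlgEquiv.commutes, Groth.Agent.H3.GRing.cplEquiv_of]
  rfl

end Phi


section Main

variable (R : Type u) [CommRing R] [IsNoetherianRing R]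

theorem surjective_localRingHom (q : Ideal R) (P : Ideal (R ⧸ q)) [P.IsPrime] (p : Ideal R)
    [p.IsPrime] (hIJ : p = P.comap (Ideal.Quotient.mk q)) :
    Function.Surjective (Localization.localRingHom p P (Ideal.Quotient.mk q) hIJ) := by
  subst hIJ
  exact RingHom.surjective_localRingHom_of_surjective _ Ideal.Quotient.mk_surjective P

instance (q : Ideal R) (P : Ideal (R ⧸ q)) [P.IsPrime] :
    IsNoetherianRing (Localization.AtPrime P) :=
  IsLocalization.isNoetherianRing P.primeCompl _ inferInstance

instance (p : Ideal R) [p.IsPrime] : IsNoetherianRing (Localization.AtPrime p) :=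
  IsLocalization.isNoetherianRing p.primeCompl _ inferInstance

/-- regularity of the completion map passes from `R_p` to `(R/q)_P`. -/
theorem isRegularHom_cpl_quot_loc (q : Ideal R) (P : Ideal (R ⧸ q)) [P.IsPrime] (p : Ideal R)
    [p.IsPrime] (hIJ : p = P.comap (Ideal.Quotient.mk q))
    (h : CAlg.IsRegularHom (Localization.AtPrime p) (EGA4.Cpl (Localization.AtPrime p))) :
    CAlg.IsRegularHom (Localization.AtPrime P) (EGA4.Cpl (Localization.AtPrime P)) := by
  letI : Algebra (Localization.AtPrime p) (Localization.AtPrime P) :=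
    (Localization.localRingHom p P (Ideal.Quotient.mk q) hIJ).toAlgebra
  have hs : Function.Surjective (algebraMap (Localization.AtPrime p) (Localization.AtPrime P)) :=
    surjective_localRingHom R q P p hIJ
  obtain ⟨Φ⟩ := nonempty_cplTensorEquiv (Localization.AtPrime p) (Localization.AtPrime P) hs
  haveI : IsNoetherianRing (EGA4.Cpl (Localization.AtPrime P)) :=
    Groth.Agent.S0543.result _ _
  haveI : IsNoetherianRing (EGA4.Cpl (Localization.AtPrime p)) :=
    Groth.Agent.S0543.result _ _
  haveI : IsNoetherianRing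
      (Localization.AtPrime P ⊗[Localization.AtPrime p] EGA4.Cpl (Localization.AtPrime p)) :=
    isNoetherianRing_of_ringEquiv _ Φ.symm.toRingEquiv
  exact isRegularHom_of_algEquiv _ _ _ Φ
    (isRegularHom_baseChange_of_isNoetherianRing (Localization.AtPrime p)
      (EGA4.Cpl (Localization.AtPrime p)) (Localization.AtPrime P) h)

/-- the fibre of `R_p → R_p^` at `q'` from the generic formal fibre of `(R/q)_P`. -/
theorem isGeomReg_fiber_of_generic (p : Ideal R) [p.IsPrime] (q' : Ideal (Localization.AtPrime p))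
    [q'.IsPrime]
    (H : ∀ (q : Ideal R) [q.IsPrime] (P : Ideal (R ⧸ q)) [P.IsPrime],
        CAlg.IsGeometricallyRegular (⊥ : Ideal (Localization.AtPrime P)).ResidueField
          (EGA4.formalFibre (Localization.AtPrime P) (⊥ : Ideal (Localization.AtPrime P)))) :
    CAlg.IsGeometricallyRegular q'.ResidueField (q'.Fiber (EGA4.Cpl (Localization.AtPrime p))) := by
  set q : Ideal R := q'.comap (algebraMap R (Localization.AtPrime p)) with hq
  haveI hqprime : q.IsPrime := Ideal.IsPrime.comap _
  have hqp : q ≤ p := by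
    have h1 : q' ≤ maximalIdeal (Localization.AtPrime p) := le_maximalIdeal (Ideal.IsPrime.ne_top ‹_›)
    have h2 : q ≤ (maximalIdeal (Localization.AtPrime p)).under R :=
      Ideal.comap_mono (f := algebraMap R (Localization.AtPrime p)) h1
    rwa [Localization.AtPrime.under_maximalIdeal] at h2
  have hker : RingHom.ker (Ideal.Quotient.mk q) ≤ p := by rw [Ideal.mk_ker]; exact hqp
  haveI hPprime : (p.map (Ideal.Quotient.mk q)).IsPrime :=
    Ideal.map_isPrime_of_surjective Ideal.Quotient.mk_surjective hker
  set P : Ideal (R ⧸ q) := p.map (Ideal.Quotient.mk q) with hP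
  have hIJ : p = P.comap (Ideal.Quotient.mk q) := by
    rw [hP, Ideal.comap_map_of_surjective _ Ideal.Quotient.mk_surjective, ← RingHom.ker_eq_comap_bot,
      Ideal.mk_ker, sup_eq_left.mpr hqp]
  letI : Algebra (Localization.AtPrime p) (Localization.AtPrime P) :=
    (Localization.localRingHom p P (Ideal.Quotient.mk q) hIJ).toAlgebra
  have hs : Function.Surjective (algebraMap (Localization.AtPrime p) (Localization.AtPrime P)) :=
    surjective_localRingHom R q P p hIJ
  obtain ⟨Φ⟩ := nonempty_cplTensorEquiv (Localization.AtPrime p) (Localization.AtPrime P) hs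
  have h1 := H q P
  haveI : IsDomain (R ⧸ q) := inferInstance
  haveI : IsDomain (Localization.AtPrime P) := inferInstance
  haveI : (⊥ : Ideal (Localization.AtPrime P)).IsPrime := inferInstance
  letI : CommRing (Localization.AtPrime P ⊗[Localization.AtPrime p] EGA4.Cpl (Localization.AtPrime p)) := inferInstance
  letI : Algebra (Localization.AtPrime P) (Localization.AtPrime P ⊗[Localization.AtPrime p] EGA4.Cpl (Localization.AtPrime p)) := inferInstance
  have h2 : CAlg.IsGeometricallyRegular (⊥ : Ideal (Localization.AtPrime P)).ResidueField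
      ((⊥ : Ideal (Localization.AtPrime P)).Fiber
        (Localization.AtPrime P ⊗[Localization.AtPrime p] EGA4.Cpl (Localization.AtPrime p))) :=
    Groth.Agent.H3.QFFormal.isGeomReg_fibre_of_algEquiv _ _ _ Φ.symm _ h1
  have h3 := isGeomReg_fiber_under_of_surjective (Localization.AtPrime p) (Localization.AtPrime P)
    (EGA4.Cpl (Localization.AtPrime p)) hs ⊥ h2
  refine cast_ideal ?_ h3
  -- the kernel of `R_p → (R/q)_P` is `q'`
  have hinj : Function.Injective (algebraMap (R ⧸ q) (Localization.AtPrime P)) :=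
    IsLocalization.injective _ P.primeCompl_le_nonZeroDivisors
  have h4 : ((⊥ : Ideal (Localization.AtPrime P)).under (Localization.AtPrime p)).comap
      (algebraMap R (Localization.AtPrime p)) = q := by
    ext r
    simp only [Ideal.mem_comap, Ideal.under_def, Ideal.mem_bot]
    show Localization.localRingHom p P (Ideal.Quotient.mk q) hIJ
      (algebraMap R (Localization.AtPrime p) r) = 0 ↔ _
    rw [Localization.localRingHom_to_map, map_eq_zero_iff _ hinj, Ideal.Quotient.eq_zero_iff_mem]
  have h4' : Ideal.under R ((⊥ : Ideal (Localization.AtPrime P)).under (Localization.AtPrime p)) = q :=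
    h4
  rw [← IsLocalization.map_under p.primeCompl (Localization.AtPrime p)
    ((⊥ : Ideal (Localization.AtPrime P)).under (Localization.AtPrime p)), h4', hq]
  exact IsLocalization.map_under p.primeCompl (Localization.AtPrime p) q'

theorem main : CAlg.IsGRing R ↔
    ∀ (q : Ideal R) [q.IsPrime] (P : Ideal (R ⧸ q)) [P.IsPrime],
      CAlg.IsGeometricallyRegular (⊥ : Ideal (Localization.AtPrime P)).ResidueField
        (EGA4.formalFibre (Localization.AtPrime P) (⊥ : Ideal (Localization.AtPrime P))) := by
  constructor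
  · intro hG q _ P _
    have h1 := hG.2 (P.comap (Ideal.Quotient.mk q))
    have h2 := isRegularHom_cpl_quot_loc R q P (P.comap (Ideal.Quotient.mk q)) rfl h1
    exact (h2.2 ⊥).2
  · intro H
    refine ⟨inferInstance, fun p _ => ⟨AdicCompletion.flat_of_isNoetherian _, fun q' _ => ?_⟩⟩
    haveI : IsNoetherianRing (EGA4.Cpl (Localization.AtPrime p)) :=
      Groth.Agent.S0543.result _ _
    exact ⟨isNoetherianRing_fiber _ _ q', isGeomReg_fiber_of_generic R p q' H⟩

end Main

end Groth.Agent.H3.GRingGeneric
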