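import Mathlib
import Groth.Agent.Lib.Helper3.CA.GRingTransfer

/-! Helper3: G-schemes: all affine opens have G-ring coordinate rings. -/

set_option autoImplicit false
universe u
open AlgebraicGeometry

namespace Groth.Agent.H3.GRing

theorem gScheme_iff (X : Scheme.{u}) :
    (∀ x : X, ∃ U : X.Opens, x ∈ U ∧ IsAffineOpen U ∧ CAlg.IsGRing Γ(X, U)) ↔
      ∀ U : X.Opens, IsAffineOpen U → CAlg.IsGRing Γ(X, U) := by
  constructor
  · intro h W hW
    choose U hxU hU hG using h
    have hLN : IsLocallyNoetherian X := by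
      refine isLocallyNoetherian_of_affine_cover (S := fun x : X => (⟨U x, hU x⟩ : X.affineOpens))
        ?_ (fun x => (hG x).1)
      rw [eq_top_iff]
      intro x _
      exact TopologicalSpace.Opens.mem_iSup.mpr ⟨x, hxU x⟩
    have hNW : IsNoetherianRing Γ(X, W) := IsLocallyNoetherian.component_noetherian ⟨W, hW⟩
    refine isGRing_of_local Γ(X, W) fun P _ => ?_
    set y : PrimeSpectrum Γ(X, W) := ⟨P, inferInstance⟩ with hy
    set x : X := hW.fromSpec y with hx
    have hxW : x ∈ W := by
      have : x ∈ hW.fromSpec.opensRange := ⟨y, rfl⟩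
      rwa [hW.opensRange_fromSpec] at this
    have h1 := hW.isLocalization_stalk' y hxW
    have h2 := (hU x).isLocalization_stalk ⟨x, hxU x⟩
    refine ⟨Γ(X, U x), inferInstance, hG x, ((hU x).primeIdealOf ⟨x, hxU x⟩).asIdeal,
      inferInstance, ⟨?_⟩⟩
    letI a1 : Algebra Γ(X, W) (X.presheaf.stalk x) :=
      TopCat.Presheaf.algebra_section_stalk X.presheaf ⟨x, hxW⟩
    letI a2 : Algebra Γ(X, U x) (X.presheaf.stalk x) :=
      TopCat.Presheaf.algebra_section_stalk X.presheaf ⟨x, hxU x⟩
    have e1 : Localization.AtPrime P ≃+* X.presheaf.stalk x :=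
      (@IsLocalization.algEquiv _ _ P.primeCompl (Localization.AtPrime P) _ _ _
        (X.presheaf.stalk x) _ a1 h1).toRingEquiv
    have e2 : Localization.AtPrime ((hU x).primeIdealOf ⟨x, hxU x⟩).asIdeal ≃+*
        X.presheaf.stalk x :=
      (@IsLocalization.algEquiv _ _ ((hU x).primeIdealOf ⟨x, hxU x⟩).asIdeal.primeCompl
        (Localization.AtPrime ((hU x).primeIdealOf ⟨x, hxU x⟩).asIdeal) _ _ _
        (X.presheaf.stalk x) _ a2 h2).toRingEquiv
    exact e2.trans e1.symm
  · intro h x
    obtain ⟨W, hW, hxW, -⟩ := exists_isAffineOpen_mem_and_subset (X := X) (x := x)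
      (U := ⊤) trivial
    exact ⟨W, hxW, hW, h W hW⟩

end Groth.Agent.H3.GRing
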