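import Mathlib
import Groth.Agent.Lib.Helper1.GenFreeLoc

/-!
# The image of a morphism of finite type contains a neighbourhood of the generic point (helper3)
-/

set_option autoImplicit false

universe u

open TensorProduct

namespace Groth.Agent.H3.GenericImage

open Groth.Agent.H1.GenFree

/-- domain case: a finite type algebra over a domain whose spectrum hits the generic point has
image containing a nonempty basic open. -/
theorem exists_basicOpen_subset_range_of_isDomain {R S : Type u} [CommRing R] [IsDomain R]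
    [CommRing S] [Algebra R S] [Algebra.FiniteType R S]
    (h : (⟨⊥, Ideal.isPrime_bot⟩ : PrimeSpectrum R) ∈
      Set.range (PrimeSpectrum.comap (algebraMap R S))) :
    ∃ F : R, F ≠ 0 ∧ ∀ p : PrimeSpectrum R, F ∉ p.asIdeal →
      p ∈ Set.range (PrimeSpectrum.comap (algebraMap R S)) := by
  obtain ⟨f, hf, hgood⟩ := exists_good (R := R) (S := S) (M := S) 1 one_ne_zero
  obtain ⟨F, hF⟩ : ∃ F : R, F = 1 * f := ⟨_, rfl⟩
  rw [← hF] at hf hgood
  refine ⟨F, hf, ?_⟩
  have hfree : Module.Free (Localization.Away F) (Localization.Away F ⊗[R] S) :=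
    hgood.free_tensor_self
  -- nontriviality
  let p0 : PrimeSpectrum R := ⟨⊥, Ideal.isPrime_bot⟩
  have hnt0 : Nontrivial (p0.asIdeal.ResidueField ⊗[R] S) :=
    (PrimeSpectrum.nontrivial_iff_mem_rangeComap p0).2 h
  have hunit : ∀ y : Submonoid.powers F, IsUnit (algebraMap R p0.asIdeal.ResidueField y) := by
    rintro ⟨_, n, rfl⟩
    rw [map_pow]
    refine IsUnit.pow n ?_
    rw [isUnit_iff_ne_zero]
    intro h0
    have : F ∈ p0.asIdeal := by
      rw [← Ideal.algebraMap_residueField_eq_zero]; exact h0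
    exact hf ((Ideal.mem_bot).1 this)
  let g : Localization.Away F →ₐ[R] p0.asIdeal.ResidueField :=
    IsLocalization.liftAlgHom (M := Submonoid.powers F) (f := Algebra.ofId R _) hunit
  let G : Localization.Away F ⊗[R] S →ₐ[R] p0.asIdeal.ResidueField ⊗[R] S :=
    Algebra.TensorProduct.map g (AlgHom.id R S)
  have hnt : Nontrivial (Localization.Away F ⊗[R] S) := RingHom.domain_nontrivial G.toRingHom
  have hff : Module.FaithfullyFlat (Localization.Away F) (Localization.Away F ⊗[R] S) :=
    inferInstance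
  intro p hFp
  -- the prime of the localization
  have hdisj : Disjoint (Submonoid.powers F : Set R) (p.asIdeal : Set R) := by
    rw [Set.disjoint_left]
    rintro _ ⟨n, rfl⟩ hn
    exact hFp (p.isPrime.mem_of_pow_mem n hn)
  let P : PrimeSpectrum (Localization.Away F) :=
    ⟨p.asIdeal.map (algebraMap R (Localization.Away F)),
      IsLocalization.isPrime_of_isPrime_disjoint (Submonoid.powers F) _ _ p.isPrime hdisj⟩
  have hP : P.asIdeal.comap (algebraMap R (Localization.Away F)) = p.asIdeal :=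
    IsLocalization.comap_map_of_isPrime_disjoint (Submonoid.powers F) _ p.isPrime hdisj
  obtain ⟨Q, hQ⟩ := PrimeSpectrum.comap_surjective_of_faithfullyFlat
    (A := Localization.Away F) (B := Localization.Away F ⊗[R] S) P
  refine ⟨PrimeSpectrum.comap (Algebra.TensorProduct.includeRight :
    S →ₐ[R] Localization.Away F ⊗[R] S).toRingHom Q, ?_⟩
  apply PrimeSpectrum.ext
  rw [← PrimeSpectrum.comap_comp_apply]
  have hcomp : ((Algebra.TensorProduct.includeRight :
      S →ₐ[R] Localization.Away F ⊗[R] S).toRingHom).comp (algebraMap R S) =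
      (algebraMap (Localization.Away F) (Localization.Away F ⊗[R] S)).comp
        (algebraMap R (Localization.Away F)) := by
    ext r
    simp only [RingHom.comp_apply, AlgHom.toRingHom_eq_coe, RingHom.coe_coe,
      Algebra.TensorProduct.includeRight_apply, Algebra.TensorProduct.algebraMap_apply]
    rw [Algebra.algebraMap_eq_smul_one r, Algebra.algebraMap_eq_smul_one r, Algebra.algebraMap_self,
      RingHom.id_apply, TensorProduct.smul_tmul]
  rw [hcomp, PrimeSpectrum.comap_comp_apply, hQ]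
  exact hP

end Groth.Agent.H3.GenericImage

namespace Groth.Agent.H3.GenericImage

open CategoryTheory AlgebraicGeometry

/-- general case: `A` with a generic point `𝔭`, `φ : A → B` of finite type hitting `𝔭`. -/
theorem exists_basicOpen_subset_range {A B : Type u} [CommRing A] [CommRing B] (φ : A →+* B)
    (hφ : φ.FiniteType) (𝔭 : PrimeSpectrum A) (hgen : ∀ p : PrimeSpectrum A, 𝔭 ≤ p)
    (h : 𝔭 ∈ Set.range (PrimeSpectrum.comap φ)) :
    ∃ F : A, F ∉ 𝔭.asIdeal ∧ ∀ p : PrimeSpectrum A, F ∉ p.asIdeal →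
      p ∈ Set.range (PrimeSpectrum.comap φ) := by
  have := 𝔭.isPrime
  let R := A ⧸ 𝔭.asIdeal
  let I : Ideal B := 𝔭.asIdeal.map φ
  let S := B ⧸ I
  let mkR : A →+* R := Ideal.Quotient.mk _
  let mkS : B →+* S := Ideal.Quotient.mk _
  let ψ : R →+* S := Ideal.quotientMap I φ Ideal.le_comap_map
  have hcomm : ψ.comp mkR = mkS.comp φ := Ideal.quotientMap_comp_mk _
  let _ : Algebra R S := ψ.toAlgebra
  have hft : Algebra.FiniteType R S := by
    have h1 : (mkS.comp φ).FiniteType :=
      (RingHom.FiniteType.of_surjective mkS Ideal.Quotient.mk_surjective).comp hφ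
    rw [← hcomm] at h1
    exact RingHom.FiniteType.of_comp_finiteType h1
  have hmkR : Function.Surjective mkR := Ideal.Quotient.mk_surjective
  have hmkS : Function.Surjective mkS := Ideal.Quotient.mk_surjective
  have hrangeR : ∀ p : PrimeSpectrum A, p ∈ Set.range (PrimeSpectrum.comap mkR) := by
    intro p
    rw [range_comap_of_surjective _ _ hmkR, PrimeSpectrum.mem_zeroLocus,
      Ideal.mk_ker]
    exact hgen p
  -- the generic point is hit
  have h0 : (⟨⊥, Ideal.isPrime_bot⟩ : PrimeSpectrum R) ∈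
      Set.range (PrimeSpectrum.comap (algebraMap R S)) := by
    obtain ⟨q, hq⟩ := h
    have hq' : q ∈ Set.range (PrimeSpectrum.comap mkS) := by
      rw [range_comap_of_surjective _ _ hmkS, PrimeSpectrum.mem_zeroLocus,
        Ideal.mk_ker]
      show 𝔭.asIdeal.map φ ≤ q.asIdeal
      rw [Ideal.map_le_iff_le_comap, ← hq]
      exact le_refl _
    obtain ⟨q', rfl⟩ := hq'
    refine ⟨q', ?_⟩
    apply (PrimeSpectrum.comap_injective_of_surjective mkR hmkR)
    show PrimeSpectrum.comap mkR (PrimeSpectrum.comap ψ q') = _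
    rw [← PrimeSpectrum.comap_comp_apply, hcomm, PrimeSpectrum.comap_comp_apply, hq]
    apply PrimeSpectrum.ext
    show 𝔭.asIdeal = Ideal.comap mkR ⊥
    rw [← RingHom.ker_eq_comap_bot, Ideal.mk_ker]
  obtain ⟨F', hF', hall⟩ := exists_basicOpen_subset_range_of_isDomain (R := R) (S := S) h0
  obtain ⟨F, rfl⟩ := hmkR F'
  refine ⟨F, fun hF => hF' ((Ideal.Quotient.eq_zero_iff_mem).2 hF), ?_⟩
  intro p hFp
  obtain ⟨p', rfl⟩ := hrangeR p
  have hFp' : mkR F ∉ p'.asIdeal := hFp
  obtain ⟨Q', hQ'⟩ := hall p' hFp'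
  refine ⟨PrimeSpectrum.comap mkS Q', ?_⟩
  rw [← PrimeSpectrum.comap_comp_apply, ← hcomm, PrimeSpectrum.comap_comp_apply]
  congr 1

/-- **The image of a morphism locally of finite type contains a neighbourhood of the generic point
as soon as it contains the generic point.** -/
theorem genericPoint_mem_interior_range {X Y : Scheme.{u}} (f : X ⟶ Y)
    [LocallyOfFiniteType f] [IrreducibleSpace Y] (h : genericPoint Y ∈ Set.range f.base) :
    genericPoint Y ∈ interior (Set.range f.base) := by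
  obtain ⟨x₀, hx₀⟩ := h
  obtain ⟨V, hV, hηV, -⟩ :=
    exists_isAffineOpen_mem_and_subset (x := genericPoint Y) (U := ⊤) (TopologicalSpace.Opens.mem_top _)
  have hx₀V : x₀ ∈ f ⁻¹ᵁ V := by
    show f.base x₀ ∈ V
    rw [hx₀]; exact hηV
  obtain ⟨U, hU, hx₀U, hUV⟩ := exists_isAffineOpen_mem_and_subset (x := x₀) (U := f ⁻¹ᵁ V) hx₀V
  let φ := f.appLE V U hUV
  have hφ : φ.hom.FiniteType := f.finiteType_appLE hV hU hUV
  have hfac : Spec.map φ ≫ hV.fromSpec = hU.fromSpec ≫ f :=
    IsAffineOpen.SpecMap_appLE_fromSpec f hV hU hUV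
  have hinj : Function.Injective hV.fromSpec.base :=
    hV.fromSpec.isOpenEmbedding.injective
  let 𝔭 : PrimeSpectrum Γ(Y, V) := hV.primeIdealOf ⟨genericPoint Y, hηV⟩
  have h𝔭 : hV.fromSpec.base 𝔭 = genericPoint Y := hV.fromSpec_primeIdealOf ⟨genericPoint Y, hηV⟩
  have hgen : ∀ p : PrimeSpectrum Γ(Y, V), 𝔭 ≤ p := by
    intro p
    rw [PrimeSpectrum.le_iff_specializes]
    have h1 : hV.fromSpec.base 𝔭 ⤳ hV.fromSpec.base p := by
      rw [h𝔭]; exact genericPoint_specializes _
    exact (hV.fromSpec.isOpenEmbedding.isInducing.specializes_iff).1 h1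
  have hmem : 𝔭 ∈ Set.range (PrimeSpectrum.comap φ.hom) := by
    let q₀ : PrimeSpectrum Γ(X, U) := hU.primeIdealOf ⟨x₀, hx₀U⟩
    have hq₀ : hU.fromSpec.base q₀ = x₀ := hU.fromSpec_primeIdealOf ⟨x₀, hx₀U⟩
    refine ⟨q₀, hinj ?_⟩
    have h2 : hV.fromSpec.base ((Spec.map φ).base q₀) = f.base (hU.fromSpec.base q₀) := by
      rw [← Scheme.Hom.comp_apply, ← Scheme.Hom.comp_apply, hfac]
    rw [h𝔭]
    exact h2.trans (by rw [hq₀, hx₀])
  obtain ⟨F, hF𝔭, hall⟩ := exists_basicOpen_subset_range φ.hom hφ 𝔭 hgen hmem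
  rw [mem_interior]
  refine ⟨(Y.basicOpen F : Set Y), ?_, (Y.basicOpen F).2, ?_⟩
  · intro y hy
    have hyV : y ∈ V := Y.basicOpen_le F hy
    let p : PrimeSpectrum Γ(Y, V) := hV.primeIdealOf ⟨y, hyV⟩
    have hp : hV.fromSpec.base p = y := hV.fromSpec_primeIdealOf ⟨y, hyV⟩
    have hpF : p ∈ PrimeSpectrum.basicOpen F := by
      rw [← hV.fromSpec_preimage_basicOpen]
      show hV.fromSpec.base p ∈ Y.basicOpen F
      rw [hp]; exact hy
    obtain ⟨q, hq⟩ := hall p hpF
    refine ⟨hU.fromSpec.base q, ?_⟩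
    rw [← hp, ← hq]
    have h2 : hV.fromSpec.base ((Spec.map φ).base q) = f.base (hU.fromSpec.base q) := by
      rw [← Scheme.Hom.comp_apply, ← Scheme.Hom.comp_apply, hfac]
    exact h2.symm
  · have : 𝔭 ∈ PrimeSpectrum.basicOpen F := hF𝔭
    rw [← hV.fromSpec_preimage_basicOpen] at this
    have h3 : hV.fromSpec.base 𝔭 ∈ Y.basicOpen F := this
    rw [h𝔭] at h3
    exact h3

end Groth.Agent.H3.GenericImage
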