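import Mathlib
import Groth.Agent.Lib.Helper7.Reg1
import Groth.Agent.Lib.Helper9.Misc.FixedReg

/-!
# A Noetherian filtered colimit of regular local rings is regular (helper3)

Abstract version: `R` is a Noetherian local ring, `S i` regular local rings with local homomorphisms
`g i : S i → R` which are jointly surjective and whose kernels are eventually killed by the
transition maps.
-/

set_option autoImplicit false

namespace Groth.Agent.H3.RegColim

open IsLocalRing

section Indep

variable {R : Type*} [CommRing R] [IsLocalRing R]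

/-- linear independence modulo `𝔪²` of a family of elements, in elementary terms -/
def IndepMod {ι : Type*} [Fintype ι] (x : ι → R) : Prop :=
  ∀ c : ι → R, ∑ k, c k * x k ∈ maximalIdeal R ^ 2 → ∀ k, c k ∈ maximalIdeal R

theorem IndepMod.comp {ι κ : Type*} [Fintype ι] [Fintype κ] {x : ι → R} (hx : IndepMod x)
    (e : κ ↪ ι) : IndepMod (x ∘ e) := by
  classical
  intro c hc k
  have hsum : ∑ i, Function.extend e c 0 i * x i = ∑ j, c j * (x ∘ e) j := by
    rw [← Finset.sum_subset (Finset.subset_univ (Finset.univ.map e))]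
    · rw [Finset.sum_map]
      refine Finset.sum_congr rfl fun j _ => ?_
      rw [e.injective.extend_apply]
      rfl
    · intro i _ hi
      have : ¬ ∃ j, e j = i := by
        rintro ⟨j, rfl⟩
        exact hi (Finset.mem_map_of_mem e (Finset.mem_univ j))
      rw [Function.extend_apply' _ _ _ this]
      simp
  have := hx (Function.extend e c 0) (hsum ▸ hc) (e k)
  rwa [e.injective.extend_apply] at this

variable [IsNoetherianRing R]

/-- a minimal system of generators of the maximal ideal is independent modulo `𝔪²` -/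
theorem exists_minimal_generators :
    ∃ x : Fin (maximalIdeal R).spanFinrank → R, (∀ k, x k ∈ maximalIdeal R) ∧
      Ideal.span (Set.range x) = maximalIdeal R ∧ IndepMod x := by
  classical
  obtain ⟨s, hs₁, hs₂⟩ := Submodule.FG.exists_span_finset_card_eq_spanFinrank
    (maximalIdeal R).fg_of_isNoetherianRing
  set d := (maximalIdeal R).spanFinrank with hd
  let e : Fin d ≃ s := (s.equivFinOfCardEq hs₁).symm
  let x : Fin d → R := fun k => (e k : R)
  have hrange : Set.range x = (s : Set R) := by
    ext y
    constructor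
    · rintro ⟨k, rfl⟩
      exact (e k).2
    · intro hy
      exact ⟨e.symm ⟨y, hy⟩, by simp [x]⟩
  have hspan : Ideal.span (Set.range x) = maximalIdeal R := by
    rw [hrange]
    exact hs₂
  have hmem : ∀ k, x k ∈ maximalIdeal R := fun k => by
    rw [← hspan]
    exact Ideal.subset_span ⟨k, rfl⟩
  refine ⟨x, hmem, hspan, ?_⟩
  intro c hc k0
  by_contra hk0
  have hunit : IsUnit (c k0) := by
    by_contra h
    exact hk0 ((mem_maximalIdeal _).mpr h)
  obtain ⟨u, hu⟩ := hunit
  -- `𝔪` is generated by the other generators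
  set s' : Finset R := (Finset.univ.erase k0).image x with hs'
  have hle : maximalIdeal R ≤ Ideal.span (s' : Set R) := by
    apply Submodule.le_of_le_smul_of_le_jacobson_bot (I := maximalIdeal R)
      (maximalIdeal R).fg_of_isNoetherianRing
      (IsLocalRing.jacobson_eq_maximalIdeal ⊥ bot_ne_top).ge
    rw [← hspan]
    apply Ideal.span_le.mpr
    rintro _ ⟨k, rfl⟩
    by_cases hk : k = k0
    · subst hk
      -- `x k0 = u⁻¹ (Σ - Σ_{k ≠ k0})`
      have h1 : ∑ k, c k * x k = c k * x k + ∑ j ∈ Finset.univ.erase k, c j * x j :=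
        (Finset.add_sum_erase Finset.univ (fun j => c j * x j) (Finset.mem_univ k)).symm
      have h2 : x k = (↑u⁻¹ : R) * (∑ k, c k * x k) -
          (↑u⁻¹ : R) * ∑ j ∈ Finset.univ.erase k, c j * x j := by
        rw [h1, mul_add, ← hu, ← mul_assoc, Units.inv_mul, one_mul]
        ring
      rw [h2]
      refine Submodule.sub_mem _ ?_ ?_
      · refine Submodule.mem_sup_right ?_
        rw [hspan, smul_eq_mul, ← pow_two]
        exact Ideal.mul_mem_left _ _ hc
      · refine Submodule.mem_sup_left (Ideal.mul_mem_left _ _ (Ideal.sum_mem _ fun j hj => ?_))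
        refine Ideal.mul_mem_left _ _ (Ideal.subset_span ?_)
        exact Finset.mem_coe.mpr (Finset.mem_image_of_mem x hj)
    · refine Submodule.mem_sup_left (Ideal.subset_span ?_)
      exact Finset.mem_coe.mpr
        (Finset.mem_image_of_mem x (Finset.mem_erase.mpr ⟨hk, Finset.mem_univ k⟩))
  have heq : Ideal.span (s' : Set R) = maximalIdeal R := by
    refine le_antisymm (Ideal.span_le.mpr ?_) hle
    intro y hy
    obtain ⟨k, -, rfl⟩ := Finset.mem_image.mp (Finset.mem_coe.mp hy)
    exact hmem k
  have hcard : s'.card ≤ d - 1 := by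
    refine Finset.card_image_le.trans ?_
    rw [Finset.card_erase_of_mem (Finset.mem_univ k0), Finset.card_univ, Fintype.card_fin]
  have hfr : (maximalIdeal R).spanFinrank ≤ s'.card := by
    have := Submodule.spanFinrank_span_le_ncard_of_finite (R := R) (s'.finite_toSet)
    rw [Set.ncard_coe_finset] at this
    have h3 : Submodule.span R (s' : Set R) = maximalIdeal R := heq
    rwa [h3] at this
  have hdpos : 0 < d := Fin.pos k0
  omega

end Indep

section LemmaA

variable {R S : Type*} [CommRing R] [IsLocalRing R] [CommRing S] [IsRegularLocalRing S]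

/-- lifts to a regular local ring of a family independent modulo `𝔪²` generate a prime ideal -/
theorem isPrime_span_of_indepMod (g : S →+* R) [IsLocalHom g] {ι : Type*} [Fintype ι]
    (x : ι → R) (hxm : ∀ k, x k ∈ maximalIdeal R) (hx : IndepMod x)
    (z : ι → S) (hz : ∀ k, g (z k) = x k) : (Ideal.span (Set.range z)).IsPrime := by
  have hzm : ∀ k, z k ∈ maximalIdeal S := by
    intro k
    rw [mem_maximalIdeal, mem_nonunits_iff]
    intro hu
    have := hu.map g
    rw [hz] at this
    exact (mem_maximalIdeal _).mp (hxm k) this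
  have hgm : ∀ a ∈ maximalIdeal S, g a ∈ maximalIdeal R := by
    intro a ha
    rw [mem_maximalIdeal, mem_nonunits_iff] at ha ⊢
    exact fun h => ha (isUnit_of_map_unit g a h)
  have hgm2 : ∀ a ∈ maximalIdeal S ^ 2, g a ∈ maximalIdeal R ^ 2 := by
    intro a ha
    have h1 : (maximalIdeal S ^ 2).map g ≤ maximalIdeal R ^ 2 := by
      rw [Ideal.map_pow]
      exact Ideal.pow_right_mono (Ideal.map_le_iff_le_comap.mpr hgm) 2
    exact h1 (Ideal.mem_map_of_mem g ha)
  have hJM : Ideal.span (Set.range z) ≤ maximalIdeal S := by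
    apply Ideal.span_le.mpr
    rintro _ ⟨k, rfl⟩
    exact hzm k
  have hJ2 : Ideal.span (Set.range z) ⊓ maximalIdeal S ^ 2 ≤
      maximalIdeal S * Ideal.span (Set.range z) := by
    rintro y ⟨hy1, hy2⟩
    obtain ⟨c, rfl⟩ := Ideal.mem_span_range_iff_exists_fun.mp hy1
    have h1 : ∑ k, g (c k) * x k ∈ maximalIdeal R ^ 2 := by
      have := hgm2 _ hy2
      rw [map_sum] at this
      simp only [map_mul, hz] at this
      exact this
    have h2 := hx (fun k => g (c k)) h1
    refine Ideal.sum_mem _ fun k _ => ?_
    refine Ideal.mul_mem_mul ?_ (Ideal.subset_span ⟨k, rfl⟩)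
    rw [mem_maximalIdeal, mem_nonunits_iff]
    intro hu
    exact (mem_maximalIdeal _).mp (h2 k) (hu.map g)
  haveI := Groth.Agent.H9.FixedReg.isRegularLocalRing_quotient _ hJM hJ2
  haveI := Groth.Agent.H7.Reg.isDomain (S ⧸ Ideal.span (Set.range z))
  exact (Ideal.Quotient.isDomain_iff_prime _).mp inferInstance

end LemmaA

end Groth.Agent.H3.RegColim
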