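import Mathlib
import Groth.Agent.Lib.Helper3.CA.RegColim1

/-!
# A Noetherian filtered colimit of regular local rings is regular, abstract form (helper3)
-/

set_option autoImplicit false

namespace Groth.Agent.H3.RegColim

open IsLocalRing

section Colim

variable {ι : Type*} [Preorder ι] [IsDirectedOrder ι] [Nonempty ι]
  {R : Type*} [CommRing R] [IsLocalRing R]
  {S : ι → Type*} [∀ i, CommRing (S i)] [∀ i, IsRegularLocalRing (S i)]
  (t : ∀ i j, i ≤ j → S i →+* S j) (g : ∀ i, S i →+* R) [∀ i, IsLocalHom (g i)]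
  (hcomp : ∀ i j (h : i ≤ j) (x : S i), g j (t i j h x) = g i x)
  (hsurj : ∀ r : R, ∃ i, ∃ x : S i, g i x = r)
  (hker : ∀ i (x : S i), g i x = 0 → ∃ j, ∃ h : i ≤ j, t i j h x = 0)

include hcomp hsurj in
/-- a finite family of elements of `R` comes from a common stage -/
theorem exists_stage {κ : Type*} [Finite κ] (r : κ → R) :
    ∃ i, ∃ z : κ → S i, ∀ k, g i (z k) = r k := by
  classical
  haveI := Fintype.ofFinite κ
  suffices h : ∀ s : Finset κ, ∃ i, ∃ z : κ → S i, ∀ k ∈ s, g i (z k) = r k by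
    obtain ⟨i, z, hz⟩ := h Finset.univ
    exact ⟨i, z, fun k => hz k (Finset.mem_univ k)⟩
  intro s
  induction s using Finset.induction_on with
  | empty => exact ⟨Classical.arbitrary ι, fun _ => 0, fun k hk => absurd hk (Finset.notMem_empty k)⟩
  | insert a s _ ih =>
    obtain ⟨i, z, hz⟩ := ih
    obtain ⟨i', y, hy⟩ := hsurj (r a)
    obtain ⟨j, hij, hi'j⟩ := exists_ge_ge i i'
    refine ⟨j, fun k => if k = a then t i' j hi'j y else t i j hij (z k), fun k hk => ?_⟩
    by_cases hka : k = a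
    · subst hka
      simp only [if_true]
      rw [hcomp, hy]
    · simp only [if_neg hka]
      rw [hcomp]
      exact hz k ((Finset.mem_insert.mp hk).resolve_left hka)

include hcomp hsurj hker in
/-- a family independent modulo `𝔪²` generates a prime ideal of the colimit -/
theorem isPrime_span_of_indepMod_colimit {κ : Type*} [Fintype κ]
    (x : κ → R) (hxm : ∀ k, x k ∈ maximalIdeal R) (hx : IndepMod x) :
    (Ideal.span (Set.range x)).IsPrime := by
  classical
  have hle : Ideal.span (Set.range x) ≤ maximalIdeal R := by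
    apply Ideal.span_le.mpr
    rintro _ ⟨k, rfl⟩
    exact hxm k
  refine ⟨fun h => (maximalIdeal.isMaximal R).ne_top (top_le_iff.mp (h ▸ hle)), ?_⟩
  intro a b hab
  obtain ⟨c, hc⟩ := Ideal.mem_span_range_iff_exists_fun.mp hab
  obtain ⟨i1, a', ha'⟩ := hsurj a
  obtain ⟨i2, b', hb'⟩ := hsurj b
  obtain ⟨i3, c', hc'⟩ := exists_stage t g hcomp hsurj c
  obtain ⟨i4, z, hz⟩ := exists_stage t g hcomp hsurj x
  obtain ⟨j1, h1, h2⟩ := exists_ge_ge i1 i2
  obtain ⟨j2, h3, h4⟩ := exists_ge_ge i3 i4
  obtain ⟨j, h5, h6⟩ := exists_ge_ge j1 j2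
  set a1 := t i1 j (h1.trans h5) a' with ha1
  set b1 := t i2 j (h2.trans h5) b' with hb1
  set c1 : κ → S j := fun k => t i3 j (h3.trans h6) (c' k) with hc1
  set z1 : κ → S j := fun k => t i4 j (h4.trans h6) (z k) with hz1
  have hga1 : g j a1 = a := by rw [ha1, hcomp, ha']
  have hgb1 : g j b1 = b := by rw [hb1, hcomp, hb']
  have hgc1 : ∀ k, g j (c1 k) = c k := fun k => by rw [hc1]; simp only; rw [hcomp, hc']
  have hgz1 : ∀ k, g j (z1 k) = x k := fun k => by rw [hz1]; simp only; rw [hcomp, hz]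
  have hw : g j (a1 * b1 - ∑ k, c1 k * z1 k) = 0 := by
    rw [map_sub, map_mul, map_sum, hga1, hgb1]
    simp only [map_mul, hgc1, hgz1]
    rw [hc, sub_self]
  obtain ⟨l, hjl, hl⟩ := hker j _ hw
  rw [map_sub, map_mul, map_sum, sub_eq_zero] at hl
  simp only [map_mul] at hl
  set Z : κ → S l := fun k => t j l hjl (z1 k) with hZ
  have hgZ : ∀ k, g l (Z k) = x k := fun k => by rw [hZ]; simp only; rw [hcomp, hgz1]
  haveI hprime : (Ideal.span (Set.range Z)).IsPrime :=
    Groth.Agent.H3.RegColim.isPrime_span_of_indepMod (g l) x hxm hx Z hgZ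
  have hmem : t j l hjl a1 * t j l hjl b1 ∈ Ideal.span (Set.range Z) := by
    rw [hl]
    exact Ideal.sum_mem _ fun k _ => Ideal.mul_mem_left _ _ (Ideal.subset_span ⟨k, rfl⟩)
  have key : ∀ y : S l, y ∈ Ideal.span (Set.range Z) → g l y ∈ Ideal.span (Set.range x) := by
    intro y hy
    obtain ⟨e, rfl⟩ := Ideal.mem_span_range_iff_exists_fun.mp hy
    rw [map_sum]
    refine Ideal.sum_mem _ fun k _ => ?_
    rw [map_mul, hgZ]
    exact Ideal.mul_mem_left _ _ (Ideal.subset_span ⟨k, rfl⟩)
  rcases hprime.mem_or_mem hmem with h | h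
  · left
    have := key _ h
    rwa [hcomp, hga1] at this
  · right
    have := key _ h
    rwa [hcomp, hgb1] at this

include hcomp hsurj hker in
/-- **A Noetherian filtered colimit of regular local rings is regular.** -/
theorem isRegularLocalRing_of_colimit [IsNoetherianRing R] : IsRegularLocalRing R := by
  classical
  obtain ⟨d, hd⟩ : ∃ d : ℕ, d = (maximalIdeal R).spanFinrank := ⟨_, rfl⟩
  obtain ⟨x, hxm, hspan, hx⟩ : ∃ x : Fin d → R, (∀ k, x k ∈ maximalIdeal R) ∧
      Ideal.span (Set.range x) = maximalIdeal R ∧ IndepMod x := by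
    subst hd
    exact exists_minimal_generators (R := R)
  -- the chain of primes
  let P : ∀ r : ℕ, r ≤ d → Ideal R := fun r hr => Ideal.span (Set.range (x ∘ Fin.castLE hr))
  have hP : ∀ r (hr : r ≤ d), (P r hr).IsPrime := fun r hr =>
    isPrime_span_of_indepMod_colimit t g hcomp hsurj hker _ (fun k => hxm _)
      (hx.comp (Fin.castLEEmb hr))
  have hlt : ∀ r (hr : r + 1 ≤ d), P r (Nat.le_of_succ_le hr) < P (r + 1) hr := by
    intro r hr
    have hle : P r (Nat.le_of_succ_le hr) ≤ P (r + 1) hr := by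
      apply Ideal.span_le.mpr
      rintro _ ⟨k, rfl⟩
      exact Ideal.subset_span ⟨k.castSucc, rfl⟩
    refine lt_of_le_of_ne hle fun heq => ?_
    have hmem : x (Fin.castLE hr (Fin.last r)) ∈ P r (Nat.le_of_succ_le hr) := by
      rw [heq]
      exact Ideal.subset_span ⟨Fin.last r, rfl⟩
    obtain ⟨c, hc⟩ := Ideal.mem_span_range_iff_exists_fun.mp hmem
    have hindep := hx.comp (Fin.castLEEmb hr)
    have h0 : ∑ k : Fin (r + 1), (Fin.snoc c (-1) : Fin (r + 1) → R) k *
        (x ∘ Fin.castLEEmb hr) k = 0 := by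
      rw [Fin.sum_univ_castSucc]
      simp only [Fin.snoc_castSucc, Fin.snoc_last, Function.comp_apply, Fin.castLEEmb_apply]
      have : ∀ k : Fin r, Fin.castLE hr k.castSucc = Fin.castLE (Nat.le_of_succ_le hr) k :=
        fun k => Fin.ext rfl
      simp only [this]
      have hc' : ∑ k : Fin r, c k * x (Fin.castLE (Nat.le_of_succ_le hr) k) =
          x (Fin.castLE hr (Fin.last r)) := hc
      rw [hc']
      ring
    have h1 := hindep (Fin.snoc c (-1)) (h0 ▸ Ideal.zero_mem _) (Fin.last r)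
    rw [Fin.snoc_last] at h1
    have : (1 : R) ∈ maximalIdeal R := by
      have := Ideal.neg_mem_iff (maximalIdeal R) |>.mp h1
      exact this
    exact (maximalIdeal.isMaximal R).ne_top ((Ideal.eq_top_iff_one _).mpr this)
  -- the series
  let series : LTSeries (PrimeSpectrum R) :=
    { length := d
      toFun := fun i => ⟨P i.val (Nat.le_of_lt_succ i.isLt), hP _ _⟩
      step := fun i => by
        show (⟨P _ _, _⟩ : PrimeSpectrum R) < ⟨P _ _, _⟩
        rw [← PrimeSpectrum.asIdeal_lt_asIdeal]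
        exact hlt i.val (Nat.succ_le_of_lt i.isLt) }
  apply IsRegularLocalRing.of_spanFinrank_maximalIdeal_le
  have := Order.LTSeries.length_le_krullDim series
  rw [← hd]
  exact this

end Colim

end Groth.Agent.H3.RegColim
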