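import Mathlib
import Groth.Agent.Lib.Helper3.CA.RegColim2

/-!
# A Noetherian direct limit of regular rings is regular (helper3)
-/

set_option autoImplicit false
universe u

namespace Groth.Agent.H3.RegColim

open IsLocalRing

section DL

variable {ι : Type u} [Preorder ι] [Nonempty ι] [IsDirectedOrder ι]
  (G : ι → Type u) [∀ i, CommRing (G i)]
  (f : ∀ i j, i ≤ j → G i →+* G j) [DirectedSystem G (fun i j h ↦ f i j h)]

/-- the canonical maps -/
noncomputable abbrev φ (i : ι) : G i →+* Ring.DirectLimit G (fun i j h ↦ f i j h) :=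
  Ring.DirectLimit.of G (fun i j h ↦ f i j h) i

theorem φ_f {i j : ι} (h : i ≤ j) (x : G i) : φ G f j (f i j h x) = φ G f i x :=
  Ring.DirectLimit.of_f h x

variable (p : Ideal (Ring.DirectLimit G (fun i j h ↦ f i j h))) [p.IsPrime]

/-- the contracted primes -/
noncomputable abbrev pc (i : ι) : Ideal (G i) := p.comap (φ G f i)

theorem pc_eq {i j : ι} (h : i ≤ j) : pc G f p i = (pc G f p j).comap (f i j h) := by
  ext x
  simp only [pc, Ideal.mem_comap]
  rw [φ_f]

/-- local rings of the stages -/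
noncomputable abbrev Sloc (i : ι) : Type u := Localization.AtPrime (pc G f p i)

/-- transition maps -/
noncomputable abbrev tloc (i j : ι) (h : i ≤ j) : Sloc G f p i →+* Sloc G f p j :=
  Localization.localRingHom (pc G f p i) (pc G f p j) (f i j h) (pc_eq G f p h)

/-- maps to the limit -/
noncomputable abbrev gloc (i : ι) : Sloc G f p i →+* Localization.AtPrime p :=
  Localization.localRingHom (pc G f p i) p (φ G f i) rfl

instance (i : ι) : IsLocalHom (gloc G f p i) := Localization.isLocalHom_localRingHom _ _ _ _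

theorem gloc_tloc (i j : ι) (h : i ≤ j) (x : Sloc G f p i) :
    gloc G f p j (tloc G f p i j h x) = gloc G f p i x := by
  obtain ⟨a, s, rfl⟩ := IsLocalization.exists_mk'_eq (pc G f p i).primeCompl x
  simp only [gloc, tloc, Localization.localRingHom_mk']
  rw [IsLocalization.mk'_eq_iff_eq]
  simp only [φ_f]

theorem gloc_surj (r : Localization.AtPrime p) : ∃ i, ∃ x : Sloc G f p i, gloc G f p i x = r := by
  obtain ⟨a, s, rfl⟩ := IsLocalization.exists_mk'_eq p.primeCompl r
  obtain ⟨i1, a', rfl⟩ := Ring.DirectLimit.exists_of a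
  obtain ⟨i2, s', hs'⟩ := Ring.DirectLimit.exists_of (s : Ring.DirectLimit G (fun i j h ↦ f i j h))
  obtain ⟨j, h1, h2⟩ := exists_ge_ge i1 i2
  have hs'' : f i2 j h2 s' ∈ (pc G f p j).primeCompl := by
    show ¬ (φ G f j (f i2 j h2 s') ∈ p)
    rw [φ_f]
    show ¬ (Ring.DirectLimit.of G (fun i j h ↦ f i j h) i2 s' ∈ p)
    rw [hs']
    exact s.2
  refine ⟨j, IsLocalization.mk' _ (f i1 j h1 a') ⟨_, hs''⟩, ?_⟩
  simp only [gloc, Localization.localRingHom_mk']
  rw [IsLocalization.mk'_eq_iff_eq]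
  simp only [φ_f]
  have : φ G f i2 s' = (s : Ring.DirectLimit G (fun i j h ↦ f i j h)) := hs'
  rw [this]

theorem gloc_ker (i : ι) (x : Sloc G f p i) (hx : gloc G f p i x = 0) :
    ∃ j, ∃ h : i ≤ j, tloc G f p i j h x = 0 := by
  obtain ⟨a, s, rfl⟩ := IsLocalization.exists_mk'_eq (pc G f p i).primeCompl x
  simp only [gloc, Localization.localRingHom_mk'] at hx
  rw [IsLocalization.mk'_eq_zero_iff] at hx
  obtain ⟨m, hm⟩ := hx
  obtain ⟨k, m', hm'⟩ := Ring.DirectLimit.exists_of (m : Ring.DirectLimit G (fun i j h ↦ f i j h))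
  obtain ⟨j, hij, hkj⟩ := exists_ge_ge i k
  have h0 : φ G f j (f k j hkj m' * f i j hij a) = 0 := by
    rw [map_mul, φ_f, φ_f]
    have : φ G f k m' = (m : Ring.DirectLimit G (fun i j h ↦ f i j h)) := hm'
    rw [this]
    exact hm
  obtain ⟨l, hjl, hl⟩ := Ring.DirectLimit.of.zero_exact h0
  refine ⟨l, hij.trans hjl, ?_⟩
  simp only [tloc, Localization.localRingHom_mk']
  rw [IsLocalization.mk'_eq_zero_iff]
  have hmem : f k l (hkj.trans hjl) m' ∈ (pc G f p l).primeCompl := by
    show ¬ (φ G f l (f k l (hkj.trans hjl) m') ∈ p)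
    rw [φ_f]
    show ¬ (Ring.DirectLimit.of G (fun i j h ↦ f i j h) k m' ∈ p)
    rw [hm']
    exact m.2
  refine ⟨⟨_, hmem⟩, ?_⟩
  show f k l (hkj.trans hjl) m' * f i l (hij.trans hjl) a = 0
  rw [map_mul] at hl
  have e1 : f j l hjl (f k j hkj m') = f k l (hkj.trans hjl) m' :=
    DirectedSystem.map_map (f := fun i j h => f i j h) hkj hjl m'
  have e2 : f j l hjl (f i j hij a) = f i l (hij.trans hjl) a :=
    DirectedSystem.map_map (f := fun i j h => f i j h) hij hjl a
  rw [e1, e2] at hl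
  exact hl

theorem main (hreg : ∀ i, IsRegularRing (G i))
    [IsNoetherianRing (Ring.DirectLimit G (fun i j h ↦ f i j h))] :
    IsRegularRing (Ring.DirectLimit G (fun i j h ↦ f i j h)) := by
  rw [isRegularRing_iff]
  intro p _
  haveI : ∀ i, IsRegularLocalRing (Sloc G f p i) := fun i =>
    (hreg i).isRegularLocalRing_localization _
  exact isRegularLocalRing_of_colimit (tloc G f p) (gloc G f p) (gloc_tloc G f p)
    (gloc_surj G f p) (gloc_ker G f p)

end DL

end Groth.Agent.H3.RegColim
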