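import Mathlib
import Groth.Agent.Lib.Helper3.CA.RegColim3

/-!
# Local form: localizations of a directed colimit of regular rings which are Noetherian are regular
(helper3)
-/

set_option autoImplicit false
universe u

namespace Groth.Agent.H3.RegColim

section DL

variable {ι : Type u} [Preorder ι] [Nonempty ι] [IsDirectedOrder ι]
  (G : ι → Type u) [∀ i, CommRing (G i)]
  (f : ∀ i j, i ≤ j → G i →+* G j) [DirectedSystem G (fun i j h ↦ f i j h)]

theorem main_local (hreg : ∀ i, IsRegularRing (G i))
    (p : Ideal (Ring.DirectLimit G (fun i j h ↦ f i j h))) [p.IsPrime]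
    [IsNoetherianRing (Localization.AtPrime p)] :
    IsRegularLocalRing (Localization.AtPrime p) := by
  haveI : ∀ i, IsRegularLocalRing (Sloc G f p i) := fun i =>
    (hreg i).isRegularLocalRing_localization _
  exact isRegularLocalRing_of_colimit (tloc G f p) (gloc G f p) (gloc_tloc G f p)
    (gloc_surj G f p) (gloc_ker G f p)

end DL

theorem isRegularLocalRing_localization_of_colimit {ι : Type u} [Preorder ι] [Nonempty ι]
    [IsDirectedOrder ι]
    (G : ι → Type u) [∀ i, CommRing (G i)]
    (f : ∀ i j, i ≤ j → G i →+* G j) [DirectedSystem G (fun i j h ↦ f i j h)]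
    (T : Type u) [CommRing T] (g : ∀ i, G i →+* T)
    (hg : ∀ i j (h : i ≤ j) (x : G i), g j (f i j h x) = g i x)
    (hsurj : ∀ t : T, ∃ (i : ι) (x : G i), g i x = t)
    (hzero : ∀ (i : ι) (x : G i), g i x = 0 → ∃ (j : ι) (h : i ≤ j), f i j h x = 0)
    (hreg : ∀ i, IsRegularRing (G i)) (P : Ideal T) [P.IsPrime]
    [IsNoetherianRing (Localization.AtPrime P)] :
    IsRegularLocalRing (Localization.AtPrime P) := by
  let Φ : Ring.DirectLimit G (fun i j h ↦ f i j h) →+* T :=
    Ring.DirectLimit.lift G (fun i j h ↦ f i j h) T g hg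
  have hΦinj : Function.Injective Φ := by
    rw [injective_iff_map_eq_zero]
    intro x hx
    obtain ⟨k, y, rfl⟩ := Ring.DirectLimit.exists_of x
    rw [Ring.DirectLimit.lift_of] at hx
    obtain ⟨j, hkj, hj⟩ := hzero k y hx
    rw [← Ring.DirectLimit.of_f hkj, hj, map_zero]
  have hΦsurj : Function.Surjective Φ := by
    intro t
    obtain ⟨k, y, rfl⟩ := hsurj t
    exact ⟨Ring.DirectLimit.of G (fun i j h ↦ f i j h) k y, Ring.DirectLimit.lift_of _ _ _ _ _⟩
  let e : Ring.DirectLimit G (fun i j h ↦ f i j h) ≃+* T := RingEquiv.ofBijective Φ ⟨hΦinj, hΦsurj⟩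
  let P' : Ideal (Ring.DirectLimit G (fun i j h ↦ f i j h)) := P.comap (e : _ →+* T)
  haveI : P'.IsPrime := Ideal.comap_isPrime _ _
  have hmap : P'.primeCompl.map (e : Ring.DirectLimit G (fun i j h ↦ f i j h) →* T) =
      P.primeCompl := by
    ext t
    constructor
    · rintro ⟨x, hx, rfl⟩
      exact hx
    · intro ht
      refine ⟨e.symm t, ?_, by simp⟩
      show e.symm t ∉ P'
      intro h
      apply ht
      have : e (e.symm t) ∈ P := h
      simpa using this
  let E : Localization.AtPrime P' ≃+* Localization.AtPrime P :=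
    IsLocalization.ringEquivOfRingEquiv (M := P'.primeCompl) (T := P.primeCompl) _ _ e hmap
  haveI : IsNoetherianRing (Localization.AtPrime P') :=
    isNoetherianRing_of_ringEquiv _ E.symm
  haveI := main_local G f hreg P'
  exact IsRegularLocalRing.of_ringEquiv E

end Groth.Agent.H3.RegColim
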