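import Mathlib
import Groth.Prelude.Def_Found
import Groth.Agent.Lib.Helper3.CA.RegColim6

/-!
# Geometric regularity and algebraic extensions (helper3)

If `F` is geometrically regular over `k` and `K / k` is an algebraic field extension, then every
Noetherian localization of `K ⊗[k] F` at a prime is a regular local ring.
-/

set_option autoImplicit false

namespace Groth.Agent.H3.GeomRegAlg

universe u
open TensorProduct

variable (k K F : Type u) [Field k] [Field K] [Algebra k K] [CommRing F] [Algebra k F]

/-- finite intermediate fields -/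
abbrev FinSub := {E : IntermediateField k K // FiniteDimensional k E}

instance : Nonempty (FinSub k K) := ⟨⟨⊥, inferInstance⟩⟩

instance : IsDirectedOrder (FinSub k K) :=
  ⟨fun E1 E2 => ⟨⟨E1.1 ⊔ E2.1, by
    haveI := E1.2; haveI := E2.2; exact IntermediateField.finiteDimensional_sup _ _⟩,
    le_sup_left (a := E1.1), le_sup_right (b := E2.1)⟩⟩

/-- the stages -/
abbrev GG (E : FinSub k K) : Type u := E.1 ⊗[k] F

/-- the transition maps -/
noncomputable def ff (E1 E2 : FinSub k K) (h : E1 ≤ E2) : GG k K F E1 →+* GG k K F E2 :=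
  (Algebra.TensorProduct.map (IntermediateField.inclusion h) (AlgHom.id k F)).toRingHom

/-- the structure maps -/
noncomputable def gg (E : FinSub k K) : GG k K F E →+* K ⊗[k] F :=
  (Algebra.TensorProduct.map E.1.val (AlgHom.id k F)).toRingHom

lemma ff_tmul (E1 E2 : FinSub k K) (h : E1 ≤ E2) (a : E1.1) (b : F) :
    ff k K F E1 E2 h (a ⊗ₜ b) = (IntermediateField.inclusion h a) ⊗ₜ b := rfl

lemma gg_tmul (E : FinSub k K) (a : E.1) (b : F) :
    gg k K F E (a ⊗ₜ b) = (a : K) ⊗ₜ b := rfl

instance : DirectedSystem (GG k K F) (fun E1 E2 h => ff k K F E1 E2 h) where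
  map_self E x := by
    induction x using TensorProduct.induction_on with
    | zero => simp
    | tmul a b => rw [ff_tmul]; rfl
    | add x y hx hy => rw [map_add, hx, hy]
  map_map E1 E2 E3 h12 h23 x := by
    induction x using TensorProduct.induction_on with
    | zero => simp
    | tmul a b => rw [ff_tmul, ff_tmul, ff_tmul]; rfl
    | add x y hx hy => rw [map_add, map_add, hx, hy, map_add]

lemma hg (E1 E2 : FinSub k K) (h : E1 ≤ E2) (x : GG k K F E1) :
    gg k K F E2 (ff k K F E1 E2 h x) = gg k K F E1 x := by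
  induction x using TensorProduct.induction_on with
  | zero => simp
  | tmul a b => rw [ff_tmul, gg_tmul, gg_tmul]; rfl
  | add x y hx hy => rw [map_add, map_add, hx, hy, map_add]

lemma hsurj [Algebra.IsAlgebraic k K] (t : K ⊗[k] F) :
    ∃ (E : FinSub k K) (x : GG k K F E), gg k K F E x = t := by
  induction t using TensorProduct.induction_on with
  | zero => exact ⟨⟨⊥, inferInstance⟩, 0, map_zero _⟩
  | tmul a b =>
    have ha : IsIntegral k a := (Algebra.IsAlgebraic.isAlgebraic a).isIntegral
    refine ⟨⟨IntermediateField.adjoin k {a}, IntermediateField.adjoin.finiteDimensional ha⟩,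
      (⟨a, IntermediateField.mem_adjoin_simple_self k a⟩ : IntermediateField.adjoin k {a}) ⊗ₜ b,
      ?_⟩
    rw [gg_tmul]
  | add x y hx hy =>
    obtain ⟨E1, x1, rfl⟩ := hx
    obtain ⟨E2, x2, rfl⟩ := hy
    obtain ⟨E3, h1, h2⟩ := exists_ge_ge E1 E2
    refine ⟨E3, ff k K F E1 E3 h1 x1 + ff k K F E2 E3 h2 x2, ?_⟩
    rw [map_add, hg, hg]

lemma gg_injective (E : FinSub k K) : Function.Injective (gg k K F E) := by
  have h : Function.Injective (E.1.val.toLinearMap.rTensor F) :=
    Module.Flat.rTensor_preserves_injective_linearMap _ E.1.val.injective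
  exact h

lemma hzero (E : FinSub k K) (x : GG k K F E) (hx : gg k K F E x = 0) :
    ∃ (E' : FinSub k K) (h : E ≤ E'), ff k K F E E' h x = 0 := by
  refine ⟨E, le_rfl, ?_⟩
  have : x = 0 := gg_injective k K F E (by rw [hx, map_zero])
  rw [this, map_zero]

theorem isRegularLocalRing_localization [Algebra.IsAlgebraic k K]
    (hF : CAlg.IsGeometricallyRegular k F) (P : Ideal (K ⊗[k] F)) [P.IsPrime]
    [IsNoetherianRing (Localization.AtPrime P)] :
    IsRegularLocalRing (Localization.AtPrime P) :=
  RegColim.isRegularLocalRing_localization_of_colimit (GG k K F) (ff k K F) (K ⊗[k] F)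
    (gg k K F) (hg k K F) (hsurj k K F) (hzero k K F)
    (fun E => hF E.1 E.2) P

end Groth.Agent.H3.GeomRegAlg
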