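import Mathlib

/-!
# Noetherian domains with `B_f` a field (helper3)
-/

set_option autoImplicit false

universe u

namespace Groth.Agent.H3.GoldmanDomain

variable (B : Type u) [CommRing B] [IsDomain B]

/-- if `B_f` is a field, every nonzero prime contains `f`. -/
lemma mem_of_isField_away {f : B} (hfld : IsField (Localization.Away f)) (P : Ideal B) [P.IsPrime]
    (hP : P ≠ ⊥) : f ∈ P := by
  by_contra hfP
  have hdisj : Disjoint (Submonoid.powers f : Set B) (P : Set B) := by
    rw [Set.disjoint_left]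
    rintro _ ⟨n, rfl⟩ hn
    exact hfP (Ideal.IsPrime.mem_of_pow_mem inferInstance n hn)
  have hprime : (P.map (algebraMap B (Localization.Away f))).IsPrime :=
    IsLocalization.isPrime_of_isPrime_disjoint (Submonoid.powers f) _ P inferInstance hdisj
  have hcomap : (P.map (algebraMap B (Localization.Away f))).comap (algebraMap B (Localization.Away f)) = P :=
    IsLocalization.comap_map_of_isPrime_disjoint (Submonoid.powers f) _ inferInstance hdisj
  let _ := hfld.toField
  have hbot : P.map (algebraMap B (Localization.Away f)) = ⊥ := by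
    rcases Ideal.eq_bot_or_top (P.map (algebraMap B (Localization.Away f))) with h | h
    · exact h
    · exact absurd h hprime.ne_top
  apply hP
  rw [← hcomap, hbot]
  have hf0 : f ≠ 0 := by
    rintro rfl
    exact hfP (Submodule.zero_mem _)
  have hinj : Function.Injective (algebraMap B (Localization.Away f)) :=
    IsLocalization.injective (Localization.Away f)
      (powers_le_nonZeroDivisors_of_noZeroDivisors hf0)
  rw [eq_bot_iff]
  intro x hx
  rw [Ideal.mem_comap, Ideal.mem_bot] at hx
  rw [Ideal.mem_bot]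
  exact hinj (by rw [hx, map_zero])

variable [IsNoetherianRing B]

/-- if `B_f` is a field and `B` is Noetherian, every nonzero prime is minimal over `(f)`. -/
lemma mem_minimalPrimes_of_isField_away {f : B} (hf0 : f ≠ 0)
    (hfld : IsField (Localization.Away f)) (P : Ideal B) [hPp : P.IsPrime] (hP : P ≠ ⊥) :
    P ∈ (Ideal.span {f}).minimalPrimes := by
  classical
  have hfP : f ∈ P := mem_of_isField_away B hfld P hP
  have hle : Ideal.span {f} ≤ P := (Ideal.span_singleton_le_iff_mem _).2 hfP
  obtain ⟨q, hq, hqP⟩ := Ideal.exists_minimalPrimes_le hle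
  by_contra hPmin
  have hfin : ((Ideal.span {f} : Ideal B).minimalPrimes).Finite :=
    Ideal.finite_minimalPrimes_of_isNoetherianRing B _
  -- `P` is not contained in the union of the minimal primes
  have hnot : ¬ ((P : Set B) ⊆ ⋃ i ∈ (↑hfin.toFinset : Set (Ideal B)), (i : Set B)) := by
    intro hsub
    rw [Ideal.subset_union_prime (f := fun i : Ideal B => i) ⊥ ⊥] at hsub
    · obtain ⟨i, hi, hPi⟩ := hsub
      rw [Set.Finite.mem_toFinset] at hi
      have hqi : q ≤ i := hqP.trans hPi
      have : i ≤ q := hi.2 ⟨hq.1.1, hq.1.2⟩ hqi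
      have hPq : P = i := le_antisymm hPi (this.trans hqP)
      exact hPmin (hPq ▸ hi)
    · intro i hi _ _
      rw [Set.Finite.mem_toFinset] at hi
      exact hi.1.1
  rw [Set.not_subset] at hnot
  obtain ⟨g, hgP, hgn⟩ := hnot
  have hgn' : ∀ i ∈ (Ideal.span {f} : Ideal B).minimalPrimes, g ∉ i := by
    intro i hi hgi
    apply hgn
    simp only [Set.mem_iUnion, Set.Finite.mem_toFinset, SetLike.mem_coe]
    exact ⟨i, hi, hgi⟩
  have hg0 : g ≠ 0 := by
    rintro rfl
    exact hgn' q hq (Submodule.zero_mem _)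
  have hle' : Ideal.span {g} ≤ P := (Ideal.span_singleton_le_iff_mem _).2 hgP
  obtain ⟨q', hq', hq'P⟩ := Ideal.exists_minimalPrimes_le hle'
  have hq'prime : q'.IsPrime := hq'.1.1
  have hgq' : g ∈ q' := hq'.1.2 (Ideal.mem_span_singleton_self g)
  have hq'0 : q' ≠ ⊥ := by
    intro h
    rw [h, Ideal.mem_bot] at hgq'
    exact hg0 hgq'
  have hfq' : f ∈ q' := mem_of_isField_away B hfld q' hq'0
  obtain ⟨qi, hqi, hqiq'⟩ := Ideal.exists_minimalPrimes_le
    ((Ideal.span_singleton_le_iff_mem _).2 hfq')
  have hqiprime : qi.IsPrime := hqi.1.1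
  have hht : q'.height ≤ 1 :=
    Ideal.height_le_one_of_isPrincipal_of_mem_minimalPrimes (Ideal.span {g}) q' hq'
  have hqi0 : qi ≠ ⊥ := by
    intro h
    have : f ∈ qi := hqi.1.2 (Ideal.mem_span_singleton_self f)
    rw [h, Ideal.mem_bot] at this
    exact hf0 this
  have hbotprime : (⊥ : Ideal B).IsPrime := Ideal.isPrime_bot
  have h1 : (1 : ℕ∞) ≤ qi.height := by
    have : (⊥ : Ideal B) < qi := bot_lt_iff_ne_bot.2 hqi0
    have := Ideal.height_strict_mono_of_isPrime_of_isPrime this
    exact Order.one_le_iff_pos.2 (lt_of_le_of_lt bot_le this)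
  rcases eq_or_lt_of_le hqiq' with heq | hlt
  · exact hgn' qi hqi (heq ▸ hgq')
  · have := Ideal.height_strict_mono_of_isPrime_of_isPrime hlt
    have : (1 : ℕ∞) < 1 := lt_of_le_of_lt h1 (lt_of_lt_of_le this hht)
    exact lt_irrefl _ this

end Groth.Agent.H3.GoldmanDomain

namespace Groth.Agent.H3.GoldmanDomain

variable (B : Type u) [CommRing B] [IsDomain B] [IsNoetherianRing B]

theorem tfae :
    [∃ f : B, f ≠ 0 ∧ IsField (Localization.Away f),
      Finite (PrimeSpectrum B),
      Finite (MaximalSpectrum B) ∧ ringKrullDim B ≤ 1].TFAE := by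
  classical
  tfae_have 1 → 3 := by
    rintro ⟨f, hf0, hfld⟩
    have hfin : ((Ideal.span {f} : Ideal B).minimalPrimes).Finite :=
      Ideal.finite_minimalPrimes_of_isNoetherianRing B _
    have hall : ∀ P : Ideal B, P.IsPrime → P ≠ ⊥ → P ∈ (Ideal.span {f}).minimalPrimes :=
      fun P hP hP0 => mem_minimalPrimes_of_isField_away B hf0 hfld P hP0
    constructor
    · have hfin' : ((Ideal.span {f} : Ideal B).minimalPrimes ∪ {⊥}).Finite :=
        hfin.union (Set.finite_singleton _)
      have := hfin'.to_subtype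
      let φ : MaximalSpectrum B → ↥((Ideal.span {f} : Ideal B).minimalPrimes ∪ {⊥}) := fun m =>
        ⟨m.asIdeal, by
          by_cases h : m.asIdeal = ⊥
          · exact Or.inr h
          · exact Or.inl (hall _ m.isMaximal.isPrime h)⟩
      refine Finite.of_injective φ ?_
      intro m m' h
      have : m.asIdeal = m'.asIdeal := congrArg Subtype.val h
      exact MaximalSpectrum.ext this
    · rw [ringKrullDim_le_iff_height_le]
      intro p hp
      by_cases h : p = ⊥
      · rw [h, Ideal.height_bot]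
        exact_mod_cast zero_le_one
      · have := Ideal.height_le_one_of_isPrincipal_of_mem_minimalPrimes (Ideal.span {f}) p
          (hall p hp h)
        exact_mod_cast this
  tfae_have 3 → 2 := by
    rintro ⟨hfin, hdim⟩
    have hmax : ∀ p : PrimeSpectrum B, p.asIdeal ≠ ⊥ → p.asIdeal.IsMaximal := by
      intro p hp0
      by_contra hnm
      obtain ⟨m, hm, hpm⟩ := Ideal.exists_le_maximal p.asIdeal p.isPrime.ne_top
      have hlt : p.asIdeal < m := lt_of_le_of_ne hpm (fun h => hnm (h ▸ hm))
      have hmp : m.IsPrime := hm.isPrime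
      have hbotprime : (⊥ : Ideal B).IsPrime := Ideal.isPrime_bot
      have h0 : (⊥ : Ideal B) < p.asIdeal := bot_lt_iff_ne_bot.2 hp0
      have h1 := Ideal.height_strict_mono_of_isPrime_of_isPrime h0
      have h2 := Ideal.height_strict_mono_of_isPrime_of_isPrime hlt
      have h3 : (1 : ℕ∞) ≤ p.asIdeal.height := Order.one_le_iff_pos.2 (lt_of_le_of_lt bot_le h1)
      have h4 : (1 : ℕ∞) < m.height := lt_of_le_of_lt h3 h2
      have h5 : (m.height : WithBot ℕ∞) ≤ 1 := (Ideal.height_le_ringKrullDim_of_isPrime).trans hdim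
      have h6 : m.height ≤ 1 := by exact_mod_cast h5
      exact absurd h4 (not_lt.2 h6)
    let φ : PrimeSpectrum B → Option (MaximalSpectrum B) := fun p =>
      if h : p.asIdeal = ⊥ then none else some ⟨p.asIdeal, hmax p h⟩
    refine Finite.of_injective φ ?_
    intro p q hpq
    by_cases hp : p.asIdeal = ⊥
    · by_cases hq : q.asIdeal = ⊥
      · exact PrimeSpectrum.ext (hp.trans hq.symm)
      · simp only [φ, dif_pos hp, dif_neg hq] at hpq
        exact absurd hpq (by simp)
    · by_cases hq : q.asIdeal = ⊥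
      · simp only [φ, dif_neg hp, dif_pos hq] at hpq
        exact absurd hpq (by simp)
      · simp only [φ, dif_neg hp, dif_neg hq, Option.some.injEq] at hpq
        exact PrimeSpectrum.ext (congrArg MaximalSpectrum.asIdeal hpq)
  tfae_have 2 → 1 := by
    intro hfin
    have hT : {p : PrimeSpectrum B | p.asIdeal ≠ ⊥}.Finite := Set.toFinite _
    have hg : ∀ p : PrimeSpectrum B, ∃ g : B, (p.asIdeal ≠ ⊥ → g ∈ p.asIdeal) ∧ g ≠ 0 := by
      intro p
      by_cases hp : p.asIdeal = ⊥
      · exact ⟨1, fun h => absurd hp h, one_ne_zero⟩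
      · obtain ⟨g, hg, hg0⟩ := Submodule.exists_mem_ne_zero_of_ne_bot hp
        exact ⟨g, fun _ => hg, hg0⟩
    choose g hg1 hg0 using hg
    refine ⟨∏ p ∈ hT.toFinset, g p, Finset.prod_ne_zero_iff.2 (fun p _ => hg0 p), ?_⟩
    by_contra hnf
    have hf0 : (∏ p ∈ hT.toFinset, g p) ≠ 0 := Finset.prod_ne_zero_iff.2 (fun p _ => hg0 p)
    have : IsDomain (Localization.Away (∏ p ∈ hT.toFinset, g p)) :=
      IsLocalization.isDomain_localization (powers_le_nonZeroDivisors_of_noZeroDivisors hf0)
    obtain ⟨Q, hQ0, hQp⟩ := Ring.not_isField_iff_exists_prime.1 hnf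
    let P : Ideal B := Q.comap (algebraMap B (Localization.Away (∏ p ∈ hT.toFinset, g p)))
    have hPp : P.IsPrime := Ideal.comap_isPrime _ _
    have hmap : P.map (algebraMap B (Localization.Away (∏ p ∈ hT.toFinset, g p))) = Q :=
      IsLocalization.map_comap (Submonoid.powers (∏ p ∈ hT.toFinset, g p)) _ Q
    have hP0 : P ≠ ⊥ := by
      intro h
      rw [h, Ideal.map_bot] at hmap
      exact hQ0 hmap.symm
    have hmem : (⟨P, hPp⟩ : PrimeSpectrum B) ∈ hT.toFinset := by
      rw [Set.Finite.mem_toFinset]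
      exact hP0
    have hgP : g ⟨P, hPp⟩ ∈ P := hg1 ⟨P, hPp⟩ hP0
    have hfP : (∏ p ∈ hT.toFinset, g p) ∈ P :=
      Ideal.mem_of_dvd _ (Finset.dvd_prod_of_mem g hmem) hgP
    have hunit : IsUnit (algebraMap B (Localization.Away (∏ p ∈ hT.toFinset, g p))
        (∏ p ∈ hT.toFinset, g p)) := IsLocalization.Away.algebraMap_isUnit _
    exact hQp.ne_top (Ideal.eq_top_of_isUnit_mem _ hfP hunit)
  tfae_finish

end Groth.Agent.H3.GoldmanDomain
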