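import Mathlib
import Groth.Prelude.Def_Found
import Groth.Agent.Lib.Helper8.Japanese.HensNag7
import Groth.Agent.Lib.Helper5.CA.RegHom3
import Groth.Agent.Lib.Helper3.CA.RegHomComp
import Groth.Agent.Lib.Helper3.CA.RegHomLoc
import Groth.Agent.S0543

/-!
# Henselization and regularity of the completion map, part 1 (helper3)
-/

set_option autoImplicit false

namespace Groth.Agent.H3.HensRegFF

universe u
open TensorProduct IsLocalRing
open Groth.Agent.H8 Groth.Agent.H8.Jap

/-- A ring in which every element `t` satisfies `t = t * t * s` for some `s` has dimension zero. -/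
theorem krullDimLE_zero_of_absFlat (T : Type u) [CommRing T]
    (h : ∀ t : T, ∃ s : T, t = t * t * s) : Ring.KrullDimLE 0 T := by
  rw [Ring.krullDimLE_zero_iff]
  intro P hP
  rw [Ideal.isMaximal_iff]
  refine ⟨fun h1 => hP.ne_top ((Ideal.eq_top_iff_one P).mpr h1), fun J x hPJ hxP hxJ => ?_⟩
  obtain ⟨s, hs⟩ := h x
  have h0 : x * (1 - x * s) = 0 := by
    calc x * (1 - x * s) = x - x * x * s := by ring
      _ = 0 := by rw [← hs, sub_self]
  have h1 : 1 - x * s ∈ P := by
    have : x * (1 - x * s) ∈ P := by rw [h0]; exact P.zero_mem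
    exact (hP.mem_or_mem this).resolve_left hxP
  have h2 : x * s ∈ J := J.mul_mem_right _ hxJ
  have : (1 - x * s) + x * s ∈ J := J.add_mem (hPJ h1) h2
  simpa using this

theorem isRegularRing_of_absFlat (T : Type u) [CommRing T] [IsNoetherianRing T] [IsReduced T]
    (h : ∀ t : T, ∃ s : T, t = t * t * s) : IsRegularRing T := by
  haveI : Ring.KrullDimLE 0 T := krullDimLE_zero_of_absFlat _ h
  haveI : IsArtinianRing T := isArtinianRing_iff_krullDimLE_zero.mpr inferInstance
  exact H5.RegHom.isRegularRing_of_isArtinianRing_of_isReduced _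

section

variable (R : Type u) [CommRing R] [IsLocalRing R] [IsNoetherianRing R]
  (S : Type u) [CommRing S] [IsLocalRing S] [Algebra R S] [IsLocalHom (algebraMap R S)]
  [hS : Hensel.IsHenselization R S]

include hS in
theorem isNoetherianRing_hens : IsNoetherianRing S :=
  (Hens.isNoetherianRing_iff_of_isHenselization (R := R) S).mp inferInstance

include hS in
/-- The henselization has geometrically regular fibres. -/
theorem geomRegFibres_hens : RegHomBC.GeomRegFibres R S := by
  intro p _ K _ _ hfin
  haveI := hfin
  haveI : IsNoetherianRing S := isNoetherianRing_hens R S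
  haveI : IsNoetherianRing (p.Fiber S) := RegHomBC.isNoetherianRing_fiber R S p
  haveI : IsNoetherianRing (K ⊗[p.ResidueField] p.Fiber S) :=
    RegHomBC.isNoetherianRing_tensor_finite _ _ _
  obtain ⟨hred, habs⟩ := HensNag.fiber_tensor_of_isHenselization R S p K
  haveI : IsReduced (K ⊗[p.ResidueField] p.Fiber S) := hred
  exact isRegularRing_of_absFlat _ habs

include hS in
/-- If the completion map of the henselization is regular, so is that of `R`. -/
theorem regular_of_regular_hens
    (h : CAlg.IsRegularHom S (AdicCompletion (maximalIdeal S) S)) :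
    CAlg.IsRegularHom R (AdicCompletion (maximalIdeal R) R) := by
  haveI : IsNoetherianRing S := isNoetherianRing_hens R S
  obtain ⟨ψ, hψ, hcomm⟩ := HensNag.exists_cpl_bijective R S
  haveI : IsScalarTower R S (AdicCompletion (maximalIdeal S) S) :=
    IsScalarTower.of_algebraMap_eq fun _ => rfl
  let e : AdicCompletion (maximalIdeal R) R ≃ₐ[R] AdicCompletion (maximalIdeal S) S :=
    { RingEquiv.ofBijective ψ hψ with
      commutes' := fun r => (hcomm r).trans
        (IsScalarTower.algebraMap_apply R S (AdicCompletion (maximalIdeal S) S) r).symm }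
  suffices hR : CAlg.IsRegularHom R (AdicCompletion (maximalIdeal S) S) from
    RegHomBC.isRegularHom_of_algEquiv R _ _ e.symm hR
  obtain ⟨hflat, hfib⟩ := h
  haveI := Hens.faithfullyFlat_of_isHenselization (R := R) S
  haveI : IsNoetherianRing (AdicCompletion (maximalIdeal S) S) := Groth.Agent.S0543.result S _
  refine ⟨Module.Flat.trans R S _, fun p _ => ⟨RegHomBC.isNoetherianRing_fiber R _ p, ?_⟩⟩
  have hcomp : RegHomBC.GeomRegFibres R (AdicCompletion (maximalIdeal S) S) :=
    RegHomBC.geomRegFibres_comp R S _ (geomRegFibres_hens R S) (fun q _ => (hfib q).1)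
      (fun q _ K _ _ hK => (hfib q).2 K hK) (fun p _ => RegHomBC.isNoetherianRing_fiber R _ p)
  exact fun K _ _ hK => hcomp p K hK

end

end Groth.Agent.H3.HensRegFF
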