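import Mathlib
import Groth.Agent.Lib.Helper3.CA.HensRegFF1

/-!
# Henselization and regularity of the completion map, part 2: residue extensions are algebraic
(helper3)
-/

set_option autoImplicit false

namespace Groth.Agent.H3.HensRegFF

universe u
open TensorProduct IsLocalRing
open Groth.Agent.H8 Groth.Agent.H8.Jap

theorem isIntegral_pi {k : Type u} [Field k] {n : ℕ} (L : Fin n → Type u) [∀ i, Field (L i)]
    [∀ i, Algebra k (L i)] (x : Π i, L i) (h : ∀ i, IsIntegral k (x i)) : IsIntegral k x := by
  classical
  refine ⟨∏ i, minpoly k (x i), Polynomial.monic_prod_of_monic _ _ (fun i _ => minpoly.monic (h i)),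
    ?_⟩
  rw [← Polynomial.aeval_def]
  funext i
  have h1 : (Polynomial.aeval x (∏ i, minpoly k (x i))) i =
      Polynomial.aeval (x i) (∏ i, minpoly k (x i)) := by
    have := Polynomial.aeval_algHom_apply (Pi.evalAlgHom k L i) x (∏ i, minpoly k (x i))
    simpa using this.symm
  rw [h1, map_prod, Pi.zero_apply]
  exact Finset.prod_eq_zero (Finset.mem_univ i) (minpoly.aeval k (x i))

section

variable (R : Type u) [CommRing R] [IsLocalRing R] [IsNoetherianRing R]
  (S : Type u) [CommRing S] [IsLocalRing S] [Algebra R S] [IsLocalHom (algebraMap R S)]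
  [hS : Hensel.IsHenselization R S]

include hS in
/-- Residue field extensions of the henselization are algebraic (in the form we need). -/
theorem isAlgebraic_of_hens (p : Ideal R) [p.IsPrime] (q : Ideal S) [q.IsPrime] (K : Type u)
    [Field K] [Algebra p.ResidueField K] [Algebra q.ResidueField K] [Algebra R K] [Algebra S K]
    [IsScalarTower R p.ResidueField K] [IsScalarTower S q.ResidueField K] [IsScalarTower R S K]
    [Module.Finite q.ResidueField K] : Algebra.IsAlgebraic p.ResidueField K := by
  -- Step a
  have ha : ∀ s : S, IsIntegral p.ResidueField (algebraMap S K s) := by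
    intro s
    obtain ⟨n, L, _, _, hsep, ⟨ε⟩⟩ := Hens.exists_fiber_equiv_pi_of_algEquiv (R := R)
      (K := ResidueField R) (Hens.algEquiv (R := R) S) p
    let θ : p.ResidueField ⊗[R] S →ₐ[p.ResidueField] K :=
      Algebra.TensorProduct.lift (Algebra.ofId _ _) (IsScalarTower.toAlgHom R S K)
        (fun _ _ => Commute.all _ _)
    have hθ : θ ((1 : p.ResidueField) ⊗ₜ s) = algebraMap S K s := by simp [θ]
    have hint : IsIntegral p.ResidueField ((1 : p.ResidueField) ⊗ₜ[R] s) := by
      have h1 : IsIntegral p.ResidueField (ε ((1 : p.ResidueField) ⊗ₜ[R] s)) :=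
        isIntegral_pi L _ (fun i => by
          haveI := hsep i
          exact Algebra.IsIntegral.isIntegral _)
      exact (isIntegral_algEquiv ε).mp h1
    rw [← hθ]
    exact hint.map θ
  -- Step b
  have hb : ∀ y : q.ResidueField, IsIntegral p.ResidueField (algebraMap q.ResidueField K y) := by
    intro y
    obtain ⟨a, b, _, rfl⟩ := IsFractionRing.div_surjective (S ⧸ q) y
    obtain ⟨s, rfl⟩ := Ideal.Quotient.mk_surjective a
    obtain ⟨t, rfl⟩ := Ideal.Quotient.mk_surjective b
    have e1 : ∀ s : S, algebraMap q.ResidueField K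
        (algebraMap (S ⧸ q) q.ResidueField (Ideal.Quotient.mk q s)) = algebraMap S K s := by
      intro s
      rw [Ideal.algebraMap_quotient_residueField_mk, ← IsScalarTower.algebraMap_apply]
    rw [map_div₀, e1, e1, div_eq_mul_inv]
    exact (ha s).mul (ha t).inv
  -- Step c
  refine ⟨fun x => ?_⟩
  apply IsIntegral.isAlgebraic
  have hx : IsIntegral q.ResidueField x := Algebra.IsIntegral.isIntegral x
  let D := integralClosure p.ResidueField K
  let ρ : q.ResidueField →+* D :=
    (algebraMap q.ResidueField K).codRestrict D.toSubring (fun y => hb y)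
  have hx' : IsIntegral D x :=
    IsIntegral.map_of_comp_eq ρ (RingHom.id K) (by ext y; rfl) hx
  exact isIntegral_trans x hx'

end

end Groth.Agent.H3.HensRegFF
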