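import Mathlib
import Groth.Agent.Lib.Helper3.CA.HensRegFF2
import Groth.Agent.Lib.Helper3.CA.GeomRegAlg
import Groth.Agent.Lib.Helper3.CA.AbsFlatCancel

/-!
# Henselization and regularity of the completion map, part 3 (helper3)
-/

set_option autoImplicit false

namespace Groth.Agent.H3.HensRegFF

universe u
open TensorProduct IsLocalRing
open Groth.Agent.H8 Groth.Agent.H8.Jap

theorem exists_localization_ringEquiv {T T' : Type u} [CommRing T] [CommRing T'] (ε : T ≃+* T')
    (P : Ideal T') [P.IsPrime] :
    ∃ (P' : Ideal T) (_ : P'.IsPrime),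
      Nonempty (Localization.AtPrime P' ≃+* Localization.AtPrime P) :=
  ⟨P.comap ε, Ideal.comap_isPrime _ _,
    ⟨IsLocalization.ringEquivOfRingEquiv (Localization.AtPrime (P.comap ε))
      (Localization.AtPrime P) ε (ε.map_primeCompl_comap_eq P)⟩⟩

section

variable (R : Type u) [CommRing R] [IsLocalRing R] [IsNoetherianRing R]
  (S : Type u) [CommRing S] [IsLocalRing S] [Algebra R S] [IsLocalHom (algebraMap R S)]
  [hS : Hensel.IsHenselization R S]

include hS in
/-- If the completion map of `R` is regular, so is that of its henselization. -/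
theorem regular_hens_of_regular
    (h : CAlg.IsRegularHom R (AdicCompletion (maximalIdeal R) R)) :
    CAlg.IsRegularHom S (AdicCompletion (maximalIdeal S) S) := by
  haveI : IsNoetherianRing S := isNoetherianRing_hens R S
  obtain ⟨ψ, hψ, hcomm⟩ := HensNag.exists_cpl_bijective R S
  haveI : IsScalarTower R S (AdicCompletion (maximalIdeal S) S) :=
    IsScalarTower.of_algebraMap_eq fun _ => rfl
  let e : AdicCompletion (maximalIdeal R) R ≃ₐ[R] AdicCompletion (maximalIdeal S) S :=
    { RingEquiv.ofBijective ψ hψ with
      commutes' := fun r => (hcomm r).trans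
        (IsScalarTower.algebraMap_apply R S (AdicCompletion (maximalIdeal S) S) r).symm }
  have hR : CAlg.IsRegularHom R (AdicCompletion (maximalIdeal S) S) :=
    RegHomBC.isRegularHom_of_algEquiv R _ _ e h
  haveI : IsNoetherianRing (AdicCompletion (maximalIdeal S) S) := Groth.Agent.S0543.result S _
  refine ⟨inferInstance, fun q _ => ⟨RegHomBC.isNoetherianRing_fiber S _ q, ?_⟩⟩
  intro K _ _ hfin
  haveI := hfin
  letI : Algebra S K := ((algebraMap q.ResidueField K).comp (algebraMap S q.ResidueField)).toAlgebra
  haveI : IsScalarTower S q.ResidueField K := IsScalarTower.of_algebraMap_eq fun _ => rfl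
  letI : Algebra R K := ((algebraMap S K).comp (algebraMap R S)).toAlgebra
  haveI : IsScalarTower R S K := IsScalarTower.of_algebraMap_eq fun _ => rfl
  let p : Ideal R := RingHom.ker (algebraMap R K)
  haveI : p.IsPrime := RingHom.ker_isPrime _
  have hunits : p.primeCompl ≤ (IsUnit.submonoid K).comap (algebraMap R K) := by
    intro a ha
    show IsUnit (algebraMap R K a)
    exact IsUnit.mk0 _ ha
  let φ : p.ResidueField →+* K := Ideal.ResidueField.lift p (algebraMap R K) le_rfl hunits
  letI : Algebra p.ResidueField K := φ.toAlgebra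
  haveI : IsScalarTower R p.ResidueField K := IsScalarTower.of_algebraMap_eq fun a =>
    (Ideal.ResidueField.lift_algebraMap p (algebraMap R K) le_rfl hunits a).symm
  haveI : Algebra.IsAlgebraic p.ResidueField K := isAlgebraic_of_hens R S p q K
  haveI : IsNoetherianRing (q.Fiber (AdicCompletion (maximalIdeal S) S)) :=
    RegHomBC.isNoetherianRing_fiber S _ q
  haveI : IsNoetherianRing (K ⊗[q.ResidueField] q.Fiber (AdicCompletion (maximalIdeal S) S)) :=
    RegHomBC.isNoetherianRing_tensor_finite _ _ _
  let eS := H8.NHB.isoF S (AdicCompletion (maximalIdeal S) S) q K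
  haveI : IsNoetherianRing (K ⊗[S] AdicCompletion (maximalIdeal S) S) :=
    isNoetherianRing_of_ringEquiv
      (K ⊗[q.ResidueField] q.Fiber (AdicCompletion (maximalIdeal S) S)) eS
  suffices hreg : IsRegularRing (K ⊗[S] AdicCompletion (maximalIdeal S) S) from
    IsRegularRing.of_ringEquiv (R := K ⊗[S] AdicCompletion (maximalIdeal S) S) eS.symm
  rw [isRegularRing_iff]
  intro Q _
  obtain ⟨π, hπ, hker⟩ := AbsFlatCancel.exists_surjective_tensor_of_absFlat R S
    (AdicCompletion (maximalIdeal S) S) K
    (fun t => HensNag.absFlat_tensor_of_isHenselization R S K t)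
  haveI : (Q.comap π).IsPrime := Ideal.comap_isPrime _ _
  obtain ⟨E⟩ := AbsFlatCancel.nonempty_localization_ringEquiv_of_surjective π hπ hker Q
  haveI : IsNoetherianRing (Localization.AtPrime (Q.comap π)) :=
    isNoetherianRing_of_ringEquiv _ E.symm
  let eR := H8.NHB.isoF R (AdicCompletion (maximalIdeal S) S) p K
  obtain ⟨P', hP', ⟨E'⟩⟩ := exists_localization_ringEquiv
    (T := K ⊗[p.ResidueField] p.Fiber (AdicCompletion (maximalIdeal S) S)) eR (Q.comap π)
  haveI : IsNoetherianRing (Localization.AtPrime P') := isNoetherianRing_of_ringEquiv _ E'.symm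
  haveI := GeomRegAlg.isRegularLocalRing_localization p.ResidueField K
    (p.Fiber (AdicCompletion (maximalIdeal S) S)) ((hR.2 p).2) P'
  haveI : IsRegularLocalRing (Localization.AtPrime (Q.comap π)) :=
    IsRegularLocalRing.of_ringEquiv E'
  exact IsRegularLocalRing.of_ringEquiv E

include hS in
theorem main : CAlg.IsRegularHom S (AdicCompletion (maximalIdeal S) S) ↔
    CAlg.IsRegularHom R (AdicCompletion (maximalIdeal R) R) :=
  ⟨regular_of_regular_hens R S, regular_hens_of_regular R S⟩

end

end Groth.Agent.H3.HensRegFF
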