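import Mathlib
import Groth.Prelude.Def_Found
import Groth.Agent.Lib.Helper5.CA.FinCL
import Groth.Agent.Lib.Helper8.Japanese.CompleteNagata
import Groth.Agent.Lib.Helper8.Japanese.NagFT16
import Groth.Agent.Lib.Helper8.Hens.IntegralHens
import Groth.Agent.Lib.Helper8.EssEt.CoefRing

/-!
# Integral closure of a complete local domain in a finite extension is local and complete
-/

set_option autoImplicit false
universe u

open IsLocalRing

namespace Groth.Agent.H3.ICCompl

/-- A local ring finite over a complete Noetherian local ring is complete for its own maximal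
ideal. -/
theorem isAdicComplete_of_finite_local (R : Type u) [CommRing R] [IsLocalRing R]
    [IsNoetherianRing R] [IsAdicComplete (maximalIdeal R) R] (S : Type u) [CommRing S]
    [IsLocalRing S] [Algebra R S] [Module.Finite R S] :
    IsAdicComplete (maximalIdeal S) S := by
  have : IsAdicComplete (maximalIdeal R) S :=
    H9.ChevMod.isAdicComplete_of_finite R (maximalIdeal R) _
  have h1 : IsAdicComplete ((maximalIdeal R).map (algebraMap R S)) S :=
    H9.CDVR.isAdicComplete_map _
  have hIJ : (maximalIdeal R).map (algebraMap R S) ≤ maximalIdeal S :=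
    H9.FinLocal.map_le_of_isMaximal R _ _
  have : IsArtinianRing (S ⧸ (maximalIdeal R).map (algebraMap R S)) :=
    H9.FinLocal.artinian_quot R _
  set I := (maximalIdeal R).map (algebraMap R S) with hI
  have hjac : (maximalIdeal S).map (Ideal.Quotient.mk I) ≤
      Ideal.jacobson (⊥ : Ideal (S ⧸ I)) := by
    rw [Ideal.jacobson]
    refine le_sInf ?_
    rintro n ⟨-, hn⟩
    have := Ideal.comap_isMaximal_of_surjective (Ideal.Quotient.mk I)
      Ideal.Quotient.mk_surjective (K := n)
    rw [Ideal.map_le_iff_le_comap, IsLocalRing.eq_maximalIdeal this]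
  obtain ⟨N, hN⟩ := IsArtinianRing.isNilpotent_jacobson_bot (R := S ⧸ I)
  have hJN : maximalIdeal S ^ N ≤ I := by
    have h2 : (maximalIdeal S ^ N).map (Ideal.Quotient.mk I) = ⊥ := by
      rw [Ideal.map_pow, eq_bot_iff, ← Ideal.zero_eq_bot, ← hN]
      exact Ideal.pow_right_mono hjac N
    rw [Ideal.map_eq_bot_iff_le_ker, Ideal.mk_ker] at h2
    exact h2
  exact H5.FinCL.isAdicComplete_of_le_of_pow_le I _ hIJ N hJN

theorem main {A K' : Type u} [CommRing A]
    [IsDomain A] [IsLocalRing A] [IsNoetherianRing A] [IsAdicComplete (IsLocalRing.maximalIdeal A) A]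
    [Field K'] [Algebra A K'] [Algebra (FractionRing A) K'] [IsScalarTower A (FractionRing A) K']
    [FiniteDimensional (FractionRing A) K'] :
    ∃ _ : IsLocalRing (integralClosure A K'),
      IsAdicComplete (IsLocalRing.maximalIdeal (integralClosure A K')) (integralClosure A K') := by
  have hH : HenselianLocalRing A := H8.EssEt.henselianLocalRing_of_isAdicComplete A
  have hint : Algebra.IsIntegral A (integralClosure A K') := inferInstance
  have hloc : IsLocalRing (integralClosure A K') :=
    H8.Hens.isLocalRing_of_isDomain_of_isIntegral A (integralClosure A K')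
  have hNag : CAlg.IsNagata A := H8.Jap.isNagata_of_complete_local A
  have hN2 : CAlg.IsN2 A := H8.Jap.NagFT.isN2_of_isNagata_of_isDomain A hNag
  have hfin : Module.Finite A (integralClosure A K') := hN2 K' inferInstance
  exact ⟨hloc, isAdicComplete_of_finite_local A (integralClosure A K')⟩

end Groth.Agent.H3.ICCompl
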