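import Mathlib
import Groth.Prelude.Def_Found
import Groth.Agent.Lib.Helper8.Japanese.ComplRed7

/-!
# Finiteness of the integral closure when `R ⊗ K'` is reduced (EGA 0_IV 23.1.7 type statement)
-/

set_option autoImplicit false
universe u

open IsLocalRing TensorProduct

namespace Groth.Agent.H3.ICFinRed

/-- The natural map `B ⊗ Â → R ⊗ K'` is injective when `B ⊆ K'`, `Â ⊆ R` and `Â`, `K'` are flat. -/
theorem isReduced_tensor_of_injective (A B Ahat R K' : Type u) [CommRing A] [CommRing B]
    [CommRing Ahat] [CommRing R] [CommRing K'] [Algebra A B] [Algebra A Ahat] [Algebra A R]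
    [Algebra A K'] [Module.Flat A Ahat] [Module.Flat A K']
    (f : B →ₐ[A] K') (hf : Function.Injective f) (g : Ahat →ₐ[A] R) (hg : Function.Injective g)
    (h : IsReduced (R ⊗[A] K')) : IsReduced (B ⊗[A] Ahat) := by
  let φ : B ⊗[A] Ahat →ₐ[A] R ⊗[A] K' :=
    ((Algebra.TensorProduct.comm A K' R : K' ⊗[A] R →ₐ[A] R ⊗[A] K')).comp
      (Algebra.TensorProduct.map f g)
  have hφ : Function.Injective φ := by
    have h1 : Function.Injective (Algebra.TensorProduct.map f g) := by
      have e : (Algebra.TensorProduct.map f g : B ⊗[A] Ahat → K' ⊗[A] R) =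
          (LinearMap.lTensor K' g.toLinearMap) ∘ (LinearMap.rTensor Ahat f.toLinearMap) := by
        ext x
        induction x using TensorProduct.induction_on with
        | zero => simp
        | tmul b a => simp
        | add x y hx hy => simp only [map_add, hx, hy, Function.comp_apply]
      rw [e]
      exact (Module.Flat.lTensor_preserves_injective_linearMap _ hg).comp
        (Module.Flat.rTensor_preserves_injective_linearMap _ hf)
    exact (Algebra.TensorProduct.comm A K' R).injective.comp h1
  exact isReduced_of_injective φ.toRingHom hφ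

theorem main {A K' R : Type u}
    [CommRing A] [IsDomain A] [IsLocalRing A] [IsNoetherianRing A]
    [CommRing R] [Algebra (AdicCompletion (IsLocalRing.maximalIdeal A) A) R]
    [IsFractionRing (AdicCompletion (IsLocalRing.maximalIdeal A) A) R] [Algebra A R]
    [IsScalarTower A (AdicCompletion (IsLocalRing.maximalIdeal A) A) R]
    [Field K'] [Algebra A K'] [Algebra (FractionRing A) K'] [IsScalarTower A (FractionRing A) K']
    [FiniteDimensional (FractionRing A) K'] (h : IsReduced (R ⊗[A] K')) :
    Module.Finite A (integralClosure A K') := by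
  obtain ⟨s, hsfin, hspan, hsint, hloc⟩ :=
    H8.Jap.AUK.exists_local_adjoin A (FractionRing A) K'
  let B := Algebra.adjoin A s
  have : Module.Finite A B := Module.Finite.iff_fg.mpr (fg_adjoin_of_finite hsfin hsint)
  have hinjL : Function.Injective (algebraMap A K') := by
    rw [IsScalarTower.algebraMap_eq A (FractionRing A) K']
    exact (algebraMap (FractionRing A) K').injective.comp
      (IsFractionRing.injective A (FractionRing A))
  have : IsLocalRing B := hloc
  have : IsNoetherianRing B := IsNoetherianRing.of_finite A B
  have hflatK : Module.Flat A K' := Module.Flat.trans A (FractionRing A) K'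
  have hredT : IsReduced (B ⊗[A] AdicCompletion (maximalIdeal A) A) :=
    isReduced_tensor_of_injective A B (AdicCompletion (maximalIdeal A) A) R K' B.val
      Subtype.val_injective
      (IsScalarTower.toAlgHom A (AdicCompletion (maximalIdeal A) A) R)
      (IsFractionRing.injective (AdicCompletion (maximalIdeal A) A) R) h
  have hredB : IsReduced (AdicCompletion (maximalIdeal B) B) :=
    H8.Jap.ComplRed.isReduced_adicCompletion_maximalIdeal_of_tensor A B hredT
  have hN1 : CAlg.IsN1 B := H8.Jap.isN1_of_isReduced_adicCompletion B
  have : IsFractionRing B K' := by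
    apply IsFractionRing.of_field
    intro z
    obtain ⟨d, hd, hdz⟩ := H8.Jap.AUK.exists_smul_mem_adjoin A (FractionRing A) K' s hspan z
    refine ⟨⟨d • z, hdz⟩, algebraMap A B d, ?_⟩
    have hd' : algebraMap A K' d ≠ 0 := fun h0 => hd (hinjL (by rw [h0, map_zero]))
    show z = (d • z) / algebraMap A K' d
    rw [Algebra.smul_def, mul_div_cancel_left₀ _ hd']
  have hfinB : Module.Finite B (integralClosure B K') := (H5.isN1_iff B K').mp hN1
  have : Module.Finite A (integralClosure B K') := Module.Finite.trans B _
  have : IsNoetherian A (integralClosure B K') := isNoetherian_of_isNoetherianRing_of_finite A _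
  let f : integralClosure A K' →ₗ[A] integralClosure B K' :=
    { toFun := fun x => ⟨x.1, IsIntegral.tower_top x.2⟩
      map_add' := fun _ _ => rfl
      map_smul' := fun _ _ => rfl }
  refine Module.Finite.of_injective f (fun x y hxy => Subtype.ext ?_)
  have := congrArg (fun w : integralClosure B K' => (w : K')) hxy
  exact this

end Groth.Agent.H3.ICFinRed
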