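import Mathlib
import Groth.Agent.S0543
import Groth.Agent.Lib.Helper8.Japanese.AU2
import Groth.Agent.Lib.Helper8.Japanese.NormFin5

/-!
# Integral closure of a Noetherian local domain: a finite model over the completion (helper3)

`E` is the integral closure of `Â` in `(Â ⊗_A K')_red`; it is a finite `Â`-module because `Â` is
a Nagata ring.
-/

set_option autoImplicit false
universe u
open TensorProduct IsLocalRing

namespace Groth.Agent.H3.IntClSemi

variable (A K' : Type u) [CommRing A] [IsDomain A] [IsLocalRing A] [IsNoetherianRing A]
  [Field K'] [Algebra A K'] [Algebra (FractionRing A) K'] [IsScalarTower A (FractionRing A) K']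
  [FiniteDimensional (FractionRing A) K']

/-- the completion -/
abbrev Ah : Type u := AdicCompletion (maximalIdeal A) A

/-- `Â ⊗_A K'` -/
abbrev T : Type u := Ah A ⊗[A] K'

/-- `(Â ⊗_A K')_red` -/
abbrev Tred : Type u := T A K' ⧸ nilradical (T A K')

instance : IsNoetherianRing (Ah A) := Groth.Agent.S0543.result A (maximalIdeal A)

theorem essFiniteType_K' : Algebra.EssFiniteType A K' := by
  haveI : Algebra.EssFiniteType A (FractionRing A) :=
    Algebra.EssFiniteType.of_isLocalization (FractionRing A) (nonZeroDivisors A)
  haveI : Algebra.EssFiniteType (FractionRing A) K' := inferInstance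
  exact Algebra.EssFiniteType.comp A (FractionRing A) K'

theorem essFiniteType_T : Algebra.EssFiniteType (Ah A) (T A K') := by
  haveI := essFiniteType_K' A K'
  infer_instance

theorem isNoetherianRing_T : IsNoetherianRing (T A K') := by
  haveI := essFiniteType_T A K'
  exact Algebra.EssFiniteType.isNoetherianRing (Ah A) _

theorem essFiniteType_Tred : Algebra.EssFiniteType (Ah A) (Tred A K') := by
  haveI := essFiniteType_T A K'
  haveI : Algebra.EssFiniteType (T A K') (Tred A K') := inferInstance
  exact Algebra.EssFiniteType.comp (Ah A) (T A K') (Tred A K')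

/-- the integral closure of `Â` in `(Â ⊗ K')_red` -/
noncomputable abbrev E : Subalgebra (Ah A) (Tred A K') := integralClosure (Ah A) (Tred A K')

theorem finite_E : Module.Finite (Ah A) (E A K') := by
  haveI := essFiniteType_Tred A K'
  haveI := isNoetherianRing_T A K'
  haveI : IsNoetherianRing (Tred A K') := inferInstance
  haveI : IsReduced (Tred A K') := by
    rw [← Ideal.isRadical_iff_quotient_reduced]
    exact Ideal.radical_isRadical _
  exact H8.Jap.NormFin.finite_integralClosure_of_essFiniteType (Ah A) (Tred A K')
    (H8.Jap.isNagata_adicCompletion A)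

/-- `E` as a bare type with its commutative ring structure -/
def Et : Type u := ↥(E A K')

noncomputable instance : CommRing (Et A K') := inferInstanceAs (CommRing ↥(E A K'))

noncomputable instance : Algebra (Ah A) (Et A K') := inferInstanceAs (Algebra (Ah A) ↥(E A K'))

/-- the inclusion `E → (Â ⊗ K')_red` -/
noncomputable def Et.val : Et A K' →ₐ[Ah A] Tred A K' := (E A K').val

theorem Et.val_injective : Function.Injective (Et.val A K') := Subtype.val_injective

instance : Module.Finite (Ah A) (Et A K') := finite_E A K'

end Groth.Agent.H3.IntClSemi
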