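import Mathlib
import Groth.Agent.Lib.Helper3.CA.IntClSemi1

/-!
# Integral closure of a Noetherian local domain: finite subalgebras map to the finite model
(helper3)
-/

set_option autoImplicit false
universe u
open TensorProduct IsLocalRing

namespace Groth.Agent.H3.IntClSemi

variable (A K' : Type u) [CommRing A] [IsDomain A] [IsLocalRing A] [IsNoetherianRing A]
  [Field K'] [Algebra A K'] [Algebra (FractionRing A) K'] [IsScalarTower A (FractionRing A) K']
  [FiniteDimensional (FractionRing A) K']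
  (B : Type u) [CommRing B] [Algebra A B] [Module.Finite A B] (j : B →ₐ[A] K')

/-- `Â ⊗ B → Â ⊗ K'` -/
noncomputable def ι : Ah A ⊗[A] B →ₐ[Ah A] T A K' :=
  Algebra.TensorProduct.map (AlgHom.id (Ah A) (Ah A)) j

variable {B j} in
theorem ι_injective (hj : Function.Injective j) : Function.Injective (ι A K' B j) := by
  haveI : Module.Flat A (Ah A) := AdicCompletion.flat_of_isNoetherian _
  exact Module.Flat.lTensor_preserves_injective_linearMap (M := Ah A) j.toLinearMap hj

/-- `Â ⊗ B → (Â ⊗ K')_red` -/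
noncomputable def φ : Ah A ⊗[A] B →ₐ[Ah A] Tred A K' :=
  (Ideal.Quotient.mkₐ (Ah A) (nilradical (T A K'))).comp (ι A K' B j)

theorem φ_mem_E (c : Ah A ⊗[A] B) : φ A K' B j c ∈ E A K' :=
  IsIntegral.map (φ A K' B j) (Algebra.IsIntegral.isIntegral c)

/-- `Â ⊗ B → E` -/
noncomputable def ρ : Ah A ⊗[A] B →ₐ[Ah A] Et A K' :=
  (φ A K' B j).codRestrict (E A K') (φ_mem_E A K' B j)

variable {B j} in
theorem ker_ρ_le (hj : Function.Injective j) :
    RingHom.ker (ρ A K' B j).toRingHom ≤ nilradical (Ah A ⊗[A] B) := by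
  intro c hc
  have h1 : φ A K' B j c = 0 := congrArg Subtype.val hc
  have h2 : ι A K' B j c ∈ nilradical (T A K') := Ideal.Quotient.eq_zero_iff_mem.mp h1
  obtain ⟨n, hn⟩ := h2
  refine ⟨n, ι_injective A K' hj ?_⟩
  rw [map_pow, hn, map_zero]

/-- `B → E` -/
noncomputable def σ : B →+* Et A K' :=
  (ρ A K' B j).toRingHom.comp
    (Algebra.TensorProduct.includeRight : B →ₐ[A] Ah A ⊗[A] B).toRingHom

variable {B j} in
theorem exists_maximal_comap (hj : Function.Injective j) (n : Ideal B) [hn : n.IsMaximal] :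
    ∃ M : Ideal (Et A K'), M.IsMaximal ∧ M.comap (σ A K' B j) = n := by
  classical
  -- the contraction of `n` to `A` is the maximal ideal
  have hnA : n.comap (algebraMap A B) = maximalIdeal A :=
    IsLocalRing.eq_maximalIdeal (Ideal.isMaximal_comap_of_isIntegral_of_isMaximal n)
  -- `Â → A/𝔪 → B/n`
  let f0 : A ⧸ maximalIdeal A →ₐ[A] B ⧸ n :=
    Ideal.Quotient.liftₐ (maximalIdeal A) (Algebra.ofId A (B ⧸ n)) (fun a ha => by
      rw [← hnA] at ha
      show Ideal.Quotient.mk n (algebraMap A B a) = 0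
      exact Ideal.Quotient.eq_zero_iff_mem.mpr ha)
  let f : Ah A →ₐ[A] B ⧸ n := f0.comp (AdicCompletion.evalOneₐ (maximalIdeal A))
  let g : B →ₐ[A] B ⧸ n := Ideal.Quotient.mkₐ A n
  let ψ : Ah A ⊗[A] B →ₐ[A] B ⧸ n := Algebra.TensorProduct.lift f g (fun _ _ => Commute.all _ _)
  have hψ : ∀ b : B, ψ (1 ⊗ₜ b) = Ideal.Quotient.mk n b := fun b => by
    simp [ψ, g]
  haveI : (RingHom.ker ψ.toRingHom).IsPrime := RingHom.ker_isPrime _
  -- lying over along `ρ`
  letI : Algebra (Ah A ⊗[A] B) (Et A K') := (ρ A K' B j).toRingHom.toAlgebra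
  haveI : IsScalarTower (Ah A) (Ah A ⊗[A] B) (Et A K') :=
    IsScalarTower.of_algebraMap_eq (fun x => ((ρ A K' B j).commutes x).symm)
  haveI : Algebra.IsIntegral (Ah A) (Et A K') := inferInstance
  haveI : Algebra.IsIntegral (Ah A ⊗[A] B) (Et A K') := Algebra.IsIntegral.tower_top (Ah A)
  obtain ⟨Q, -, hQp, hQ⟩ := Ideal.exists_ideal_over_prime_of_isIntegral
    (RingHom.ker ψ.toRingHom) (⊥ : Ideal (Et A K')) (by
      intro c hc
      have hc' : c ∈ RingHom.ker (ρ A K' B j).toRingHom := by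
        rw [Ideal.mem_comap, Ideal.mem_bot] at hc
        exact hc
      have hnil := ker_ρ_le A K' hj hc'
      exact (nilradical_le_prime _) hnil)
  obtain ⟨M, hM, hQM⟩ := Ideal.exists_le_maximal Q hQp.ne_top
  refine ⟨M, hM, ?_⟩
  have hle : n ≤ M.comap (σ A K' B j) := by
    intro b hb
    rw [Ideal.mem_comap]
    apply hQM
    have : (1 : Ah A) ⊗ₜ[A] b ∈ Q.comap (algebraMap (Ah A ⊗[A] B) (Et A K')) := by
      rw [hQ, RingHom.mem_ker]
      show ψ (1 ⊗ₜ b) = 0
      rw [hψ]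
      exact Ideal.Quotient.eq_zero_iff_mem.mpr hb
    exact this
  have hne : M.comap (σ A K' B j) ≠ ⊤ := (Ideal.comap_isPrime _ _).ne_top
  exact (hn.eq_of_le hne hle).symm

end Groth.Agent.H3.IntClSemi
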