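import Mathlib
import Groth.Agent.Lib.Helper3.CA.IntClSemi2
import Groth.Agent.Lib.Helper9.FinLocal

/-!
# Integral closure of a Noetherian local domain: uniform bounds for finite subalgebras (helper3)
-/

set_option autoImplicit false
universe u
open TensorProduct IsLocalRing

namespace Groth.Agent.H3.IntClSemi

variable (A K' : Type u) [CommRing A] [IsDomain A] [IsLocalRing A] [IsNoetherianRing A]
  [Field K'] [Algebra A K'] [Algebra (FractionRing A) K'] [IsScalarTower A (FractionRing A) K']
  [FiniteDimensional (FractionRing A) K']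

noncomputable instance : Algebra A (Et A K') :=
  ((algebraMap (Ah A) (Et A K')).comp (algebraMap A (Ah A))).toAlgebra

instance : IsScalarTower A (Ah A) (Et A K') := IsScalarTower.of_algebraMap_eq (fun _ => rfl)

theorem finite_maxSpec : Finite (MaximalSpectrum (Et A K')) :=
  H9.FinLocal.finite_maximalSpectrum (Ah A) (Et A K')

theorem comap_maximal (M : Ideal (Et A K')) [M.IsMaximal] :
    M.comap (algebraMap (Ah A) (Et A K')) = maximalIdeal (Ah A) :=
  IsLocalRing.eq_maximalIdeal (Ideal.isMaximal_comap_of_isIntegral_of_isMaximal M)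

/-- `Â = A + 𝔪̂` -/
theorem exists_sub_mem (x : Ah A) : ∃ a : A, x - algebraMap A (Ah A) a ∈ maximalIdeal (Ah A) := by
  obtain ⟨a, ha⟩ := Ideal.Quotient.mk_surjective (AdicCompletion.evalOneₐ (maximalIdeal A) x)
  refine ⟨a, ?_⟩
  rw [AdicCompletion.maximalIdeal_eq_map,
    ← AdicCompletion.ker_evalOneₐ_eq_map (maximalIdeal A) (IsNoetherian.noetherian _),
    RingHom.mem_ker]
  show AdicCompletion.evalOneₐ (maximalIdeal A) (x - algebraMap A (Ah A) a) = 0
  rw [map_sub, ← ha]
  simp

theorem smul_eq_zero_of_mem (M : Ideal (Et A K')) [M.IsMaximal] (m : Ah A)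
    (hm : m ∈ maximalIdeal (Ah A)) (y : Et A K' ⧸ M) : m • y = 0 := by
  obtain ⟨y, rfl⟩ := Ideal.Quotient.mk_surjective y
  rw [← comap_maximal A K' M, Ideal.mem_comap] at hm
  rw [Algebra.smul_def]
  show Ideal.Quotient.mk M (algebraMap (Ah A) (Et A K') m) * Ideal.Quotient.mk M y = 0
  rw [← map_mul, Ideal.Quotient.eq_zero_iff_mem]
  exact Ideal.mul_mem_right _ _ hm

theorem finite_quot (M : Ideal (Et A K')) [M.IsMaximal] : Module.Finite A (Et A K' ⧸ M) := by
  classical
  haveI : Module.Finite (Ah A) (Et A K' ⧸ M) := inferInstance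
  obtain ⟨s, hs⟩ := Module.Finite.fg_top (R := Ah A) (M := Et A K' ⧸ M)
  refine ⟨s, eq_top_iff.mpr fun x _ => ?_⟩
  have hx : x ∈ Submodule.span (Ah A) (s : Set (Et A K' ⧸ M)) := by rw [hs]; trivial
  refine Submodule.span_induction ?_ ?_ ?_ ?_ hx
  · intro y hy
    exact Submodule.subset_span hy
  · exact Submodule.zero_mem _
  · intro y z _ _ hy hz
    exact Submodule.add_mem _ hy hz
  · intro c y _ hy
    obtain ⟨a, ha⟩ := exists_sub_mem A c
    have : c • y = a • y := by
      have h0 := smul_eq_zero_of_mem A K' M _ ha y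
      rw [sub_smul, sub_eq_zero] at h0
      rw [h0, algebraMap_smul]
    rw [this]
    exact Submodule.smul_mem _ _ hy

theorem length_ne_top (M : Ideal (Et A K')) [M.IsMaximal] :
    Module.length A (Et A K' ⧸ M) ≠ ⊤ := by
  have h𝔪 : ∀ a ∈ maximalIdeal A, algebraMap A (Et A K' ⧸ M) a = 0 := by
    intro a ha
    have h1 : algebraMap A (Ah A) a ∈ maximalIdeal (Ah A) := by
      rw [AdicCompletion.maximalIdeal_eq_map]
      exact Ideal.mem_map_of_mem _ ha
    have h2 := smul_eq_zero_of_mem A K' M _ h1 (1 : Et A K' ⧸ M)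
    rw [algebraMap_smul] at h2
    rw [Algebra.algebraMap_eq_smul_one, h2]
  letI : Algebra (ResidueField A) (Et A K' ⧸ M) :=
    (Ideal.Quotient.lift (maximalIdeal A) (algebraMap A (Et A K' ⧸ M)) h𝔪 :
      ResidueField A →+* Et A K' ⧸ M).toAlgebra
  haveI : IsScalarTower A (ResidueField A) (Et A K' ⧸ M) :=
    IsScalarTower.of_algebraMap_eq (fun _ => rfl)
  haveI := finite_quot A K' M
  haveI : Module.Finite (ResidueField A) (Et A K' ⧸ M) :=
    Module.Finite.of_restrictScalars_finite A _ _
  haveI : IsArtinian (ResidueField A) (Et A K' ⧸ M) := isArtinian_of_fg_of_artinian'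
  rw [Module.length_eq_of_surjective (R := ResidueField A) (S := A)
    (IsLocalRing.residue_surjective)]
  exact Module.length_ne_top

theorem exists_bound_maximal : ∃ d : ℕ, ∀ (M : Ideal (Et A K')) [M.IsMaximal],
    Module.length A (Et A K' ⧸ M) ≤ d := by
  classical
  haveI := finite_maxSpec A K'
  by_cases hne : Nonempty (MaximalSpectrum (Et A K'))
  · obtain ⟨M0, hM0⟩ := Finite.exists_max
      (fun M : MaximalSpectrum (Et A K') => (Module.length A (Et A K' ⧸ M.asIdeal)).toNat)
    refine ⟨(Module.length A (Et A K' ⧸ M0.asIdeal)).toNat, fun M hM => ?_⟩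
    have h1 := hM0 ⟨M, hM⟩
    have h2 : Module.length A (Et A K' ⧸ M) ≠ ⊤ := length_ne_top A K' M
    rw [← ENat.natCast_toNat h2]
    exact_mod_cast h1
  · exact ⟨0, fun M hM => (hne ⟨⟨M, hM⟩⟩).elim⟩

variable (B : Type u) [CommRing B] [Algebra A B] [Module.Finite A B] (j : B →ₐ[A] K')

theorem σ_algebraMap (a : A) : σ A K' B j (algebraMap A B a) = algebraMap A (Et A K') a := by
  show (ρ A K' B j) ((1 : Ah A) ⊗ₜ[A] (algebraMap A B a)) = _
  have : (1 : Ah A) ⊗ₜ[A] (algebraMap A B a) =
      algebraMap (Ah A) (Ah A ⊗[A] B) (algebraMap A (Ah A) a) := by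
    rw [Algebra.TensorProduct.algebraMap_apply, Algebra.algebraMap_eq_smul_one,
      TensorProduct.tmul_smul, TensorProduct.smul_tmul', Algebra.algebraMap_eq_smul_one]
    rfl
  rw [this, AlgHom.commutes]
  rfl

variable {B j} in
theorem exists_maximal_length_le (hj : Function.Injective j) (n : Ideal B) [n.IsMaximal] :
    ∃ M : Ideal (Et A K'), M.IsMaximal ∧ M.comap (σ A K' B j) = n ∧
      Module.length A (B ⧸ n) ≤ Module.length A (Et A K' ⧸ M) := by
  obtain ⟨M, hM, hMn⟩ := exists_maximal_comap A K' hj n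
  refine ⟨M, hM, hMn, ?_⟩
  let g : B ⧸ n →+* Et A K' ⧸ M := Ideal.quotientMap M (σ A K' B j) hMn.ge
  have hg : Function.Injective g := Ideal.quotientMap_injective' hMn.le
  let gl : B ⧸ n →ₗ[A] Et A K' ⧸ M :=
    { toFun := g
      map_add' := map_add g
      map_smul' := fun a x => by
        obtain ⟨b, rfl⟩ := Ideal.Quotient.mk_surjective x
        rw [RingHom.id_apply, Algebra.smul_def, Algebra.smul_def, map_mul]
        congr 1
        show g (Ideal.Quotient.mk n (algebraMap A B a)) = _
        rw [Ideal.quotientMap_mk, σ_algebraMap]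
        rfl }
  exact Module.length_le_of_injective gl hg

variable {B j} in
theorem card_le (hj : Function.Injective j) (F : Finset (Ideal B)) (hF : ∀ n ∈ F, n.IsMaximal) :
    F.card ≤ Nat.card (MaximalSpectrum (Et A K')) := by
  classical
  haveI := finite_maxSpec A K'
  have hex : ∀ n : F, ∃ M : MaximalSpectrum (Et A K'), M.asIdeal.comap (σ A K' B j) = n.1 := by
    intro n
    haveI := hF n.1 n.2
    obtain ⟨M, hM, hMn⟩ := exists_maximal_comap A K' hj n.1
    exact ⟨⟨M, hM⟩, hMn⟩
  choose g hg using hex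
  have hinj : Function.Injective g := by
    intro n n' h
    apply Subtype.ext
    rw [← hg n, ← hg n', h]
  have := Nat.card_le_card_of_injective g hinj
  simpa using this

end Groth.Agent.H3.IntClSemi
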