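import Mathlib
import Groth.Agent.Lib.Helper3.CA.IntClSemi3

/-!
# The integral closure of a Noetherian local domain in a finite extension of its fraction field
is semi-local with finite residue fields (helper3)
-/

set_option autoImplicit false
universe u
open TensorProduct IsLocalRing

namespace Groth.Agent.H3.IntClSemi

variable (A K' : Type u) [CommRing A] [IsDomain A] [IsLocalRing A] [IsNoetherianRing A]
  [Field K'] [Algebra A K'] [Algebra (FractionRing A) K'] [IsScalarTower A (FractionRing A) K']
  [FiniteDimensional (FractionRing A) K']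

/-- the finite subalgebra of the integral closure generated by a finite set -/
noncomputable abbrev BX (X : Finset (integralClosure A K')) : Subalgebra A (integralClosure A K') :=
  Algebra.adjoin A (X : Set (integralClosure A K'))

instance (X : Finset (integralClosure A K')) : Module.Finite A (BX A K' X) :=
  Algebra.finite_adjoin_of_finite_of_isIntegral X.finite_toSet
    (fun x _ => Algebra.IsIntegral.isIntegral x)

/-- the embedding into `K'` -/
noncomputable abbrev jX (X : Finset (integralClosure A K')) : BX A K' X →ₐ[A] K' :=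
  (integralClosure A K').val.comp (BX A K' X).val

theorem jX_injective (X : Finset (integralClosure A K')) : Function.Injective (jX A K' X) :=
  Subtype.val_injective.comp Subtype.val_injective

instance (X : Finset (integralClosure A K')) :
    Algebra.IsIntegral (BX A K' X) (integralClosure A K') :=
  Algebra.IsIntegral.tower_top A

theorem finite_maximal : {m : Ideal (integralClosure A K') | m.IsMaximal}.Finite := by
  classical
  by_contra hinf
  have hinf' : {m : Ideal (integralClosure A K') | m.IsMaximal}.Infinite := hinf
  set t := Nat.card (MaximalSpectrum (Et A K')) with ht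
  obtain ⟨F', hF', hcard⟩ := hinf'.exists_subset_card_eq (t + 1)
  -- separating elements
  have hsep : ∀ p : F' × F', p.1 ≠ p.2 →
      ∃ x : integralClosure A K', x ∈ p.1.1 ∧ x ∉ p.2.1 := by
    intro p hp
    by_contra hcon
    push Not at hcon
    have hle : p.1.1 ≤ p.2.1 := fun x hx => hcon x hx
    have h1 : p.1.1.IsMaximal := hF' p.1.2
    have h2 : p.2.1.IsMaximal := hF' p.2.2
    exact hp (Subtype.ext (h1.eq_of_le h2.ne_top hle))
  let c : F' × F' → integralClosure A K' := fun p =>
    if h : p.1 ≠ p.2 then (hsep p h).choose else 0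
  have hc : ∀ p : F' × F', p.1 ≠ p.2 → c p ∈ p.1.1 ∧ c p ∉ p.2.1 := by
    intro p hp
    simp only [c, dif_pos hp]
    exact (hsep p hp).choose_spec
  let X : Finset (integralClosure A K') := Finset.univ.image c
  have hXmem : ∀ p, c p ∈ BX A K' X := fun p =>
    Algebra.subset_adjoin (Finset.mem_coe.mpr (Finset.mem_image_of_mem c (Finset.mem_univ p)))
  let F : Finset (Ideal (BX A K' X)) := F'.image (fun m => m.comap (algebraMap (BX A K' X) _))
  have hFmax : ∀ n ∈ F, n.IsMaximal := by
    intro n hn
    obtain ⟨m, hm, rfl⟩ := Finset.mem_image.mp hn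
    haveI : m.IsMaximal := hF' hm
    exact Ideal.isMaximal_comap_of_isIntegral_of_isMaximal m
  have hFcard : F.card = t + 1 := by
    rw [← hcard]
    apply Finset.card_image_of_injOn
    intro m hm m' hm' heq
    by_contra hne
    have hne' : (⟨m, hm⟩ : F') ≠ ⟨m', hm'⟩ := fun h => hne (congrArg Subtype.val h)
    obtain ⟨h1, h2⟩ := hc (⟨m, hm⟩, ⟨m', hm'⟩) hne'
    have h3 : (⟨c (⟨m, hm⟩, ⟨m', hm'⟩), hXmem _⟩ : BX A K' X) ∈
        m.comap (algebraMap (BX A K' X) (integralClosure A K')) := h1
    simp only at heq
    rw [heq] at h3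
    exact h2 h3
  have := card_le A K' (jX_injective A K' X) F hFmax
  omega

end Groth.Agent.H3.IntClSemi

namespace Groth.Agent.H3.IntClSemi

variable (A K' : Type u) [CommRing A] [IsDomain A] [IsLocalRing A] [IsNoetherianRing A]
  [Field K'] [Algebra A K'] [Algebra (FractionRing A) K'] [IsScalarTower A (FractionRing A) K']
  [FiniteDimensional (FractionRing A) K']

/-- strict increase of length for a strict inclusion of submodules with finite length -/
theorem length_lt_of_lt {R M : Type*} [CommRing R] [AddCommGroup M] [Module R M]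
    (N₀ N₁ : Submodule R M) (hle : N₀ ≤ N₁) (hne : N₀ ≠ N₁) (hfin : Module.length R N₀ ≠ ⊤) :
    Module.length R N₀ < Module.length R N₁ := by
  let i : N₀ →ₗ[R] N₁ := Submodule.inclusion hle
  have hi : Function.Injective i := Submodule.inclusion_injective hle
  have h := Module.length_eq_add_of_exact i (LinearMap.range i).mkQ hi
    (Submodule.mkQ_surjective _) (LinearMap.exact_map_mkQ_range i)
  have hnt : Module.length R (N₁ ⧸ LinearMap.range i) ≠ 0 := by
    rw [Ne, Module.length_eq_zero_iff, Submodule.Quotient.subsingleton_iff]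
    intro htop
    apply hne
    apply le_antisymm hle
    intro x hx
    have : (⟨x, hx⟩ : N₁) ∈ LinearMap.range i := by rw [htop]; trivial
    obtain ⟨y, hy⟩ := this
    have : (y : M) = x := congrArg Subtype.val hy
    rw [← this]
    exact y.2
  rw [h]
  generalize Module.length R (N₁ ⧸ LinearMap.range i) = b at hnt
  generalize Module.length R N₀ = a at hfin
  lift a to ℕ using hfin
  cases b with
  | top => simp
  | coe b =>
    have hb : b ≠ 0 := fun h => hnt (by simp [h])
    exact_mod_cast (by omega : a < a + b)

theorem finite_residue (m : Ideal (integralClosure A K')) [hm : m.IsMaximal] :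
    Module.Finite A (integralClosure A K' ⧸ m) := by
  classical
  obtain ⟨d, hd⟩ := exists_bound_maximal A K'
  -- for a finite set `X`, the `A`-linear map `B_X → A'/m`
  let f : ∀ X : Finset (integralClosure A K'), BX A K' X →ₗ[A] (integralClosure A K' ⧸ m) :=
    fun X => (Ideal.Quotient.mkₐ A m).toLinearMap ∘ₗ (BX A K' X).val.toLinearMap
  have hlen : ∀ X, Module.length A (LinearMap.range (f X)) ≤ d := by
    intro X
    let n : Ideal (BX A K' X) := m.comap (algebraMap (BX A K' X) (integralClosure A K'))
    haveI : n.IsMaximal := Ideal.isMaximal_comap_of_isIntegral_of_isMaximal m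
    obtain ⟨M, hM, -, hle⟩ := exists_maximal_length_le A K' (jX_injective A K' X) n
    have hker : LinearMap.ker (f X) = n.restrictScalars A := by
      ext b
      simp only [LinearMap.mem_ker, Submodule.restrictScalars_mem]
      show Ideal.Quotient.mk m (b : integralClosure A K') = 0 ↔ _
      rw [Ideal.Quotient.eq_zero_iff_mem]
      rfl
    have e : (BX A K' X ⧸ n) ≃ₗ[A] LinearMap.range (f X) :=
      ((Submodule.Quotient.restrictScalarsEquiv A n).symm.trans
        (Submodule.quotEquivOfEq _ _ hker.symm)).trans (LinearMap.quotKerEquivRange (f X))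
    rw [← e.length_eq]
    exact hle.trans (hd M)
  have hfin : ∀ X, Module.length A (LinearMap.range (f X)) ≠ ⊤ := fun X =>
    ne_top_of_le_ne_top (ENat.natCast_ne_top d) (hlen X)
  -- choose `X` with maximal length
  let S : Set ℕ := {k | ∃ X, Module.length A (LinearMap.range (f X)) = k}
  have hSne : S.Nonempty := ⟨_, ∅, (ENat.natCast_toNat (hfin ∅)).symm⟩
  have hSbdd : BddAbove S := ⟨d, fun k ⟨X, hX⟩ => by
    have := hlen X
    rw [hX] at this
    exact_mod_cast this⟩
  obtain ⟨X0, hX0⟩ := Nat.sSup_mem hSne hSbdd
  have hsurj : LinearMap.range (f X0) = ⊤ := by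
    by_contra hne
    obtain ⟨y, hy⟩ : ∃ y : integralClosure A K' ⧸ m, y ∉ LinearMap.range (f X0) := by
      by_contra h
      push Not at h
      exact hne (eq_top_iff.mpr fun y _ => h y)
    obtain ⟨y, rfl⟩ := Ideal.Quotient.mk_surjective y
    have hle : LinearMap.range (f X0) ≤ LinearMap.range (f (insert y X0)) := by
      rintro _ ⟨b, rfl⟩
      exact ⟨⟨b.1, Algebra.adjoin_mono (Finset.coe_subset.mpr (Finset.subset_insert _ _)) b.2⟩, rfl⟩
    have hy1 : Ideal.Quotient.mk m y ∈ LinearMap.range (f (insert y X0)) :=
      ⟨⟨y, Algebra.subset_adjoin (by simp)⟩, rfl⟩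
    have hlt := length_lt_of_lt _ _ hle (fun h => hy (h ▸ hy1)) (hfin X0)
    have hmem : (Module.length A (LinearMap.range (f (insert y X0)))).toNat ∈ S :=
      ⟨insert y X0, (ENat.natCast_toNat (hfin _)).symm⟩
    have hle' := le_csSup hSbdd hmem
    rw [hX0, ← ENat.natCast_toNat (hfin (insert y X0))] at hlt
    have : sSup S < (Module.length A (LinearMap.range (f (insert y X0)))).toNat := by
      exact_mod_cast hlt
    omega
  exact Module.Finite.of_surjective (f X0) (LinearMap.range_eq_top.mp hsurj)

theorem main :
    {m : Ideal (integralClosure A K') | m.IsMaximal}.Finite ∧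
      ∀ (m : Ideal (integralClosure A K')), m.IsMaximal →
        Module.Finite A (integralClosure A K' ⧸ m) :=
  ⟨finite_maximal A K', fun m hm => by haveI := hm; exact finite_residue A K' m⟩

end Groth.Agent.H3.IntClSemi
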