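import Groth.Agent.Lib.Helper3.CA.JacobianQuot

set_option autoImplicit false
universe u

namespace Groth.Agent.H3.Jac

open TensorProduct IsLocalRing KaehlerDifferential

theorem hypersurface
    (R A : Type u) [CommRing R] [CommRing A] [IsNoetherianRing R] [Algebra R A]
    [Algebra.FiniteType R A]
    (F : A) (P : Ideal (A ⧸ Ideal.span ({F} : Set A))) [P.IsPrime]
    (hX : Algebra.IsSmoothAt R (P.comap (Ideal.Quotient.mk (Ideal.span ({F} : Set A))))) :
    Algebra.IsSmoothAt R P ↔
      algebraMap A (Localization.AtPrime
        (P.comap (Ideal.Quotient.mk (Ideal.span ({F} : Set A))))) F = 0 ∨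
      (1 : (P.comap (Ideal.Quotient.mk (Ideal.span ({F} : Set A)))).ResidueField) ⊗ₜ[A]
        KaehlerDifferential.D R A F ≠ 0 := by
  classical
  have : IsNoetherianRing A := Algebra.FiniteType.isNoetherianRing R A
  rw [isSmoothAt_quotient_iff R A _ P hX]
  have hFq : F ∈ P.comap (Ideal.Quotient.mk (Ideal.span ({F} : Set A))) := by
    rw [Ideal.mem_comap, Ideal.Quotient.eq_zero_iff_mem.mpr (Ideal.mem_span_singleton_self F)]
    exact zero_mem _
  have hF0 : algebraMap A (P.comap (Ideal.Quotient.mk (Ideal.span ({F} : Set A)))).ResidueField F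
      = 0 := by
    rw [IsScalarTower.algebraMap_apply A (Localization.AtPrime
      (P.comap (Ideal.Quotient.mk (Ideal.span ({F} : Set A))))) _]
    change residue _ _ = 0
    rw [residue_eq_zero_iff, ← Localization.AtPrime.map_eq_maximalIdeal]
    exact Ideal.mem_map_of_mem _ hFq
  constructor
  · rintro ⟨s, hsI, hJ, hli⟩
    by_cases hs : s = ∅
    · left
      subst hs
      rw [Finset.coe_empty, Set.image_empty, Ideal.span_empty] at hJ
      have : algebraMap A _ F ∈ Ideal.map (algebraMap A (Localization.AtPrime
          (P.comap (Ideal.Quotient.mk (Ideal.span ({F} : Set A)))))) (Ideal.span ({F} : Set A)) :=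
        Ideal.mem_map_of_mem _ (Ideal.mem_span_singleton_self F)
      rw [hJ] at this
      exact this
    · right
      obtain ⟨g, hg⟩ := Finset.nonempty_iff_ne_empty.mpr hs
      have hne := hli.ne_zero ⟨g, hg⟩
      obtain ⟨a, ha⟩ := Ideal.mem_span_singleton'.mp (hsI hg)
      intro h0
      apply hne
      change (1 : (P.comap (Ideal.Quotient.mk (Ideal.span ({F} : Set A)))).ResidueField) ⊗ₜ[A]
        KaehlerDifferential.D R A g = 0
      rw [← ha, Derivation.leibniz, TensorProduct.tmul_add, TensorProduct.tmul_smul,
        TensorProduct.tmul_smul, h0, smul_zero, zero_add, TensorProduct.smul_tmul',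
        Algebra.smul_def, hF0, zero_mul, TensorProduct.zero_tmul]
  · rintro (h0 | hne)
    · refine ⟨∅, by simp, ?_, ?_⟩
      · rw [Finset.coe_empty, Set.image_empty, Ideal.span_empty, Ideal.map_span,
          Set.image_singleton, h0]
        simp
      · exact linearIndependent_empty_type
    · refine ⟨{F}, ?_, ?_, ?_⟩
      · intro x hx
        rw [Finset.coe_singleton, Set.mem_singleton_iff] at hx
        subst hx
        exact Ideal.mem_span_singleton_self x
      · rw [Ideal.map_span, Finset.coe_singleton]
      · change LinearIndepOn _ (fun g : A =>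
          (1 : (P.comap (Ideal.Quotient.mk (Ideal.span ({F} : Set A)))).ResidueField) ⊗ₜ[A]
            KaehlerDifferential.D R A g) (↑({F} : Finset A) : Set A)
        rw [Finset.coe_singleton, linearIndepOn_singleton_iff]
        exact hne

end Groth.Agent.H3.Jac
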