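import Mathlib

/-!
# Local Jacobian criterion: module-theoretic part (helper3)
-/

set_option autoImplicit false

namespace Groth.Agent.H3.Jac

open TensorProduct IsLocalRing KaehlerDifferential

section ModuleTheory

variable {S : Type*} [CommRing S] [IsLocalRing S]
variable {N V : Type*} [AddCommGroup N] [Module S N] [AddCommGroup V] [Module (ResidueField S) V]

/-- If `φ : k ⊗ N → V` is injective and `f '' G` spans the finite module `N`, there is a finite
subset of `G` whose image still spans `N` and such that the `φ (1 ⊗ f i)` are linearly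
independent. -/
theorem exists_finset_of_injective [Module.Finite S N]
    (φ : ResidueField S ⊗[S] N →ₗ[ResidueField S] V) (hφ : Function.Injective φ)
    {ι : Type*} [DecidableEq ι] (f : ι → N) (G : Set ι)
    (hG : Submodule.span S (f '' G) = ⊤) :
    ∃ s : Finset ι, (↑s : Set ι) ⊆ G ∧ Submodule.span S (f '' (↑s : Set ι)) = ⊤ ∧
      LinearIndependent (ResidueField S) (fun i : ↥s => φ ((1 : ResidueField S) ⊗ₜ[S] f i)) := by
  classical
  let v : G → ResidueField S ⊗[S] N := fun i => (1 : ResidueField S) ⊗ₜ[S] f i
  have hv : Submodule.span (ResidueField S) (Set.range v) = ⊤ := by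
    have h1 := Submodule.baseChange_span (A := ResidueField S) (f '' G) (R := S)
    rw [hG, Submodule.baseChange_top] at h1
    rw [h1]
    congr 1
    ext x
    simp [v]
  obtain ⟨κ, a, ha, hspan, hli⟩ := exists_linearIndependent' (ResidueField S) v
  rw [hv] at hspan
  have : Finite κ := LinearIndependent.finite hli
  have : Fintype κ := Fintype.ofFinite κ
  let b : Module.Basis κ (ResidueField S) (ResidueField S ⊗[S] N) :=
    Module.Basis.mk hli hspan.ge
  have hb : Submodule.span S (Set.range (fun x : κ => f (a x))) = ⊤ :=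
    span_eq_top_of_tmul_eq_basis (fun x : κ => f (a x)) b (fun x => by
      simp [b, v])
  refine ⟨Finset.univ.image (fun x : κ => ((a x : G) : ι)), ?_, ?_, ?_⟩
  · intro i hi
    simp only [Finset.coe_image, Finset.coe_univ, Set.image_univ, Set.mem_range] at hi
    obtain ⟨x, rfl⟩ := hi
    exact (a x).2
  · rw [← hb]
    congr 1
    ext n
    simp
  · have hli2 : LinearIndependent (ResidueField S) (φ ∘ v ∘ a) :=
      hli.map' φ (LinearMap.ker_eq_bot.mpr hφ)
    have hmem : ∀ i : ↥(Finset.univ.image (fun x : κ => ((a x : G) : ι))), ∃ x : κ,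
        ((a x : G) : ι) = i := by
      intro i
      have := i.2
      simp only [Finset.mem_image, Finset.mem_univ, true_and] at this
      exact this
    choose c hc using hmem
    have hcinj : Function.Injective c := by
      intro i j hij
      apply Subtype.ext
      rw [← hc i, ← hc j, hij]
    have := hli2.comp c hcinj
    convert this using 1
    funext i
    simp [v, hc i]

/-- Conversely, if a family spans `N` and its image under `φ (1 ⊗ -)` is linearly independent,
`φ` is injective. -/
theorem injective_of_linearIndependent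
    (φ : ResidueField S ⊗[S] N →ₗ[ResidueField S] V)
    {ι : Type*} (f : ι → N) (s : Finset ι)
    (hs : Submodule.span S (f '' (↑s : Set ι)) = ⊤)
    (hli : LinearIndependent (ResidueField S)
      (fun i : ↥s => φ ((1 : ResidueField S) ⊗ₜ[S] f i))) :
    Function.Injective φ := by
  let v : ↥s → ResidueField S ⊗[S] N := fun i => (1 : ResidueField S) ⊗ₜ[S] f i
  have hv : Submodule.span (ResidueField S) (Set.range v) = ⊤ := by
    have h1 := Submodule.baseChange_span (A := ResidueField S) (f '' (↑s : Set ι)) (R := S)
    rw [hs, Submodule.baseChange_top] at h1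
    rw [h1]
    congr 1
    ext x
    simp [v]
  exact LinearMap.injective_of_linearIndependent hv hli

end ModuleTheory

section LocalQuot

variable (R : Type*) {S : Type*} [CommRing R] [CommRing S] [Algebra R S] [IsLocalRing S]

theorem formallySmooth_quotient_iff_exists
    [Algebra.FormallySmooth R S] [Module.Free S Ω[S⁄R]] [Module.Finite S Ω[S⁄R]]
    (J : Ideal S) (hJ : J ≤ maximalIdeal S) (hfg : J.FG)
    {ι : Type*} [DecidableEq ι] (f : ι → S) (G : Set ι) (hG : Ideal.span (f '' G) = J) :
    Algebra.FormallySmooth R (S ⧸ J) ↔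
      ∃ s : Finset ι, (↑s : Set ι) ⊆ G ∧ J = Ideal.span (f '' (↑s : Set ι)) ∧
        LinearIndependent (ResidueField S)
          (fun i : ↥s => (1 : ResidueField S) ⊗ₜ[S] KaehlerDifferential.D R S (f i)) := by
  classical
  have hJtop : J ≠ ⊤ := fun h => (maximalIdeal.isMaximal S).ne_top (top_le_iff.mp (h ▸ hJ))
  have : Nontrivial (S ⧸ J) := Ideal.Quotient.nontrivial_iff.mpr hJtop
  have : IsLocalRing (S ⧸ J) :=
    IsLocalRing.of_surjective' (Ideal.Quotient.mk J) Ideal.Quotient.mk_surjective
  let g : S ⧸ J →+* ResidueField S := Ideal.Quotient.lift J (residue S)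
    (fun a ha => (residue_eq_zero_iff a).mpr (hJ ha))
  let _ : Algebra (S ⧸ J) (ResidueField S) := g.toAlgebra
  have : IsScalarTower S (S ⧸ J) (ResidueField S) :=
    IsScalarTower.of_algebraMap_eq' (RingHom.ext fun x => rfl)
  have h₁ : Function.Surjective (algebraMap S (S ⧸ J)) := Ideal.Quotient.mk_surjective
  have hker : RingHom.ker (algebraMap S (S ⧸ J)) = J := Ideal.mk_ker
  have h₂ : (RingHom.ker (algebraMap S (S ⧸ J))).FG := by rw [hker]; exact hfg
  have h₃ : maximalIdeal (S ⧸ J) ≤ RingHom.ker (algebraMap (S ⧸ J) (ResidueField S)) := by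
    intro x hx
    obtain ⟨a, rfl⟩ := Ideal.Quotient.mk_surjective x
    rw [RingHom.mem_ker]
    change residue S a = 0
    rw [residue_eq_zero_iff]
    rw [mem_maximalIdeal, mem_nonunits_iff] at hx ⊢
    exact fun ha => hx (ha.map (Ideal.Quotient.mk J))
  rw [Algebra.FormallySmooth.iff_injective_cotangentComplexBaseChange S (ResidueField S) h₁ h₂ h₃]
  have : Module.Finite S ↥(RingHom.ker (algebraMap S (S ⧸ J))) := Module.Finite.of_fg h₂
  let f' : ι → ↥(RingHom.ker (algebraMap S (S ⧸ J))) := fun i =>
    if h : f i ∈ RingHom.ker (algebraMap S (S ⧸ J)) then ⟨f i, h⟩ else 0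
  have hfG : ∀ i ∈ G, f i ∈ RingHom.ker (algebraMap S (S ⧸ J)) := by
    intro i hi
    rw [hker, ← hG]
    exact Ideal.subset_span ⟨i, hi, rfl⟩
  have hf' : ∀ i ∈ G, ((f' i : ↥(RingHom.ker (algebraMap S (S ⧸ J)))) : S) = f i := by
    intro i hi
    change ((if h : f i ∈ RingHom.ker (algebraMap S (S ⧸ J)) then
      (⟨f i, h⟩ : ↥(RingHom.ker (algebraMap S (S ⧸ J)))) else 0 :
      ↥(RingHom.ker (algebraMap S (S ⧸ J)))) : S) = f i
    rw [dif_pos (hfG i hi)]
  have hφ : ∀ i ∈ G, cotangentComplexBaseChange R (S ⧸ J) S (ResidueField S)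
      ((1 : ResidueField S) ⊗ₜ[S] f' i) =
      (1 : ResidueField S) ⊗ₜ[S] KaehlerDifferential.D R S (f i) := by
    intro i hi
    rw [cotangentComplexBaseChange_tmul, one_smul, kerToTensor_apply]
    simp only [hf' i hi]
  have himage : ∀ t : Set ι, t ⊆ G →
      Submodule.map (RingHom.ker (algebraMap S (S ⧸ J))).subtype (Submodule.span S (f' '' t)) =
        Ideal.span (f '' t) := by
    intro t ht
    rw [Submodule.map_span, Set.image_image]
    congr 1
    apply Set.image_congr
    intro i hi
    exact hf' i (ht hi)
  constructor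
  · intro hinj
    have hspan : Submodule.span S (f' '' G) = ⊤ := by
      apply Submodule.map_injective_of_injective
        (f := (RingHom.ker (algebraMap S (S ⧸ J))).subtype) Subtype.val_injective
      rw [himage G subset_rfl, hG, Submodule.map_top, Submodule.range_subtype, hker]
    obtain ⟨s, hsG, hs, hli⟩ := exists_finset_of_injective _ hinj f' G hspan
    refine ⟨s, hsG, ?_, ?_⟩
    · rw [← himage _ hsG, hs, Submodule.map_top, Submodule.range_subtype, hker]
    · have heq : (fun i : ↥s => (1 : ResidueField S) ⊗ₜ[S] KaehlerDifferential.D R S (f i)) =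
          (fun i : ↥s => cotangentComplexBaseChange R (S ⧸ J) S (ResidueField S)
            ((1 : ResidueField S) ⊗ₜ[S] f' i)) := funext fun i => (hφ i (hsG i.2)).symm
      rw [heq]
      exact hli
  · rintro ⟨s, hsG, hs, hli⟩
    apply injective_of_linearIndependent _ f' s
    · apply Submodule.map_injective_of_injective
        (f := (RingHom.ker (algebraMap S (S ⧸ J))).subtype) Subtype.val_injective
      rw [himage _ hsG, ← hs, Submodule.map_top, Submodule.range_subtype, hker]
    · have heq : (fun i : ↥s => (1 : ResidueField S) ⊗ₜ[S] KaehlerDifferential.D R S (f i)) =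
          (fun i : ↥s => cotangentComplexBaseChange R (S ⧸ J) S (ResidueField S)
            ((1 : ResidueField S) ⊗ₜ[S] f' i)) := funext fun i => (hφ i (hsG i.2)).symm
      rw [← heq]
      exact hli

end LocalQuot

end Groth.Agent.H3.Jac
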