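import Groth.Agent.Lib.Helper3.CA.JacobianLocal

set_option autoImplicit false
universe u

namespace Groth.Agent.H3.Jac

open TensorProduct IsLocalRing KaehlerDifferential

section Transport

variable (R : Type u) {A : Type u} [CommRing R] [CommRing A] [Algebra R A]
variable (I : Ideal A) (P : Ideal (A ⧸ I)) [P.IsPrime]

theorem algebraMapSubmonoid_eq :
    Algebra.algebraMapSubmonoid (A ⧸ I) (P.comap (Ideal.Quotient.mk I)).primeCompl =
      P.primeCompl := by
  ext x
  constructor
  · rintro ⟨a, ha, rfl⟩
    exact ha
  · intro hx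
    obtain ⟨a, rfl⟩ := Ideal.Quotient.mk_surjective x
    exact ⟨a, hx, rfl⟩

instance : IsScalarTower R (A ⧸ I)
    (Localization.AtPrime (P.comap (Ideal.Quotient.mk I)) ⧸
      I.map (algebraMap A (Localization.AtPrime (P.comap (Ideal.Quotient.mk I))))) :=
  IsScalarTower.of_algebraMap_eq (fun r => by
    rw [IsScalarTower.algebraMap_apply R (Localization.AtPrime (P.comap (Ideal.Quotient.mk I)))
      (Localization.AtPrime (P.comap (Ideal.Quotient.mk I)) ⧸ _),
      IsScalarTower.algebraMap_apply R A (Localization.AtPrime (P.comap (Ideal.Quotient.mk I))),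
      IsScalarTower.algebraMap_apply R A (A ⧸ I)]
    rfl)

/-- The local ring of `A ⧸ I` at `P` is the quotient of the local ring of `A` at the preimage. -/
noncomputable def quotEquiv :
    Localization.AtPrime P ≃ₐ[R]
      (Localization.AtPrime (P.comap (Ideal.Quotient.mk I)) ⧸
        I.map (algebraMap A (Localization.AtPrime (P.comap (Ideal.Quotient.mk I))))) := by
  have : IsLocalization P.primeCompl
      (Localization.AtPrime (P.comap (Ideal.Quotient.mk I)) ⧸
        I.map (algebraMap A (Localization.AtPrime (P.comap (Ideal.Quotient.mk I))))) := by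
    rw [← algebraMapSubmonoid_eq]
    infer_instance
  exact (IsLocalization.algEquiv P.primeCompl (Localization.AtPrime P) _).restrictScalars R

end Transport

section Kaehler

variable (R : Type u) {A : Type u} [CommRing R] [CommRing A] [Algebra R A]
variable (q : Ideal A) [q.IsPrime]

/-- `κ(q) ⊗_A Ω_{A/R} ≃ κ(q) ⊗_{A_q} Ω_{A_q/R}`. -/
noncomputable def kaehlerEquiv :
    q.ResidueField ⊗[A] Ω[A⁄R] ≃ₗ[q.ResidueField]
      q.ResidueField ⊗[Localization.AtPrime q] Ω[Localization.AtPrime q⁄R] :=
  (AlgebraTensorModule.cancelBaseChange A (Localization.AtPrime q) q.ResidueField q.ResidueField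
    Ω[A⁄R]).symm ≪≫ₗ
  LinearEquiv.baseChange (Localization.AtPrime q) q.ResidueField _ _
    (IsLocalizedModule.isBaseChange q.primeCompl (Localization.AtPrime q)
      (KaehlerDifferential.map R R A (Localization.AtPrime q))).equiv

theorem kaehlerEquiv_one_tmul_D (a : A) :
    kaehlerEquiv R q ((1 : q.ResidueField) ⊗ₜ[A] KaehlerDifferential.D R A a) =
      (1 : q.ResidueField) ⊗ₜ[Localization.AtPrime q]
        KaehlerDifferential.D R (Localization.AtPrime q) (algebraMap A (Localization.AtPrime q) a) := by
  simp [kaehlerEquiv, IsBaseChange.equiv_tmul]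

end Kaehler

section Main

open Classical in
/-- Jacobian criterion for a quotient `A ⧸ I` at a prime `P`, assuming `A` is smooth over `R` at
the preimage `q` of `P`. -/
theorem isSmoothAt_quotient_iff (R A : Type u) [CommRing R] [CommRing A] [Algebra R A]
    [IsNoetherianRing A] [Algebra.EssFiniteType R A]
    (I : Ideal A) (P : Ideal (A ⧸ I)) [P.IsPrime]
    (hsm : Algebra.IsSmoothAt R (P.comap (Ideal.Quotient.mk I))) :
    Algebra.IsSmoothAt R P ↔ ∃ s : Finset A, (↑s : Set A) ⊆ (I : Set A) ∧
      Ideal.map (algebraMap A (Localization.AtPrime (P.comap (Ideal.Quotient.mk I)))) I =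
        Ideal.span ((algebraMap A (Localization.AtPrime (P.comap (Ideal.Quotient.mk I)))) ''
          (↑s : Set A)) ∧
      LinearIndependent (P.comap (Ideal.Quotient.mk I)).ResidueField
        (fun g : ↥s => (1 : (P.comap (Ideal.Quotient.mk I)).ResidueField) ⊗ₜ[A]
          KaehlerDifferential.D R A (g : A)) := by
  obtain ⟨q, hq⟩ : ∃ q : Ideal A, q = P.comap (Ideal.Quotient.mk I) := ⟨_, rfl⟩
  have hIq : I ≤ P.comap (Ideal.Quotient.mk I) := by
    intro a ha
    rw [Ideal.mem_comap, Ideal.Quotient.eq_zero_iff_mem.mpr ha]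
    exact zero_mem _
  have : Algebra.FormallySmooth R (Localization.AtPrime (P.comap (Ideal.Quotient.mk I))) := hsm
  have : Algebra.EssFiniteType R (Localization.AtPrime (P.comap (Ideal.Quotient.mk I))) :=
    Algebra.EssFiniteType.comp R A _
  have : Module.Free (Localization.AtPrime (P.comap (Ideal.Quotient.mk I)))
      Ω[Localization.AtPrime (P.comap (Ideal.Quotient.mk I))⁄R] :=
    Module.free_of_flat_of_isLocalRing
  have : IsNoetherianRing (Localization.AtPrime (P.comap (Ideal.Quotient.mk I))) :=
    IsLocalization.isNoetherianRing (P.comap (Ideal.Quotient.mk I)).primeCompl _ inferInstance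
  have hJ : I.map (algebraMap A (Localization.AtPrime (P.comap (Ideal.Quotient.mk I)))) ≤
      maximalIdeal (Localization.AtPrime (P.comap (Ideal.Quotient.mk I))) := by
    rw [← Localization.AtPrime.map_eq_maximalIdeal]
    exact Ideal.map_mono hIq
  have hfg : (I.map (algebraMap A (Localization.AtPrime (P.comap (Ideal.Quotient.mk I))))).FG :=
    IsNoetherian.noetherian _
  rw [Algebra.IsSmoothAt, Algebra.FormallySmooth.iff_of_equiv (quotEquiv R I P),
    formallySmooth_quotient_iff_exists R _ hJ hfg
      (algebraMap A (Localization.AtPrime (P.comap (Ideal.Quotient.mk I)))) (I : Set A) rfl]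
  refine exists_congr fun s => and_congr Iff.rfl (and_congr Iff.rfl ?_)
  rw [← LinearMap.linearIndependent_iff (kaehlerEquiv R (P.comap (Ideal.Quotient.mk I))).toLinearMap
    (LinearMap.ker_eq_bot.mpr (kaehlerEquiv R (P.comap (Ideal.Quotient.mk I))).injective)]
  have heq : (fun i : ↥s => (1 : ResidueField (Localization.AtPrime (P.comap (Ideal.Quotient.mk I))))
        ⊗ₜ[Localization.AtPrime (P.comap (Ideal.Quotient.mk I))]
        KaehlerDifferential.D R (Localization.AtPrime (P.comap (Ideal.Quotient.mk I)))
          (algebraMap A (Localization.AtPrime (P.comap (Ideal.Quotient.mk I))) i)) =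
      (kaehlerEquiv R (P.comap (Ideal.Quotient.mk I))).toLinearMap ∘
        (fun g : ↥s => (1 : (P.comap (Ideal.Quotient.mk I)).ResidueField) ⊗ₜ[A]
          KaehlerDifferential.D R A (g : A)) := by
    funext i
    exact (kaehlerEquiv_one_tmul_D R _ _).symm
  rw [heq]

end Main

end Groth.Agent.H3.Jac
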