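import Mathlib
import Groth.Prelude.Def_KZero
import Groth.Agent.Lib.Helper2.KPid

/-!
# The length homomorphism on `K'₀` of an Artinian local ring (helper3)
-/

set_option autoImplicit false
universe u

namespace Groth.Agent.H3.KLength

open CategoryTheory Limits Groth.Agent.H2.KPid

variable {R : Type u} [CommRing R] [IsArtinianRing R]

noncomputable def len₀ : FreeAbelianGroup (Subtype (P R)) →+ ℤ :=
  FreeAbelianGroup.lift (fun M => ((Module.length R M.1).toNat : ℤ))

lemma length_ne_top (M : ModuleCat.{u} R) (h : Module.Finite R M) : Module.length R M ≠ ⊤ := by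
  haveI := h
  haveI : IsNoetherian R M := isNoetherian_of_isNoetherianRing_of_finite R M
  haveI : IsArtinian R M := isArtinian_of_fg_of_artinian'
  exact Module.length_ne_top

lemma relSub_le_ker : KZero.relSub (P R) ≤ (len₀ (R := R)).ker := by
  unfold KZero.relSub
  rw [AddSubgroup.closure_le]
  rintro x ⟨S, h₁, h₂, h₃, hS, rfl⟩
  change len₀ _ = 0
  simp only [len₀, map_sub, FreeAbelianGroup.lift_apply_of]
  have hinj : Function.Injective S.f.hom := hS.moduleCat_injective_f
  have hsurj : Function.Surjective S.g.hom := hS.moduleCat_surjective_g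
  have hex : Function.Exact S.f.hom S.g.hom :=
    (ShortComplex.ShortExact.moduleCat_exact_iff_function_exact S).mp hS.exact
  have h := Module.length_eq_add_of_exact S.f.hom S.g.hom hinj hsurj hex
  have e1 := length_ne_top S.X₁ h₁
  have e3 := length_ne_top S.X₃ h₃
  rw [h, ENat.toNat_add e1 e3]
  push_cast
  ring

noncomputable def len : KZero.K0sub (P R) →+ ℤ :=
  QuotientAddGroup.lift _ len₀ relSub_le_ker

theorem main : ∃ φ : KZero.K0sub (P R) →+ ℤ, ∀ (M : ModuleCat.{u} R), Module.Finite R M →
    (φ (KZero.clSub (P R) M) : ℤ) = (Module.length R M).toNat := by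
  refine ⟨len, fun M hM => ?_⟩
  rw [clSub_eq hM]
  change len₀ _ = _
  simp only [len₀, FreeAbelianGroup.lift_apply_of]

end Groth.Agent.H3.KLength
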