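import Mathlib
import Groth.Prelude.Def_KZero

/-!
# `K₀` of finite projective modules over a local ring is `ℤ` (helper3)
-/

set_option autoImplicit false
universe u

namespace Groth.Agent.H3.KLocal

open CategoryTheory Limits

variable (R : Type u) [CommRing R]

/-- finite projective modules -/
abbrev P : ObjectProperty (ModuleCat.{u} R) := fun M => Module.Finite R M ∧ Module.Projective R M

variable {R}

lemma clSub_eq {M : ModuleCat.{u} R} (h : P R M) :
    KZero.clSub (P R) M = QuotientAddGroup.mk (FreeAbelianGroup.of ⟨M, h⟩) := by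
  unfold KZero.clSub
  rw [dif_pos h]

lemma cl_ses (S : ShortComplex (ModuleCat.{u} R)) (hS : S.ShortExact)
    (h₁ : P R S.X₁) (h₂ : P R S.X₂) (h₃ : P R S.X₃) :
    KZero.clSub (P R) S.X₂ = KZero.clSub (P R) S.X₁ + KZero.clSub (P R) S.X₃ := by
  rw [clSub_eq h₁, clSub_eq h₂, clSub_eq h₃]
  have hrel : FreeAbelianGroup.of (⟨S.X₂, h₂⟩ : Subtype (P R)) - FreeAbelianGroup.of ⟨S.X₁, h₁⟩ -
      FreeAbelianGroup.of ⟨S.X₃, h₃⟩ ∈ KZero.relSub (P R) :=
    AddSubgroup.subset_closure ⟨S, h₁, h₂, h₃, hS, rfl⟩
  have h1 := (QuotientAddGroup.eq_zero_iff _).2 hrel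
  rw [QuotientAddGroup.mk_sub, QuotientAddGroup.mk_sub, sub_sub, sub_eq_zero] at h1
  exact h1

/-- additivity for a surjective linear map -/
lemma cl_surj {M N : Type u} [AddCommGroup M] [Module R M] [AddCommGroup N] [Module R N]
    (f : M →ₗ[R] N) (hf : Function.Surjective f) (hM : P R (ModuleCat.of R M))
    (hN : P R (ModuleCat.of R N)) (hK : P R (ModuleCat.of R (LinearMap.ker f))) :
    KZero.clSub (P R) (ModuleCat.of R M) =
      KZero.clSub (P R) (ModuleCat.of R (LinearMap.ker f)) +
        KZero.clSub (P R) (ModuleCat.of R N) :=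
  cl_ses _ (LinearMap.shortExact_shortComplexKer hf) hK hM hN

lemma P_of_subsingleton (M : Type u) [AddCommGroup M] [Module R M] [Subsingleton M] :
    P R (ModuleCat.of R M) :=
  ⟨inferInstance, Module.Projective.of_free⟩

lemma cl_subsingleton (M : Type u) [AddCommGroup M] [Module R M] [Subsingleton M] :
    KZero.clSub (P R) (ModuleCat.of R M) = 0 := by
  have hP := P_of_subsingleton (R := R) M
  let S : ShortComplex (ModuleCat.{u} R) :=
    ShortComplex.mk (0 : ModuleCat.of R M ⟶ ModuleCat.of R M)
      (0 : ModuleCat.of R M ⟶ ModuleCat.of R M) zero_comp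
  have hS : S.ShortExact := ModuleCat.shortComplex_shortExact S
    (fun x => ⟨fun _ => ⟨0, Subsingleton.elim _ _⟩, fun _ => Subsingleton.elim _ _⟩)
    (fun x y _ => Subsingleton.elim _ _) (fun x => ⟨0, Subsingleton.elim _ _⟩)
  have h := cl_ses S hS hP hP hP
  exact add_eq_left.1 h.symm

lemma cl_equiv {M N : Type u} [AddCommGroup M] [Module R M] [AddCommGroup N] [Module R N]
    (e : M ≃ₗ[R] N) (hM : P R (ModuleCat.of R M)) :
    KZero.clSub (P R) (ModuleCat.of R M) = KZero.clSub (P R) (ModuleCat.of R N) := by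
  have hN : P R (ModuleCat.of R N) := by
    have h1 : Module.Finite R M := hM.1
    have h2 : Module.Projective R M := hM.2
    exact ⟨Module.Finite.equiv e, Module.Projective.of_equiv e⟩
  have hk : Subsingleton (LinearMap.ker e.toLinearMap) := by
    rw [LinearEquiv.ker]
    infer_instance
  have h := cl_surj e.toLinearMap e.surjective hM hN (P_of_subsingleton _)
  rw [cl_subsingleton (LinearMap.ker e.toLinearMap), zero_add] at h
  exact h

lemma P_fin (n : ℕ) : P R (ModuleCat.of R (Fin n → R)) :=
  ⟨(inferInstance : Module.Finite R (Fin n → R)), (inferInstance : Module.Projective R (Fin n → R))⟩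

lemma P_self : P R (ModuleCat.of R R) :=
  ⟨(inferInstance : Module.Finite R R), (inferInstance : Module.Projective R R)⟩

/-- the class of a free module of rank `n` -/
theorem cl_fin (n : ℕ) :
    KZero.clSub (P R) (ModuleCat.of R (Fin n → R)) =
      (n : ℤ) • KZero.clSub (P R) (ModuleCat.of R R) := by
  induction n with
  | zero =>
    rw [cl_subsingleton]; simp
  | succ n ih =>
    -- `Fin (n+1) → R ≃ R × (Fin n → R)`, projection to the second factor
    let f : (Fin (n + 1) → R) →ₗ[R] (Fin n → R) :=
      { toFun := fun v => Fin.tail v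
        map_add' := fun _ _ => rfl
        map_smul' := fun _ _ => rfl }
    have hf : Function.Surjective f := fun w => ⟨Fin.cons 0 w, by simp [f]⟩
    let e : LinearMap.ker f ≃ₗ[R] R :=
      { toFun := fun v => v.1 0
        map_add' := fun _ _ => rfl
        map_smul' := fun _ _ => rfl
        invFun := fun r => ⟨Fin.cons r 0, by simp [f]⟩
        left_inv := fun v => by
          apply Subtype.ext
          have hv : Fin.tail v.1 = 0 := v.2
          ext i
          refine Fin.cases ?_ (fun j => ?_) i
          · simp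
          · simpa [Fin.tail] using (congrFun hv j).symm
        right_inv := fun r => by simp }
    have hK : P R (ModuleCat.of R (LinearMap.ker f)) :=
      ⟨Module.Finite.equiv e.symm, Module.Projective.of_equiv e.symm⟩
    have h := cl_surj f hf (P_fin (n + 1)) (P_fin n) hK
    rw [h, ih, cl_equiv e hK]
    push_cast
    rw [add_smul, one_smul, add_comm]

variable [IsLocalRing R]

theorem cl_eq_smul (M : ModuleCat.{u} R) (hM : P R M) :
    KZero.clSub (P R) M =
      (Module.finrank R M : ℤ) • KZero.clSub (P R) (ModuleCat.of R R) := by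
  haveI := hM.1
  haveI := hM.2
  haveI : Module.Free R M := Module.free_of_flat_of_isLocalRing
  have e : M ≃ₗ[R] (Fin (Module.finrank R M) → R) :=
    (Module.finBasis R M).equivFun
  have h1 : KZero.clSub (P R) M = KZero.clSub (P R) (ModuleCat.of R M) := rfl
  rw [h1, cl_equiv e hM, cl_fin]

/-- the rank function on the free abelian group -/
noncomputable def rk₀ : FreeAbelianGroup (Subtype (P R)) →+ ℤ :=
  FreeAbelianGroup.lift (fun M => (Module.finrank R M.1 : ℤ))

lemma finrank_ses (S : ShortComplex (ModuleCat.{u} R)) (hS : S.ShortExact)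
    (h₁ : P R S.X₁) (h₂ : P R S.X₂) (h₃ : P R S.X₃) :
    Module.finrank R S.X₂ = Module.finrank R S.X₁ + Module.finrank R S.X₃ := by
  haveI := h₁.1; haveI := h₁.2; haveI := h₂.1; haveI := h₂.2; haveI := h₃.1; haveI := h₃.2
  haveI : Module.Free R S.X₁ := Module.free_of_flat_of_isLocalRing
  haveI : Module.Free R S.X₃ := Module.free_of_flat_of_isLocalRing
  have hinj : Function.Injective S.f.hom := hS.moduleCat_injective_f
  have hsurj : Function.Surjective S.g.hom := hS.moduleCat_surjective_g
  have hex : LinearMap.range S.f.hom = LinearMap.ker S.g.hom := hS.exact.moduleCat_range_eq_ker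
  obtain ⟨s, hs⟩ := Module.projective_lifting_property S.g.hom LinearMap.id hsurj
  have e₁ : S.X₁ ≃ₗ[R] LinearMap.ker S.g.hom :=
    (LinearEquiv.ofInjective S.f.hom hinj).trans (LinearEquiv.ofEq _ _ hex)
  -- `X₂ ≃ ker g × X₃`
  have hs' : ∀ x, S.g.hom (s x) = x := fun x => LinearMap.congr_fun hs x
  let e₂ : S.X₂ ≃ₗ[R] (LinearMap.ker S.g.hom × S.X₃) :=
    { toFun := fun x => (⟨x - s (S.g.hom x), by simp [hs']⟩, S.g.hom x)
      map_add' := fun x y => by
        apply Prod.ext
        · apply Subtype.ext; simp; abel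
        · simp
      map_smul' := fun r x => by
        apply Prod.ext
        · apply Subtype.ext; simp [smul_sub]
        · simp
      invFun := fun p => p.1.1 + s p.2
      left_inv := fun x => by simp
      right_inv := fun p => by
        have hp : S.g.hom p.1.1 = 0 := p.1.2
        apply Prod.ext
        · apply Subtype.ext; simp [hp, hs']
        · simp [hp, hs'] }
  haveI : Module.Free R (LinearMap.ker S.g.hom) := Module.Free.of_equiv e₁
  haveI : Module.Finite R (LinearMap.ker S.g.hom) := Module.Finite.equiv e₁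
  rw [e₂.finrank_eq, Module.finrank_prod, e₁.symm.finrank_eq]

lemma relSub_le_ker : KZero.relSub (P R) ≤ (rk₀ (R := R)).ker := by
  unfold KZero.relSub
  rw [AddSubgroup.closure_le]
  rintro x ⟨S, h₁, h₂, h₃, hS, rfl⟩
  change rk₀ _ = 0
  simp only [rk₀, map_sub, FreeAbelianGroup.lift_apply_of]
  rw [finrank_ses S hS h₁ h₂ h₃]
  push_cast
  ring

/-- the rank function on `K₀` -/
noncomputable def rk : KZero.K0sub (P R) →+ ℤ :=
  QuotientAddGroup.lift _ rk₀ relSub_le_ker

lemma rk_cl : rk (KZero.clSub (P R) (ModuleCat.of R R)) = 1 := by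
  rw [clSub_eq P_self]
  change rk₀ _ = 1
  simp only [rk₀, FreeAbelianGroup.lift_apply_of]
  change ((Module.finrank R R : ℕ) : ℤ) = 1
  rw [Module.finrank_self]
  rfl

theorem surj (y : KZero.K0sub (P R)) :
    ∃ k : ℤ, k • KZero.clSub (P R) (ModuleCat.of R R) = y := by
  induction y using QuotientAddGroup.induction_on with
  | H x =>
    induction x using FreeAbelianGroup.induction_on with
    | zero => exact ⟨0, by simp⟩
    | of M =>
      refine ⟨(Module.finrank R M.1 : ℤ), ?_⟩
      rw [← cl_eq_smul M.1 M.2, clSub_eq M.2]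
    | neg M hM =>
      obtain ⟨k, hk⟩ := hM
      refine ⟨-k, ?_⟩
      rw [neg_smul, hk, QuotientAddGroup.mk_neg]
    | add x y hx hy =>
      obtain ⟨k, hk⟩ := hx
      obtain ⟨l, hl⟩ := hy
      refine ⟨k + l, ?_⟩
      rw [add_smul, hk, hl, QuotientAddGroup.mk_add]

theorem main : ∃ e : KZero.K0sub (P R) ≃+ ℤ,
    e (KZero.clSub (P R) (ModuleCat.of R R)) = 1 := by
  have hbij : Function.Bijective (rk (R := R)) := by
    constructor
    · intro x y hxy
      obtain ⟨k, rfl⟩ := surj x
      obtain ⟨l, rfl⟩ := surj y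
      simp only [map_zsmul, rk_cl, smul_eq_mul, mul_one] at hxy
      rw [hxy]
    · intro n
      exact ⟨n • KZero.clSub (P R) (ModuleCat.of R R), by simp [rk_cl]⟩
  exact ⟨AddEquiv.ofBijective rk hbij, rk_cl⟩

end Groth.Agent.H3.KLocal
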