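import Mathlib

/-!
# Krull–Akizuki: the length lemma (helper3)

For a Noetherian domain `R` of dimension `≤ 1` with fraction field `K`, a finite dimensional
`K`-vector space `V`, an `R`-submodule `M` of `V` and `x ≠ 0` in `R`, the quotient `M/xM` has finite
length over `R`.
-/

set_option autoImplicit false

namespace Groth.Agent.H3.KA

section General

variable {R : Type*} [CommRing R]

/-- strict increase of length for a strict inclusion of submodules with finite length -/
theorem length_lt_of_lt {M : Type*} [AddCommGroup M] [Module R M]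
    (N₀ N₁ : Submodule R M) (hle : N₀ ≤ N₁) (hne : N₀ ≠ N₁) (hfin : Module.length R N₀ ≠ ⊤) :
    Module.length R N₀ < Module.length R N₁ := by
  let i : N₀ →ₗ[R] N₁ := Submodule.inclusion hle
  have hi : Function.Injective i := Submodule.inclusion_injective hle
  have h := Module.length_eq_add_of_exact i (LinearMap.range i).mkQ hi
    (Submodule.mkQ_surjective _) (LinearMap.exact_map_mkQ_range i)
  have hnt : Module.length R (N₁ ⧸ LinearMap.range i) ≠ 0 := by
    rw [Ne, Module.length_eq_zero_iff, Submodule.Quotient.subsingleton_iff]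
    intro htop
    apply hne
    apply le_antisymm hle
    intro x hx
    have : (⟨x, hx⟩ : N₁) ∈ LinearMap.range i := by rw [htop]; trivial
    obtain ⟨y, hy⟩ := this
    have : (y : M) = x := congrArg Subtype.val hy
    rw [← this]
    exact y.2
  rw [h]
  generalize Module.length R (N₁ ⧸ LinearMap.range i) = b at hnt
  generalize Module.length R N₀ = a at hfin
  lift a to ℕ using hfin
  cases b with
  | top => simp
  | coe b =>
    have hb : b ≠ 0 := fun h => hnt (by simp [h])
    exact_mod_cast (by omega : a < a + b)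

/-- a module all of whose finitely generated submodules have length `≤ d` has length `≤ d` -/
theorem length_le_of_forall_fg {Q : Type*} [AddCommGroup Q] [Module R Q] (d : ℕ)
    (h : ∀ P : Submodule R Q, P.FG → Module.length R P ≤ d) : Module.length R Q ≤ d := by
  classical
  let S : Set ℕ := {k | ∃ P : Submodule R Q, P.FG ∧ Module.length R P = k}
  have hfin : ∀ P : Submodule R Q, P.FG → Module.length R P ≠ ⊤ := fun P hP =>
    ne_top_of_le_ne_top (ENat.natCast_ne_top d) (h P hP)
  have hSne : S.Nonempty :=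
    ⟨_, ⊥, Submodule.fg_bot, (ENat.natCast_toNat (hfin ⊥ Submodule.fg_bot)).symm⟩
  have hSbdd : BddAbove S := ⟨d, fun k ⟨P, hP, hk⟩ => by
    have := h P hP
    rw [hk] at this
    exact_mod_cast this⟩
  obtain ⟨P0, hP0fg, hP0⟩ := Nat.sSup_mem hSne hSbdd
  have htop : P0 = ⊤ := by
    by_contra hne
    obtain ⟨y, hy⟩ : ∃ y : Q, y ∉ P0 := by
      by_contra hcon
      push Not at hcon
      exact hne (eq_top_iff.mpr fun y _ => hcon y)
    have hfg1 : (P0 ⊔ Submodule.span R {y}).FG := hP0fg.sup (Submodule.fg_span_singleton y)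
    have hy1 : y ∈ P0 ⊔ Submodule.span R {y} :=
      (le_sup_right : Submodule.span R {y} ≤ _) (Submodule.mem_span_singleton_self y)
    have hlt := length_lt_of_lt P0 (P0 ⊔ Submodule.span R {y}) le_sup_left
      (fun h => hy (h ▸ hy1)) (hfin P0 hP0fg)
    have hmem : (Module.length R ↥(P0 ⊔ Submodule.span R {y})).toNat ∈ S :=
      ⟨_, hfg1, (ENat.natCast_toNat (hfin _ hfg1)).symm⟩
    have hle' := le_csSup hSbdd hmem
    rw [hP0, ← ENat.natCast_toNat (hfin _ hfg1)] at hlt
    have : sSup S < (Module.length R ↥(P0 ⊔ Submodule.span R {y})).toNat := by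
      exact_mod_cast hlt
    omega
  rw [← Module.length_top (M := Q), ← htop]
  exact h P0 hP0fg

/-- a finite module over a one-dimensional Noetherian domain killed by a nonzero element has
finite length -/
theorem length_ne_top_of_smul_eq_zero [IsDomain R] [IsNoetherianRing R] [Ring.KrullDimLE 1 R]
    {Q : Type*} [AddCommGroup Q] [Module R Q] [Module.Finite R Q]
    {x : R} (hx : x ≠ 0) (h : ∀ q : Q, x • q = 0) : Module.length R Q ≠ ⊤ := by
  have hx' : x ∈ nonZeroDivisors R := mem_nonZeroDivisors_of_ne_zero hx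
  have hT : Module.IsTorsionBySet R Q (Ideal.span {x} : Ideal R) := by
    rw [Ideal.span, Module.isTorsionBySet_span_singleton_iff]
    exact h
  letI := hT.module
  haveI : IsScalarTower R (R ⧸ Ideal.span {x}) Q := hT.isScalarTower
  haveI : IsArtinianRing (R ⧸ Ideal.span {x}) := by
    rw [isArtinianRing_iff_krullDimLE_zero, Ring.KrullDimLE, Order.krullDimLE_iff,
      ← ENat.WithBot.add_le_add_one_right_iff, Nat.cast_zero, zero_add]
    exact (ringKrullDim_quotient_succ_le_of_nonZeroDivisor hx').trans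
      (Order.KrullDimLE.krullDim_le)
  haveI : Module.Finite (R ⧸ Ideal.span {x}) Q := Module.Finite.of_restrictScalars_finite R _ _
  haveI : IsArtinian (R ⧸ Ideal.span {x}) Q := isArtinian_of_fg_of_artinian'
  rw [Module.length_eq_of_surjective (R := R ⧸ Ideal.span {x}) (S := R)
    Ideal.Quotient.mk_surjective]
  exact Module.length_ne_top

variable {V : Type*} [AddCommGroup V] [Module R V]

/-- relative length `ℓ(B/A)` of submodules of `V` -/
noncomputable def rl (A B : Submodule R V) : ℕ∞ := Module.length R (B ⧸ A.submoduleOf B)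

theorem rl_add {A B C : Submodule R V} (hAB : A ≤ B) (hBC : B ≤ C) :
    rl A C = rl A B + rl B C := by
  unfold rl
  let f : (B ⧸ A.submoduleOf B) →ₗ[R] (C ⧸ A.submoduleOf C) :=
    Submodule.mapQ _ _ (Submodule.inclusion hBC) (fun b hb => hb)
  let g : (C ⧸ A.submoduleOf C) →ₗ[R] (C ⧸ B.submoduleOf C) :=
    Submodule.mapQ _ _ LinearMap.id (fun c hc => hAB hc)
  refine Module.length_eq_add_of_exact f g ?_ ?_ ?_
  · rw [← LinearMap.ker_eq_bot, eq_bot_iff]
    intro q hq
    obtain ⟨b, rfl⟩ := Submodule.Quotient.mk_surjective _ q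
    rw [LinearMap.mem_ker] at hq
    have hq' : (Submodule.inclusion hBC b) ∈ A.submoduleOf C :=
      (Submodule.Quotient.mk_eq_zero _).mp hq
    rw [Submodule.mem_bot, Submodule.Quotient.mk_eq_zero]
    exact hq'
  · intro q
    obtain ⟨c, rfl⟩ := Submodule.Quotient.mk_surjective _ q
    exact ⟨Submodule.Quotient.mk c, rfl⟩
  · intro q
    obtain ⟨c, rfl⟩ := Submodule.Quotient.mk_surjective _ q
    constructor
    · intro hq
      have hc : c ∈ B.submoduleOf C := (Submodule.Quotient.mk_eq_zero _).mp hq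
      exact ⟨Submodule.Quotient.mk ⟨c.1, hc⟩, rfl⟩
    · rintro ⟨q', hq'⟩
      obtain ⟨b, rfl⟩ := Submodule.Quotient.mk_surjective _ q'
      rw [← hq']
      exact (Submodule.Quotient.mk_eq_zero _).mpr b.2

/-- `x • N` -/
def sm (x : R) (N : Submodule R V) : Submodule R V := N.map (LinearMap.lsmul R V x)

theorem mem_sm {x : R} {N : Submodule R V} {v : V} : v ∈ sm x N ↔ ∃ n ∈ N, x • n = v := by
  unfold sm
  rw [Submodule.mem_map]
  rfl

theorem sm_le (x : R) (N : Submodule R V) : sm x N ≤ N := by
  intro v hv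
  obtain ⟨n, hn, rfl⟩ := mem_sm.mp hv
  exact N.smul_mem x hn

theorem sm_mono (x : R) {A B : Submodule R V} (h : A ≤ B) : sm x A ≤ sm x B :=
  Submodule.map_mono h

theorem rl_sm (x : R) (hx : Function.Injective (LinearMap.lsmul R V x)) {A B : Submodule R V}
    (hAB : A ≤ B) : rl (sm x A) (sm x B) = rl A B := by
  unfold rl
  let e : B ≃ₗ[R] sm x B := Submodule.equivMapOfInjective (LinearMap.lsmul R V x) hx B
  have he : ∀ b : B, ((e b : sm x B) : V) = x • (b : V) := fun b => rfl
  have h : (A.submoduleOf B).map (e : B →ₗ[R] sm x B) = (sm x A).submoduleOf (sm x B) := by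
    ext y
    constructor
    · rintro ⟨b, hb, rfl⟩
      show ((e b : sm x B) : V) ∈ sm x A
      rw [he]
      exact mem_sm.mpr ⟨b, hb, rfl⟩
    · intro hy
      have hy' : (y : V) ∈ sm x A := hy
      obtain ⟨a, ha, hay⟩ := mem_sm.mp hy'
      refine ⟨⟨a, hAB ha⟩, ha, ?_⟩
      apply Subtype.ext
      rw [← hay]
      rfl
  exact (Submodule.Quotient.equiv _ _ e h).length_eq.symm

theorem rl_sm_self_eq (x : R) (hx : Function.Injective (LinearMap.lsmul R V x))
    {N₀ N : Submodule R V} (h : N₀ ≤ N) (hfin : rl N₀ N ≠ ⊤) :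
    rl (sm x N) N = rl (sm x N₀) N₀ := by
  have e1 := rl_add (sm_mono x h) (sm_le x N)
  have e2 := rl_add (sm_le x N₀) h
  rw [rl_sm x hx h] at e1
  rw [e2, add_comm (rl (sm x N₀) N₀)] at e1
  exact ((WithTop.add_left_inj hfin).mp e1).symm

end General

section Main

variable {R : Type*} [CommRing R] [IsDomain R] {K : Type*} [Field K] [Algebra R K]
  [IsFractionRing R K] {V : Type*} [AddCommGroup V] [Module R V] [Module K V]
  [IsScalarTower R K V]

theorem exists_smul_mem_of_mem_span {t : Set V} {v : V} (hv : v ∈ Submodule.span K t) :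
    ∃ d : R, d ≠ 0 ∧ d • v ∈ Submodule.span R t := by
  obtain ⟨y, hy, z, rfl⟩ := (IsLocalization.mem_span_iff (M := nonZeroDivisors R) (S := K)).mp hv
  refine ⟨z, nonZeroDivisors.ne_zero z.2, ?_⟩
  rw [← IsScalarTower.algebraMap_smul K (z : R), smul_smul, mul_comm, IsLocalization.mk'_spec,
    map_one, one_smul]
  exact hy

include K in
theorem lsmul_injective {x : R} (hx : x ≠ 0) : Function.Injective (LinearMap.lsmul R V x) := by
  intro v w hvw
  have h : x • v = x • w := hvw
  rw [← IsScalarTower.algebraMap_smul K x v, ← IsScalarTower.algebraMap_smul K x w] at h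
  have hne : algebraMap R K x ≠ 0 := by
    rwa [Ne, map_eq_zero_iff _ (IsFractionRing.injective R K)]
  exact smul_right_injective V hne h

variable [IsNoetherianRing R] [Ring.KrullDimLE 1 R] [FiniteDimensional K V]

include K in
/-- the precise bound: for a finite subset `t` of `M` spanning the same `K`-subspace, the length of
`M/xM` is bounded by that of `N₀/xN₀`, `N₀` the `R`-span of `t`, and the latter is finite -/
theorem rl_sm_le_of_span (M : Submodule R V) {x : R} (hx : x ≠ 0) (t : Finset V)
    (htM : (t : Set V) ⊆ M) (hspan : Submodule.span K (M : Set V) = Submodule.span K (t : Set V)) :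
    rl (sm x (Submodule.span R (t : Set V))) (Submodule.span R (t : Set V)) ≠ ⊤ ∧
      rl (sm x M) M ≤ rl (sm x (Submodule.span R (t : Set V))) (Submodule.span R (t : Set V)) := by
  classical
  have hinj := lsmul_injective (K := K) (V := V) hx
  set N₀ : Submodule R V := Submodule.span R (t : Set V) with hN₀
  have hN₀M : N₀ ≤ M := Submodule.span_le.mpr htM
  have hN₀fg : N₀.FG := Submodule.fg_span t.finite_toSet
  have htors : ∀ m ∈ M, ∃ d : R, d ≠ 0 ∧ d • m ∈ N₀ := by
    intro m hm
    apply exists_smul_mem_of_mem_span (K := K)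
    rw [← hspan]
    exact Submodule.subset_span hm
  -- finite length of quotients killed by nonzero elements
  have hfinq : ∀ (A B : Submodule R V), B.FG → ∀ d : R, d ≠ 0 → (∀ b ∈ B, d • b ∈ A) →
      rl A B ≠ ⊤ := by
    intro A B hB d hd hdB
    haveI : Module.Finite R B := Module.Finite.iff_fg.mpr hB
    apply length_ne_top_of_smul_eq_zero hd
    intro q
    obtain ⟨b, rfl⟩ := Submodule.Quotient.mk_surjective _ q
    rw [← Submodule.Quotient.mk_smul, Submodule.Quotient.mk_eq_zero]
    exact hdB b b.2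
  have hB : rl (sm x N₀) N₀ ≠ ⊤ :=
    hfinq _ _ hN₀fg x hx (fun b hb => mem_sm.mpr ⟨b, hb, rfl⟩)
  -- torsion of f.g. intermediate modules
  have htorsN : ∀ (N : Submodule R V) (hN : N.FG), N ≤ M →
      ∃ d : R, d ≠ 0 ∧ ∀ n ∈ N, d • n ∈ N₀ := by
    intro N hN
    refine Submodule.fg_induction (motive := fun N _ => N ≤ M →
      ∃ d : R, d ≠ 0 ∧ ∀ n ∈ N, d • n ∈ N₀) ?_ ?_ N hN
    · intro v hv
      obtain ⟨d, hd, hdv⟩ := htors v (hv (Submodule.mem_span_singleton_self v))
      refine ⟨d, hd, fun n hn => ?_⟩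
      obtain ⟨a, rfl⟩ := Submodule.mem_span_singleton.mp hn
      rw [smul_comm]
      exact N₀.smul_mem a hdv
    · intro N₁ N₂ _ _ h1 h2 hle
      obtain ⟨d1, hd1, h1⟩ := h1 (le_sup_left.trans hle)
      obtain ⟨d2, hd2, h2⟩ := h2 (le_sup_right.trans hle)
      refine ⟨d1 * d2, mul_ne_zero hd1 hd2, fun n hn => ?_⟩
      obtain ⟨n1, hn1, n2, hn2, rfl⟩ := Submodule.mem_sup.mp hn
      rw [smul_add]
      refine N₀.add_mem ?_ ?_
      · rw [mul_comm, mul_smul]
        exact N₀.smul_mem d2 (h1 n1 hn1)
      · rw [mul_smul]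
        exact N₀.smul_mem d1 (h2 n2 hn2)
  have hkey : ∀ (N : Submodule R V), N.FG → N₀ ≤ N → N ≤ M →
      rl (sm x N) N = rl (sm x N₀) N₀ := by
    intro N hN h0 hM
    obtain ⟨d, hd, hdN⟩ := htorsN N hN hM
    exact rl_sm_self_eq x hinj h0 (hfinq _ _ hN d hd hdN)
  -- bound on f.g. submodules of `M/xM`
  set B := (rl (sm x N₀) N₀).toNat with hBdef
  have hBeq : rl (sm x N₀) N₀ = (B : ℕ∞) := (ENat.natCast_toNat hB).symm
  refine ⟨hB, ?_⟩
  rw [hBeq]
  refine length_le_of_forall_fg B ?_
  intro P hP
  -- lift `P` to a f.g. submodule of `M`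
  obtain ⟨s, rfl⟩ := hP
  let lift : (M ⧸ (sm x M).submoduleOf M) → M := Function.surjInv (Submodule.Quotient.mk_surjective _)
  have hlift : ∀ q, Submodule.Quotient.mk (lift q) = q :=
    Function.surjInv_eq (Submodule.Quotient.mk_surjective _)
  let P' : Submodule R V := Submodule.span R ((fun q => ((lift q : M) : V)) '' (s : Set _))
  have hP'fg : P'.FG := Submodule.fg_span ((s.finite_toSet).image _)
  have hP'M : P' ≤ M := by
    apply Submodule.span_le.mpr
    rintro _ ⟨q, _, rfl⟩
    exact (lift q).2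
  let N : Submodule R V := N₀ ⊔ P'
  have hNfg : N.FG := hN₀fg.sup hP'fg
  have hNM : N ≤ M := sup_le hN₀M hP'M
  have hN0 : N₀ ≤ N := le_sup_left
  let φ : (N ⧸ (sm x N).submoduleOf N) →ₗ[R] (M ⧸ (sm x M).submoduleOf M) :=
    Submodule.mapQ _ _ (Submodule.inclusion hNM) (fun n hn => sm_mono x hNM hn)
  have hle : Submodule.span R (s : Set (M ⧸ (sm x M).submoduleOf M)) ≤ LinearMap.range φ := by
    apply Submodule.span_le.mpr
    intro q hq
    have hmem : ((lift q : M) : V) ∈ N :=
      (le_sup_right : P' ≤ N) (Submodule.subset_span ⟨q, hq, rfl⟩)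
    refine ⟨Submodule.Quotient.mk ⟨_, hmem⟩, ?_⟩
    exact hlift q
  calc Module.length R (Submodule.span R (s : Set (M ⧸ (sm x M).submoduleOf M)))
      ≤ Module.length R (LinearMap.range φ) :=
        Module.length_le_of_injective (Submodule.inclusion hle) (Submodule.inclusion_injective hle)
    _ ≤ Module.length R (N ⧸ (sm x N).submoduleOf N) :=
        Module.length_le_of_surjective φ.rangeRestrict φ.surjective_rangeRestrict
    _ = B := by
        have := hkey N hNfg hN0 hNM
        unfold rl at this hBeq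
        rw [this, hBeq]

include K in
theorem rl_sm_ne_top (M : Submodule R V) {x : R} (hx : x ≠ 0) : rl (sm x M) M ≠ ⊤ := by
  obtain ⟨t, htM, hspan⟩ := (Submodule.fg_span_iff_fg_span_finset_subset (M : Set V)).mp
    (IsNoetherian.noetherian (Submodule.span K (M : Set V)))
  obtain ⟨h1, h2⟩ := rl_sm_le_of_span (K := K) M hx t htM hspan
  exact ne_top_of_le_ne_top h1 h2

end Main

end Groth.Agent.H3.KA
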