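import Mathlib
import Groth.Agent.Lib.Helper3.CA.KrullAkizuki1

/-!
# Krull–Akizuki: rings between a one-dimensional Noetherian domain and a finite extension of its
fraction field (helper3)
-/

set_option autoImplicit false

namespace Groth.Agent.H3.KA

section Ring

variable {R S K L : Type*} [CommRing R] [IsDomain R] [IsNoetherianRing R] [Ring.KrullDimLE 1 R]
  [CommRing S] [Algebra R S] [Field K] [Field L] [Algebra R K] [IsFractionRing R K]
  [Algebra S L] [Algebra K L] [Algebra R L] [IsScalarTower R K L]
  [IsScalarTower R S L] [FiniteDimensional K L]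

include K L in
/-- `S/xS` has finite length over `R` -/
theorem length_quotient_ne_top (hinj : Function.Injective (algebraMap S L)) {x : R} (hx : x ≠ 0) :
    Module.length R (S ⧸ Ideal.span {algebraMap R S x}) ≠ ⊤ := by
  let ψ : S →ₗ[R] L := (IsScalarTower.toAlgHom R S L).toLinearMap
  have hψ : Function.Injective ψ := hinj
  let M : Submodule R L := LinearMap.range ψ
  let e : S ≃ₗ[R] M := LinearEquiv.ofInjective ψ hψ
  have he : ∀ s : S, ((e s : M) : L) = algebraMap S L s := fun s => rfl
  let π : M →ₗ[R] S ⧸ Ideal.span {algebraMap R S x} :=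
    (Ideal.Quotient.mkₐ R (Ideal.span {algebraMap R S x})).toLinearMap ∘ₗ e.symm.toLinearMap
  have hπ : Function.Surjective π :=
    (Ideal.Quotient.mkₐ_surjective R _).comp e.symm.surjective
  have hker : (sm x M).submoduleOf M ≤ LinearMap.ker π := by
    intro m hm
    obtain ⟨n, hn, hnm⟩ := mem_sm.mp hm
    obtain ⟨s, rfl⟩ := hn
    have h1 : m = e (x • s) := by
      apply Subtype.ext
      have h2 : (m : L) = x • ψ s := hnm.symm
      rw [h2, ← map_smul]
      rfl
    rw [LinearMap.mem_ker, h1]
    show Ideal.Quotient.mk _ (e.symm (e (x • s))) = 0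
    rw [LinearEquiv.symm_apply_apply, Ideal.Quotient.eq_zero_iff_mem, Algebra.smul_def]
    exact Ideal.mul_mem_right _ _ (Ideal.subset_span rfl)
  have hsurj : Function.Surjective (((sm x M).submoduleOf M).liftQ π hker) := by
    intro q
    obtain ⟨m, rfl⟩ := hπ q
    exact ⟨Submodule.Quotient.mk m, rfl⟩
  exact ne_top_of_le_ne_top (rl_sm_ne_top (K := K) M hx)
    (Module.length_le_of_surjective _ hsurj)

include K L in
theorem main (hinj : Function.Injective (algebraMap S L)) {x : R} (hx : x ≠ 0)
    (p : Ideal R) (hxp : x ∈ p) :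
    (∀ n ∈ p.primesOver S, n.IsMaximal) ∧ (p.primesOver S).Finite ∧
      ∀ n ∈ p.primesOver S, Module.Finite R (S ⧸ n) := by
  set I : Ideal S := Ideal.span {algebraMap R S x} with hI
  have hlen := length_quotient_ne_top (K := K) (L := L) hinj hx
  rw [Module.length_ne_top_iff, isFiniteLength_iff_isNoetherian_isArtinian] at hlen
  obtain ⟨hN, hA⟩ := hlen
  haveI : IsArtinianRing (S ⧸ I) := isArtinian_of_tower R hA
  have hIn : ∀ n ∈ p.primesOver S, I ≤ n := by
    intro n hn
    rw [hI, Ideal.span_singleton_le_iff_mem]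
    have : p = n.under R := hn.2.over
    have hx' : x ∈ n.under R := this ▸ hxp
    exact hx'
  have hmk : Function.Surjective (Ideal.Quotient.mk I) := Ideal.Quotient.mk_surjective
  have hcomap : ∀ n ∈ p.primesOver S, (n.map (Ideal.Quotient.mk I)).comap (Ideal.Quotient.mk I) = n := by
    intro n hn
    rw [Ideal.comap_map_of_surjective _ hmk, sup_eq_left]
    rw [← RingHom.ker_eq_comap_bot, Ideal.mk_ker]
    exact hIn n hn
  have hprime : ∀ n ∈ p.primesOver S, (n.map (Ideal.Quotient.mk I)).IsPrime := by
    intro n hn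
    haveI := hn.1
    apply Ideal.map_isPrime_of_surjective hmk
    rw [Ideal.mk_ker]
    exact hIn n hn
  refine ⟨?_, ?_, ?_⟩
  · intro n hn
    haveI := hprime n hn
    haveI : (n.map (Ideal.Quotient.mk I)).IsMaximal := IsArtinianRing.isMaximal_of_isPrime _
    rw [← hcomap n hn]
    exact Ideal.comap_isMaximal_of_surjective _ hmk
  · apply Set.Finite.subset (Set.finite_range
      (fun P : PrimeSpectrum (S ⧸ I) => P.asIdeal.comap (Ideal.Quotient.mk I)))
    intro n hn
    exact ⟨⟨_, hprime n hn⟩, hcomap n hn⟩
  · intro n hn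
    haveI : Module.Finite R (S ⧸ I) := inferInstance
    exact Module.Finite.of_surjective (Ideal.Quotient.factorₐ R (hIn n hn)).toLinearMap
      (Ideal.Quotient.factor_surjective (hIn n hn))

end Ring

end Groth.Agent.H3.KA
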