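import Mathlib
import Groth.Agent.Lib.Helper3.CA.KrullAkizuki1

/-!
# Lattices over a one-dimensional Noetherian local domain (helper3)
-/

set_option autoImplicit false

namespace Groth.Agent.H3.KA

section Lat

variable {R : Type*} [CommRing R] [IsDomain R] {K : Type*} [Field K] [Algebra R K]
  [IsFractionRing R K] {V : Type*} [AddCommGroup V] [Module R V] [Module K V]
  [IsScalarTower R K V]

theorem exists_smul_mem_of_span_eq_top {A : Submodule R V}
    (hA : Submodule.span K (A : Set V) = ⊤) (v : V) : ∃ d : R, d ≠ 0 ∧ d • v ∈ A := by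
  have hv : v ∈ Submodule.span K (A : Set V) := hA ▸ Submodule.mem_top
  obtain ⟨d, hd, hdv⟩ := exists_smul_mem_of_mem_span (R := R) (K := K) hv
  rw [Submodule.span_eq] at hdv
  exact ⟨d, hd, hdv⟩

theorem span_eq_top_of_forall_exists_smul_mem {A : Submodule R V}
    (h : ∀ v : V, ∃ d : R, d ≠ 0 ∧ d • v ∈ A) : Submodule.span K (A : Set V) = ⊤ := by
  rw [eq_top_iff]
  intro v _
  obtain ⟨d, hd, hdv⟩ := h v
  have hne : algebraMap R K d ≠ 0 := by
    rwa [Ne, map_eq_zero_iff _ (IsFractionRing.injective R K)]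
  have : v = (algebraMap R K d)⁻¹ • (d • v) := by
    rw [← IsScalarTower.algebraMap_smul K d v, smul_smul, inv_mul_cancel₀ hne, one_smul]
  rw [this]
  exact Submodule.smul_mem _ _ (Submodule.subset_span hdv)

/-- a uniform denominator for a finitely generated submodule -/
theorem exists_smul_le_of_fg {A : Submodule R V} (hA : Submodule.span K (A : Set V) = ⊤)
    (B : Submodule R V) (hB : B.FG) : ∃ d : R, d ≠ 0 ∧ ∀ b ∈ B, d • b ∈ A := by
  refine Submodule.fg_induction (motive := fun N _ =>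
    ∃ d : R, d ≠ 0 ∧ ∀ n ∈ N, d • n ∈ A) ?_ ?_ B hB
  · intro v
    obtain ⟨d, hd, hdv⟩ := exists_smul_mem_of_span_eq_top (K := K) hA v
    refine ⟨d, hd, fun n hn => ?_⟩
    obtain ⟨a, rfl⟩ := Submodule.mem_span_singleton.mp hn
    rw [smul_comm]
    exact A.smul_mem a hdv
  · intro N₁ N₂ _ _ h1 h2
    obtain ⟨d1, hd1, h1⟩ := h1
    obtain ⟨d2, hd2, h2⟩ := h2
    refine ⟨d1 * d2, mul_ne_zero hd1 hd2, fun n hn => ?_⟩
    obtain ⟨n1, hn1, n2, hn2, rfl⟩ := Submodule.mem_sup.mp hn
    rw [smul_add]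
    refine A.add_mem ?_ ?_
    · rw [mul_comm, mul_smul]
      exact A.smul_mem d2 (h1 n1 hn1)
    · rw [mul_smul]
      exact A.smul_mem d1 (h2 n2 hn2)

variable [IsNoetherianRing R] [Ring.KrullDimLE 1 R]

theorem rl_ne_top_of_fg {A : Submodule R V} (hA : Submodule.span K (A : Set V) = ⊤)
    (B : Submodule R V) (hB : B.FG) : rl A B ≠ ⊤ := by
  obtain ⟨d, hd, hdB⟩ := exists_smul_le_of_fg (K := K) hA B hB
  haveI : Module.Finite R B := Module.Finite.iff_fg.mpr hB
  apply length_ne_top_of_smul_eq_zero hd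
  intro q
  obtain ⟨b, rfl⟩ := Submodule.Quotient.mk_surjective _ q
  rw [← Submodule.Quotient.mk_smul, Submodule.Quotient.mk_eq_zero]
  exact hdB b b.2

/-- in a finite length module over a local ring, a power of an element of the maximal ideal
kills everything -/
theorem exists_pow_smul_eq_zero {R : Type*} [CommRing R] [IsLocalRing R]
    {Q : Type*} [AddCommGroup Q] [Module R Q]
    [IsArtinian R Q] [IsNoetherian R Q] {x : R} (hx : x ∈ IsLocalRing.maximalIdeal R) :
    ∃ n : ℕ, ∀ q : Q, x ^ n • q = 0 := by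
  obtain ⟨n, hn⟩ := IsArtinian.range_smul_pow_stabilizes Q x
  refine ⟨n, ?_⟩
  set N : Submodule R Q := LinearMap.range (x ^ n • LinearMap.id : Q →ₗ[R] Q) with hN
  have hle : N ≤ IsLocalRing.maximalIdeal R • N := by
    intro y hy
    have hy' : y ∈ LinearMap.range (x ^ (n + 1) • LinearMap.id : Q →ₗ[R] Q) :=
      hn (n + 1) (Nat.le_succ n) ▸ hy
    obtain ⟨z, rfl⟩ := hy'
    have : (x ^ (n + 1) • LinearMap.id : Q →ₗ[R] Q) z = x • (x ^ n • z) := by
      simp [pow_succ', mul_smul]
    rw [this]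
    exact Submodule.smul_mem_smul hx ⟨z, rfl⟩
  have hbot : N = ⊥ := Submodule.eq_bot_of_le_smul_of_le_jacobson_bot _ N
    (IsNoetherian.noetherian N) hle
    (IsLocalRing.jacobson_eq_maximalIdeal ⊥ bot_ne_top).ge
  intro q
  have : x ^ n • q ∈ N := ⟨q, rfl⟩
  rwa [hbot, Submodule.mem_bot] at this

variable [IsLocalRing R] [FiniteDimensional K V]

include K in
theorem lattice_main (hnf : ¬ IsField R) (M : Submodule R V) [Submodule.IsLattice K M] :
    (∀ M' : Submodule R V, M ≤ M' →
        (Submodule.IsLattice K M' ↔ rl M M' ≠ ⊤) ∧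
          (Submodule.IsLattice K M' ↔ M'.FG)) ∧
      (∀ M' : Submodule R V, M' ≤ M →
        (Submodule.IsLattice K M' ↔ rl M' M ≠ ⊤)) ∧
      ∀ M' : Submodule R V, Submodule.IsLattice K M' → Submodule.IsLattice K (M ⊓ M') := by
  have hMfg : M.FG := Submodule.IsLattice.fg
  have hMspan : Submodule.span K (M : Set V) = ⊤ := Submodule.IsLattice.span_eq_top
  refine ⟨?_, ?_, ?_⟩
  · intro M' hle
    have h2 : Submodule.IsLattice K M' ↔ M'.FG :=
      ⟨fun h => h.fg, fun h => Submodule.IsLattice.of_le_of_isLattice_of_fg K hle h⟩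
    refine ⟨⟨fun h => rl_ne_top_of_fg (K := K) hMspan M' h.fg, fun h => ?_⟩, h2⟩
    rw [h2]
    unfold rl at h
    rw [Module.length_ne_top_iff, isFiniteLength_iff_isNoetherian_isArtinian] at h
    haveI := h.1
    haveI : Module.Finite R (M' ⧸ M.submoduleOf M') := inferInstance
    haveI : Module.Finite R M := Module.Finite.iff_fg.mpr hMfg
    haveI : Module.Finite R (M.submoduleOf M') :=
      Module.Finite.equiv (Submodule.submoduleOfEquivOfLe hle).symm
    have : Module.Finite R M' := Module.Finite.of_submodule_quotient (M.submoduleOf M')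
    exact Module.Finite.iff_fg.mp this
  · intro M' hle
    have hfg' : M'.FG := hMfg.of_le hle
    constructor
    · intro h
      exact rl_ne_top_of_fg (K := K) h.span_eq_top M hMfg
    · intro h
      refine ⟨hfg', ?_⟩
      unfold rl at h
      rw [Module.length_ne_top_iff, isFiniteLength_iff_isNoetherian_isArtinian] at h
      haveI := h.1
      haveI := h.2
      have hne : IsLocalRing.maximalIdeal R ≠ ⊥ :=
        fun h => hnf (IsLocalRing.isField_iff_maximalIdeal_eq.mpr h)
      obtain ⟨x, hxm, hx0⟩ := Submodule.exists_mem_ne_zero_of_ne_bot hne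
      obtain ⟨n, hn⟩ := exists_pow_smul_eq_zero (Q := M ⧸ M'.submoduleOf M) hxm
      apply span_eq_top_of_forall_exists_smul_mem (K := K)
      intro v
      obtain ⟨d, hd, hdv⟩ := exists_smul_mem_of_span_eq_top (K := K) hMspan v
      refine ⟨x ^ n * d, mul_ne_zero (pow_ne_zero n hx0) hd, ?_⟩
      have h0 := hn (Submodule.Quotient.mk ⟨d • v, hdv⟩)
      rw [← Submodule.Quotient.mk_smul, Submodule.Quotient.mk_eq_zero] at h0
      rw [mul_smul]
      exact h0
  · intro M' hM'
    refine ⟨hMfg.of_le inf_le_left, ?_⟩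
    apply span_eq_top_of_forall_exists_smul_mem (K := K)
    intro v
    obtain ⟨d, hd, hdv⟩ := exists_smul_mem_of_span_eq_top (K := K) hMspan v
    obtain ⟨d', hd', hdv'⟩ := exists_smul_mem_of_span_eq_top (K := K) hM'.span_eq_top v
    refine ⟨d * d', mul_ne_zero hd hd', ?_, ?_⟩
    · rw [mul_comm, mul_smul]
      exact M.smul_mem d' hdv
    · rw [mul_smul]
      exact M'.smul_mem d hdv'

end Lat

end Groth.Agent.H3.KA
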