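import Mathlib
import Groth.Agent.Lib.Helper3.CA.KrullAkizuki1

/-!
# Krull–Akizuki: the quantitative length bound (helper3)
-/

set_option autoImplicit false

namespace Groth.Agent.H3.KA

/-- a module killed by `x` and generated by a finite family has length at most the cardinality of
the family times the length of `R/xR` -/
theorem length_le_card_mul {R : Type*} [CommRing R] {Q : Type*} [AddCommGroup Q] [Module R Q]
    (x : R) (h : ∀ q : Q, x • q = 0) {ι : Type*} [Fintype ι] (g : ι → Q)
    (hg : Submodule.span R (Set.range g) = ⊤) :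
    Module.length R Q ≤ Fintype.card ι * Module.length R (R ⧸ Ideal.span {x}) := by
  have hT : Module.IsTorsionBySet R Q (Ideal.span {x} : Ideal R) := by
    rw [Ideal.span, Module.isTorsionBySet_span_singleton_iff]
    exact h
  letI := hT.module
  haveI : IsScalarTower R (R ⧸ Ideal.span {x}) Q := hT.isScalarTower
  have hsurjR : Function.Surjective (algebraMap R (R ⧸ Ideal.span {x})) :=
    Ideal.Quotient.mk_surjective
  have hg' : Submodule.span (R ⧸ Ideal.span {x}) (Set.range g) = ⊤ := by
    rw [← Submodule.restrictScalars_eq_top_iff (S := R), Submodule.restrictScalars_span R _ hsurjR]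
    exact hg
  have hsurj : Function.Surjective (Fintype.linearCombination (R ⧸ Ideal.span {x}) g) :=
    (span_range_eq_top_iff_surjective_fintypeLinearCombination _ _).mp hg'
  rw [Module.length_eq_of_surjective (R := R ⧸ Ideal.span {x}) (S := R) (M := Q) hsurjR,
    Module.length_eq_of_surjective (R := R ⧸ Ideal.span {x}) (S := R)
      (M := R ⧸ Ideal.span {x}) hsurjR]
  refine (Module.length_le_of_surjective _ hsurj).trans ?_
  rw [Module.length_pi_of_fintype]
  simp

section Main

variable {R : Type*} [CommRing R] [IsDomain R] {K : Type*} [Field K] [Algebra R K]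
  [IsFractionRing R K] {V : Type*} [AddCommGroup V] [Module R V] [Module K V]
  [IsScalarTower R K V] [IsNoetherianRing R] [Ring.KrullDimLE 1 R] [FiniteDimensional K V]

include K in
theorem rl_sm_le_finrank_mul (M : Submodule R V) {x : R} (hx : x ≠ 0) :
    rl (sm x M) M ≤ Module.finrank K V * Module.length R (R ⧸ Ideal.span {x}) := by
  classical
  obtain ⟨b, hbM, hspan, hli⟩ := exists_linearIndependent K (M : Set V)
  have hbfin : b.Finite := hli.setFinite
  set t : Finset V := hbfin.toFinset with ht
  have htb : (t : Set V) = b := hbfin.coe_toFinset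
  have hcard : t.card ≤ Module.finrank K V := by
    apply LinearIndependent.finset_card_le_finrank (R := K)
    have : LinearIndependent K (fun x : (t : Set V) => (x : V)) := by
      rw [htb]
      exact hli
    exact this
  obtain ⟨-, h2⟩ := rl_sm_le_of_span (K := K) M hx t (htb ▸ hbM) (by rw [htb, hspan])
  refine h2.trans ?_
  set N₀ : Submodule R V := Submodule.span R (t : Set V) with hN₀
  let g : t → (N₀ ⧸ (sm x N₀).submoduleOf N₀) := fun v =>
    Submodule.Quotient.mk ⟨v.1, Submodule.subset_span v.2⟩
  have hg : Submodule.span R (Set.range g) = ⊤ := by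
    rw [eq_top_iff]
    intro q hq
    clear hq
    obtain ⟨⟨n, hn⟩, rfl⟩ := Submodule.Quotient.mk_surjective _ q
    induction hn using Submodule.span_induction with
    | mem v hv => exact Submodule.subset_span ⟨⟨v, hv⟩, rfl⟩
    | zero => exact Submodule.zero_mem _
    | add v w hv hw ihv ihw =>
      have : (Submodule.Quotient.mk (⟨v + w, N₀.add_mem hv hw⟩ : N₀) :
          N₀ ⧸ (sm x N₀).submoduleOf N₀) =
          Submodule.Quotient.mk ⟨v, hv⟩ + Submodule.Quotient.mk ⟨w, hw⟩ := rfl
      rw [this]
      exact Submodule.add_mem _ ihv ihw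
    | smul a v hv ihv =>
      have : (Submodule.Quotient.mk (⟨a • v, N₀.smul_mem a hv⟩ : N₀) :
          N₀ ⧸ (sm x N₀).submoduleOf N₀) = a • Submodule.Quotient.mk ⟨v, hv⟩ := rfl
      rw [this]
      exact Submodule.smul_mem _ a ihv
  have hkill : ∀ q : N₀ ⧸ (sm x N₀).submoduleOf N₀, x • q = 0 := by
    intro q
    obtain ⟨n, rfl⟩ := Submodule.Quotient.mk_surjective _ q
    rw [← Submodule.Quotient.mk_smul, Submodule.Quotient.mk_eq_zero]
    exact mem_sm.mpr ⟨n, n.2, rfl⟩
  have h3 := length_le_card_mul x hkill g hg
  unfold rl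
  refine h3.trans ?_
  rw [Fintype.card_coe]
  gcongr

end Main

end Groth.Agent.H3.KA
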