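import Mathlib

/-!
# Lech's lemma on independent sequences: lengths (helper3)
-/

set_option autoImplicit false

namespace Groth.Agent.H3.Lech

variable {A : Type*} [CommRing A] {ι : Type*} [Fintype ι] [DecidableEq ι]

/-- independence of a finite family: every linear relation has coefficients in the ideal
generated by the family -/
def Ind (f : ι → A) : Prop :=
  ∀ a : ι → A, ∑ i, a i * f i = 0 → ∀ i, a i ∈ Ideal.span (Set.range f)

theorem sum_update (f : ι → A) (j : ι) (h : A) (c : ι → A) :
    ∑ i, c i * (Function.update f j h) i = c j * h + ∑ i ∈ Finset.univ.erase j, c i * f i := by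
  rw [← Finset.add_sum_erase Finset.univ _ (Finset.mem_univ j), Function.update_self]
  congr 1
  refine Finset.sum_congr rfl fun i hi => ?_
  rw [Function.update_of_ne (Finset.ne_of_mem_erase hi)]

theorem mem_span_update {f : ι → A} {j : ι} {h x : A} :
    x ∈ Ideal.span (Set.range (Function.update f j h)) ↔
      ∃ c : ι → A, c j * h + ∑ i ∈ Finset.univ.erase j, c i * f i = x := by
  rw [Ideal.mem_span_range_iff_exists_fun]
  simp only [sum_update]

theorem span_update_mul_le_left (f : ι → A) (j : ι) (F g : A) :
    Ideal.span (Set.range (Function.update f j (F * g))) ≤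
      Ideal.span (Set.range (Function.update f j F)) := by
  intro x hx
  obtain ⟨c, rfl⟩ := mem_span_update.mp hx
  exact mem_span_update.mpr ⟨Function.update c j (c j * g), by
    rw [Function.update_self]
    congr 1
    · ring
    · refine Finset.sum_congr rfl fun i hi => ?_
      rw [Function.update_of_ne (Finset.ne_of_mem_erase hi)]⟩

theorem span_update_mul_le_right (f : ι → A) (j : ι) (F g : A) :
    Ideal.span (Set.range (Function.update f j (F * g))) ≤
      Ideal.span (Set.range (Function.update f j g)) := by
  rw [mul_comm]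
  exact span_update_mul_le_left f j g F

/-- independence of `(…, F g, …)` implies independence of `(…, F, …)` -/
theorem ind_of_mul (f : ι → A) (j : ι) (F g : A) (h : Ind (Function.update f j (F * g))) :
    Ind (Function.update f j F) := by
  intro a ha i
  rw [sum_update] at ha
  -- multiply the relation by `g`
  have h1 : ∑ i, (Function.update (fun i => g * a i) j (a j)) i *
      (Function.update f j (F * g)) i = 0 := by
    rw [sum_update, Function.update_self]
    have : ∑ i ∈ Finset.univ.erase j, Function.update (fun i => g * a i) j (a j) i * f i =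
        g * ∑ i ∈ Finset.univ.erase j, a i * f i := by
      rw [Finset.mul_sum]
      refine Finset.sum_congr rfl fun i hi => ?_
      rw [Function.update_of_ne (Finset.ne_of_mem_erase hi)]
      ring
    rw [this]
    have : a j * (F * g) + g * ∑ i ∈ Finset.univ.erase j, a i * f i =
        g * (a j * F + ∑ i ∈ Finset.univ.erase j, a i * f i) := by ring
    rw [this, ha, mul_zero]
  have h2 := h _ h1 j
  rw [Function.update_self] at h2
  obtain ⟨c, hc⟩ := mem_span_update.mp h2
  -- substitute `a j = c j F g + Σ c i f i`
  have h3 : ∑ i, (Function.update (fun i => a i + c i * F) j (c j * F)) i *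
      (Function.update f j (F * g)) i = 0 := by
    rw [sum_update, Function.update_self]
    have : ∑ i ∈ Finset.univ.erase j, Function.update (fun i => a i + c i * F) j (c j * F) i * f i =
        ∑ i ∈ Finset.univ.erase j, a i * f i + F * ∑ i ∈ Finset.univ.erase j, c i * f i := by
      rw [Finset.mul_sum, ← Finset.sum_add_distrib]
      refine Finset.sum_congr rfl fun i hi => ?_
      rw [Function.update_of_ne (Finset.ne_of_mem_erase hi)]
      ring
    rw [this]
    have e1 : ∑ i ∈ Finset.univ.erase j, c i * f i = a j - c j * (F * g) := by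
      rw [← hc]; ring
    rw [e1]
    have e2 : ∑ i ∈ Finset.univ.erase j, a i * f i = - (a j * F) := by
      rw [eq_neg_iff_add_eq_zero, add_comm]
      exact ha
    rw [e2]
    ring
  have h4 := h _ h3
  by_cases hij : i = j
  · subst hij
    exact span_update_mul_le_left f i F g h2
  · have h5 := h4 i
    rw [Function.update_of_ne hij] at h5
    have h6 := span_update_mul_le_left f j F g h5
    have h7 : c i * F ∈ Ideal.span (Set.range (Function.update f j F)) :=
      Ideal.mul_mem_left _ _ (Ideal.subset_span ⟨j, Function.update_self j F f⟩)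
    have : a i = (a i + c i * F) - c i * F := by ring
    rw [this]
    exact Ideal.sub_mem _ h6 h7

/-- additivity of lengths -/
theorem length_mul (f : ι → A) (j : ι) (F g : A) (h : Ind (Function.update f j (F * g))) :
    Module.length A (A ⧸ Ideal.span (Set.range (Function.update f j (F * g)))) =
      Module.length A (A ⧸ Ideal.span (Set.range (Function.update f j F))) +
        Module.length A (A ⧸ Ideal.span (Set.range (Function.update f j g))) := by
  set 𝔞 := Ideal.span (Set.range (Function.update f j (F * g))) with h𝔞
  set 𝔟 := Ideal.span (Set.range (Function.update f j F)) with h𝔟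
  set 𝔠 := Ideal.span (Set.range (Function.update f j g)) with h𝔠
  have hab : 𝔞 ≤ 𝔟 := span_update_mul_le_left f j F g
  have hac : 𝔞 ≤ 𝔠 := span_update_mul_le_right f j F g
  have hF𝔠 : 𝔠 ≤ Submodule.comap (LinearMap.lsmul A A F) 𝔞 := by
    intro x hx
    obtain ⟨c, rfl⟩ := mem_span_update.mp hx
    show F • (c j * g + ∑ i ∈ Finset.univ.erase j, c i * f i) ∈ 𝔞
    refine mem_span_update.mpr ⟨Function.update (fun i => F * c i) j (c j), ?_⟩
    rw [smul_eq_mul, mul_add, Finset.mul_sum, Function.update_self]
    congr 1
    · ring
    · refine Finset.sum_congr rfl fun i hi => ?_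
      rw [Function.update_of_ne (Finset.ne_of_mem_erase hi)]
      ring
  let φ : (A ⧸ 𝔠) →ₗ[A] (A ⧸ 𝔞) := Submodule.mapQ 𝔠 𝔞 (LinearMap.lsmul A A F) hF𝔠
  let ψ : (A ⧸ 𝔞) →ₗ[A] (A ⧸ 𝔟) := Submodule.mapQ 𝔞 𝔟 LinearMap.id hab
  have hφ : ∀ a : A, φ (Submodule.Quotient.mk a) = Submodule.Quotient.mk (F * a) := fun a => rfl
  have hψ : ∀ a : A, ψ (Submodule.Quotient.mk a) = Submodule.Quotient.mk a := fun a => rfl
  have hinj : Function.Injective φ := by
    rw [← LinearMap.ker_eq_bot, eq_bot_iff]
    intro y hy
    obtain ⟨a, rfl⟩ := Submodule.Quotient.mk_surjective _ y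
    rw [LinearMap.mem_ker, hφ, Submodule.Quotient.mk_eq_zero] at hy
    rw [Submodule.mem_bot, Submodule.Quotient.mk_eq_zero]
    obtain ⟨c, hc⟩ := mem_span_update.mp hy
    -- `F (a - c j g) = Σ c i f i`; multiply by `g`
    have h1 : ∑ i, (Function.update (fun i => - (g * c i)) j (a - c j * g)) i *
        (Function.update f j (F * g)) i = 0 := by
      rw [sum_update, Function.update_self]
      have : ∑ i ∈ Finset.univ.erase j,
          Function.update (fun i => - (g * c i)) j (a - c j * g) i * f i =
          - (g * ∑ i ∈ Finset.univ.erase j, c i * f i) := by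
        rw [Finset.mul_sum, ← Finset.sum_neg_distrib]
        refine Finset.sum_congr rfl fun i hi => ?_
        rw [Function.update_of_ne (Finset.ne_of_mem_erase hi)]
        ring
      rw [this]
      have e1 : ∑ i ∈ Finset.univ.erase j, c i * f i = F * a - c j * (F * g) := by
        rw [← hc]; ring
      rw [e1]
      ring
    have h2 := h _ h1 j
    rw [Function.update_self] at h2
    have h3 : c j * g ∈ 𝔠 :=
      Ideal.mul_mem_left _ _ (Ideal.subset_span ⟨j, Function.update_self j g f⟩)
    have : a = (a - c j * g) + c j * g := by ring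
    rw [this]
    exact Ideal.add_mem _ (hac h2) h3
  have hsurj : Function.Surjective ψ := by
    intro y
    obtain ⟨a, rfl⟩ := Submodule.Quotient.mk_surjective _ y
    exact ⟨Submodule.Quotient.mk a, rfl⟩
  have hex : Function.Exact φ ψ := by
    intro y
    obtain ⟨a, rfl⟩ := Submodule.Quotient.mk_surjective _ y
    constructor
    · intro hy
      rw [hψ, Submodule.Quotient.mk_eq_zero] at hy
      obtain ⟨c, hc⟩ := mem_span_update.mp hy
      refine ⟨Submodule.Quotient.mk (c j), ?_⟩
      rw [hφ, Submodule.Quotient.eq]
      have : F * c j - a = - ∑ i ∈ Finset.univ.erase j, c i * f i := by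
        rw [← hc]; ring
      rw [this]
      refine Ideal.neg_mem_iff _ |>.mpr (Ideal.sum_mem _ fun i hi => ?_)
      refine Ideal.mul_mem_left _ _ (Ideal.subset_span ⟨i, ?_⟩)
      rw [Function.update_of_ne (Finset.ne_of_mem_erase hi)]
    · rintro ⟨z, hz⟩
      obtain ⟨b, rfl⟩ := Submodule.Quotient.mk_surjective _ z
      rw [← hz, hφ, hψ, Submodule.Quotient.mk_eq_zero]
      exact Ideal.mul_mem_right _ _ (Ideal.subset_span ⟨j, Function.update_self j F f⟩)
  rw [Module.length_eq_add_of_exact φ ψ hinj hsurj hex, add_comm]

end Groth.Agent.H3.Lech
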