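import Mathlib
import Groth.Agent.Lib.Helper3.CA.Lech1

/-!
# Lech's lemma: the length of `A/(x₁^{e₁}, …, x_r^{e_r})` (helper3)
-/

set_option autoImplicit false

namespace Groth.Agent.H3.Lech

variable {A : Type*} [CommRing A] [IsLocalRing A] {ι : Type*} [Fintype ι] [DecidableEq ι]

theorem length_pow_aux (x : ι → A) (hx : Ideal.span (Set.range x) = IsLocalRing.maximalIdeal A) :
    ∀ (n : ℕ) (e : ι → ℕ), (∀ i, 0 < e i) → ∑ i, e i = n → Ind (fun i => x i ^ e i) →
      Module.length A (A ⧸ Ideal.span (Set.range (fun i => x i ^ e i))) =
        ((∏ i, e i : ℕ) : ℕ∞) := by
  intro n
  induction n using Nat.strong_induction_on with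
  | _ n ih =>
    intro e he hsum hind
    by_cases hall : ∀ i, e i = 1
    · -- base case
      have h1 : (fun i => x i ^ e i) = x := by
        funext i
        rw [hall i, pow_one]
      have h2 : ∏ i, e i = 1 := Finset.prod_eq_one fun i _ => hall i
      rw [h1, hx, h2, Nat.cast_one, Module.length_eq_one_iff]
      rw [isSimpleModule_iff_isCoatom, ← Ideal.isMaximal_def]
      exact IsLocalRing.maximalIdeal.isMaximal A
    · push Not at hall
      obtain ⟨j, hj⟩ := hall
      have hj2 : 2 ≤ e j := by
        have := he j
        omega
      -- the two smaller exponent vectors
      set e' : ι → ℕ := Function.update e j (e j - 1) with he'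
      set e'' : ι → ℕ := Function.update e j 1 with he''
      set v' : ι → A := fun i => x i ^ e' i with hv'
      have hv : (fun i => x i ^ e i) = Function.update v' j (x j ^ (e j - 1) * x j) := by
        funext i
        by_cases hij : i = j
        · subst hij
          rw [Function.update_self, ← pow_succ]
          congr 1
          omega
        · rw [Function.update_of_ne hij]
          simp only [hv', he', Function.update_of_ne hij]
      have hv'eq : Function.update v' j (x j ^ (e j - 1)) = v' := by
        apply Function.update_eq_self_iff.mpr
        simp only [hv', he', Function.update_self]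
      have hv''eq : Function.update v' j (x j) = fun i => x i ^ e'' i := by
        funext i
        by_cases hij : i = j
        · subst hij
          simp only [Function.update_self, he'', pow_one]
        · rw [Function.update_of_ne hij]
          simp only [hv', he', he'', Function.update_of_ne hij]
      rw [hv] at hind ⊢
      have hind' : Ind v' := by
        have := ind_of_mul v' j _ _ hind
        rwa [hv'eq] at this
      have hind'' : Ind (fun i => x i ^ e'' i) := by
        have h1 := hind
        rw [mul_comm] at h1
        have := ind_of_mul v' j _ _ h1
        rwa [hv''eq] at this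
      have hlen := length_mul v' j _ _ hind
      rw [hv'eq, hv''eq] at hlen
      have hpos' : ∀ i, 0 < e' i := by
        intro i
        by_cases hij : i = j
        · subst hij
          simp only [he', Function.update_self]
          omega
        · simp only [he', Function.update_of_ne hij]
          exact he i
      have hpos'' : ∀ i, 0 < e'' i := by
        intro i
        by_cases hij : i = j
        · subst hij
          simp only [he'', Function.update_self]
          omega
        · simp only [he'', Function.update_of_ne hij]
          exact he i
      have hsplit : ∀ (u : ι → ℕ), ∑ i, u i = u j + ∑ i ∈ Finset.univ.erase j, u i :=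
        fun u => (Finset.add_sum_erase Finset.univ u (Finset.mem_univ j)).symm
      have hrest : ∀ (m : ℕ), ∑ i ∈ Finset.univ.erase j, Function.update e j m i =
          ∑ i ∈ Finset.univ.erase j, e i := fun m =>
        Finset.sum_congr rfl fun i hi => Function.update_of_ne (Finset.ne_of_mem_erase hi) _ _
      have hsum' : ∑ i, e' i < n := by
        rw [hsplit e', he', Function.update_self, hrest, ← hsum, hsplit e]
        omega
      have hsum'' : ∑ i, e'' i < n := by
        rw [hsplit e'', he'', Function.update_self, hrest, ← hsum, hsplit e]
        omega
      have ih' := ih _ hsum' e' hpos' rfl hind'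
      have ih'' := ih _ hsum'' e'' hpos'' rfl hind''
      rw [hlen, ih', ih'']
      have hpsplit : ∀ (u : ι → ℕ), ∏ i, u i = u j * ∏ i ∈ Finset.univ.erase j, u i :=
        fun u => (Finset.mul_prod_erase Finset.univ u (Finset.mem_univ j)).symm
      have hprest : ∀ (m : ℕ), ∏ i ∈ Finset.univ.erase j, Function.update e j m i =
          ∏ i ∈ Finset.univ.erase j, e i := fun m =>
        Finset.prod_congr rfl fun i hi => Function.update_of_ne (Finset.ne_of_mem_erase hi) _ _
      rw [hpsplit e', hpsplit e'', hpsplit e, he', he'', Function.update_self,
        Function.update_self, hprest, hprest, ← Nat.cast_add]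
      congr 1
      have : e j = (e j - 1) + 1 := by omega
      conv_rhs => rw [this]
      ring

theorem length_pow (x : ι → A) (hx : Ideal.span (Set.range x) = IsLocalRing.maximalIdeal A)
    (e : ι → ℕ) (he : ∀ i, 0 < e i) (hind : Ind (fun i => x i ^ e i)) :
    Module.length A (A ⧸ Ideal.span (Set.range (fun i => x i ^ e i))) = ∏ i, (e i : ℕ∞) := by
  rw [length_pow_aux x hx _ e he rfl hind, Nat.cast_prod]

end Groth.Agent.H3.Lech
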