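import Mathlib
import Groth.Agent.Lib.Helper3.CA.DefT1
import Groth.Agent.Lib.Helper3.CA.DefT2

set_option autoImplicit false

universe u

open scoped TensorProduct

namespace Groth.Agent.H3.LiftProj

open Groth.Agent.H3.DefT

variable {R : Type u} [CommRing R]

theorem pow_apply_mem {n : ℕ} (J : Ideal R) (M : Matrix (Fin n) (Fin n) R)
    (hM : ∀ i j, M i j ∈ J) (m : ℕ) : ∀ i j, (M ^ m) i j ∈ J ^ m := by
  induction m with
  | zero => intro i j; simp
  | succ m ih =>
    intro i j
    have h1 : (M ^ (m + 1)) i j = ∑ l, (M ^ m) i l * M l j := by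
      rw [pow_succ, Matrix.mul_apply]
    rw [h1, pow_succ]
    exact Ideal.sum_mem _ fun l _ => Ideal.mul_mem_mul (ih i l) (hM l j)

theorem isNilpotent_of_entries {n : ℕ} (M : Matrix (Fin n) (Fin n) R)
    (h : ∀ i j, IsNilpotent (M i j)) : IsNilpotent M := by
  classical
  let J : Ideal R := Ideal.span (Set.range fun ij : Fin n × Fin n => M ij.1 ij.2)
  have hJfg : J.FG := ⟨(Finset.univ.image fun ij : Fin n × Fin n => M ij.1 ij.2), by
    simp [J]⟩
  have hJle : J ≤ nilradical R := by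
    rw [Ideal.span_le]
    rintro _ ⟨ij, rfl⟩
    exact h ij.1 ij.2
  obtain ⟨k, hk⟩ := hJfg.isNilpotent_iff_le_nilradical.mpr hJle
  refine ⟨k, ?_⟩
  ext i j
  have := pow_apply_mem J M (fun i j => Ideal.subset_span ⟨(i, j), rfl⟩) k i j
  rw [hk] at this
  simpa using this

theorem main' (I : Ideal R) (hI : ∀ x ∈ I, IsNilpotent x) (Pb : Type u) [AddCommGroup Pb]
    [Module (R ⧸ I) Pb] [Module R Pb] [IsScalarTower R (R ⧸ I) Pb]
    [Module.Projective (R ⧸ I) Pb] [Module.Finite (R ⧸ I) Pb] :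
    ∃ (n : ℕ) (P : Submodule R (Fin n → R)), Module.Projective R P ∧ Module.Finite R P ∧
      Nonempty (((R ⧸ I) ⊗[R] P) ≃ₗ[R ⧸ I] Pb) := by
  classical
  obtain ⟨n, u, hu⟩ := Module.Finite.exists_fin' (R ⧸ I) Pb
  obtain ⟨s, hs⟩ := Module.projective_lifting_property u LinearMap.id hu
  have hus : ∀ y, u (s y) = y := fun y => LinearMap.congr_fun hs y
  let eb : (Fin n → R ⧸ I) →ₗ[R ⧸ I] (Fin n → R ⧸ I) := s ∘ₗ u
  let Eb : Matrix (Fin n) (Fin n) (R ⧸ I) := LinearMap.toMatrix' eb
  have hEb : IsIdempotentElem Eb := by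
    show Eb * Eb = Eb
    rw [← LinearMap.toMatrix'_comp]
    congr 1
    refine LinearMap.ext fun x => ?_
    show s (u (s (u x))) = s (u x)
    rw [hus]
  let f : Matrix (Fin n) (Fin n) R →+* Matrix (Fin n) (Fin n) (R ⧸ I) :=
    (Ideal.Quotient.mk I).mapMatrix
  have hfsurj : Function.Surjective f := by
    intro M
    choose g hg using fun i j => Ideal.Quotient.mk_surjective (M i j)
    refine ⟨Matrix.of g, ?_⟩
    ext i j
    simp [f, hg]
  have hker : ∀ x ∈ RingHom.ker f, IsNilpotent x := by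
    intro M hM
    apply isNilpotent_of_entries
    intro i j
    apply hI
    rw [← Ideal.Quotient.eq_zero_iff_mem]
    have h0 : f M i j = 0 := by rw [RingHom.mem_ker.mp hM]; rfl
    simpa [f] using h0
  obtain ⟨E, hE, hfE⟩ := exists_isIdempotentElem_eq_of_ker_isNilpotent f hker Eb
    (RingHom.mem_range.mpr (hfsurj Eb)) hEb
  let e : (Fin n → R) →ₗ[R] (Fin n → R) := Matrix.toLin' E
  have hee : ∀ x, e (e x) = e x := by
    intro x
    show (Matrix.toLin' E ∘ₗ Matrix.toLin' E) x = _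
    rw [← Matrix.toLin'_mul, hE.eq]
  let P : Submodule R (Fin n → R) := LinearMap.range e
  have hP : ∀ x : P, e x.1 = x.1 := by
    rintro ⟨_, y, rfl⟩
    exact hee y
  -- reduction map
  let π : (Fin n → R) →ₗ[R] (Fin n → R ⧸ I) := (Algebra.linearMap R (R ⧸ I)).compLeft (Fin n)
  have hπ : ∀ x i, π x i = Ideal.Quotient.mk I (x i) := fun x i => rfl
  have hπe : ∀ x, π (e x) = eb (π x) := by
    intro x
    have h1 : eb (π x) = Eb.mulVec (π x) := by
      show _ = (LinearMap.toMatrix' eb).mulVec _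
      rw [LinearMap.toMatrix'_mulVec]
    rw [h1, ← hfE]
    ext i
    rw [hπ]
    show Ideal.Quotient.mk I ((E.mulVec x) i) = _
    simp only [Matrix.mulVec, dotProduct, map_sum, map_mul, f, RingHom.mapMatrix_apply,
      Matrix.map_apply, hπ]
  refine ⟨n, P, ?_, ?_, ?_⟩
  · -- projective: direct summand of a free module
    refine Module.Projective.of_split P.subtype (e.codRestrict P fun x => ⟨x, rfl⟩) ?_
    ext1 x
    apply Subtype.ext
    exact hP x
  · exact Module.Finite.range e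
  · let g : P →ₗ[R] Pb := (u.restrictScalars R) ∘ₗ π ∘ₗ P.subtype
    have hg : ∀ x : P, g x = u (π x.1) := fun x => rfl
    let G : (R ⧸ I) ⊗[R] P →ₗ[R ⧸ I] Pb := LinearMap.liftBaseChange (R ⧸ I) g
    have hG : ∀ x : P, G ((1 : R ⧸ I) ⊗ₜ[R] x) = g x := by
      intro x
      simp [G]
    refine ⟨LinearEquiv.ofBijective G ⟨?_, ?_⟩⟩
    · rw [injective_iff_map_eq_zero]
      intro t ht
      obtain ⟨x, rfl⟩ := exists_one_tmul I t
      rw [hG, hg] at ht
      rw [one_tmul_eq_zero_iff]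
      -- `π x = 0`
      have h1 : π x.1 = 0 := by
        have h2 : eb (π x.1) = 0 := by
          show s (u (π x.1)) = 0
          rw [ht, map_zero]
        rw [← hπe, hP] at h2
        exact h2
      have h3 : ∀ i, x.1 i ∈ I := by
        intro i
        rw [← Ideal.Quotient.eq_zero_iff_mem, ← hπ, h1]
        rfl
      have h4 : x.1 = ∑ i, (x.1 i) • e (Pi.single i 1) := by
        conv_lhs => rw [← hP x, ← (Pi.basisFun R (Fin n)).sum_repr x.1]
        simp only [map_sum, map_smul, Pi.basisFun_repr, Pi.basisFun_apply]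
      have h5 : x = ∑ i, (x.1 i) • (⟨e (Pi.single i 1), ⟨_, rfl⟩⟩ : P) := by
        apply Subtype.ext
        rw [Submodule.coe_sum]
        exact h4
      rw [h5]
      exact Submodule.sum_mem _ fun i _ => Submodule.smul_mem_smul (h3 i) Submodule.mem_top
    · intro y
      obtain ⟨xb, rfl⟩ := hu y
      have hπsurj : Function.Surjective π := by
        intro z
        choose w hw using fun i => Ideal.Quotient.mk_surjective (z i)
        exact ⟨w, funext fun i => by rw [hπ, hw]⟩
      obtain ⟨x, rfl⟩ := hπsurj xb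
      refine ⟨(1 : R ⧸ I) ⊗ₜ[R] (⟨e x, ⟨x, rfl⟩⟩ : P), ?_⟩
      rw [hG, hg]
      show u (π (e x)) = _
      rw [hπe]
      show u (s (u (π x))) = _
      rw [hus]

theorem main (I : Ideal R) (hI : ∀ x ∈ I, IsNilpotent x) (Pb : Type u) [AddCommGroup Pb]
    [Module (R ⧸ I) Pb] [Module.Projective (R ⧸ I) Pb] [Module.Finite (R ⧸ I) Pb] :
    ∃ (P : Type u) (_ : AddCommGroup P) (_ : Module R P), Module.Projective R P ∧
      Module.Finite R P ∧ Nonempty (((R ⧸ I) ⊗[R] P) ≃ₗ[R ⧸ I] Pb) := by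
  letI : Module R Pb := Module.compHom Pb (Ideal.Quotient.mk I)
  haveI : IsScalarTower R (R ⧸ I) Pb := IsScalarTower.of_algebraMap_smul fun r x => rfl
  obtain ⟨n, P, h1, h2, h3⟩ := main' I hI Pb
  exact ⟨P, inferInstance, inferInstance, h1, h2, h3⟩

end Groth.Agent.H3.LiftProj
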