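import Mathlib

set_option autoImplicit false

universe u

namespace Groth.Agent.H3.LocProd

open PrimeSpectrum

variable {R : Type u} [CommRing R] (S : Submonoid R)

theorem isOpen_of_fg (hS : S.FG) :
    IsOpen {p : PrimeSpectrum R | Disjoint (S : Set R) p.asIdeal} := by
  classical
  obtain ⟨F, hF⟩ := hS
  have : {p : PrimeSpectrum R | Disjoint (S : Set R) p.asIdeal} =
      (basicOpen (∏ s ∈ F, s) : Set (PrimeSpectrum R)) := by
    ext p
    simp only [Set.mem_ofPred_eq, SetLike.mem_coe, mem_basicOpen]
    rw [Ideal.IsPrime.prod_mem_iff]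
    constructor
    · rintro h ⟨s, hsF, hsp⟩
      have hsS : s ∈ S := by rw [← hF]; exact Submonoid.subset_closure hsF
      exact Set.disjoint_left.mp h hsS hsp
    · intro h
      have hle : S ≤ p.asIdeal.primeCompl := by
        rw [← hF, Submonoid.closure_le]
        intro s hsF hsp
        exact h ⟨s, hsF, hsp⟩
      rw [Set.disjoint_left]
      intro s hsS hsp
      exact hle hsS hsp
  rw [this]
  exact (basicOpen _).isOpen

theorem finite_minimalPrimes_of_noetherianSpace
    [TopologicalSpace.NoetherianSpace (PrimeSpectrum R)] : (minimalPrimes R).Finite := by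
  rw [← vanishingIdeal_irreducibleComponents]
  exact TopologicalSpace.NoetherianSpace.finite_irreducibleComponents.image _

theorem isOpen_of_noetherianSpace [TopologicalSpace.NoetherianSpace (PrimeSpectrum R)]
    (hcl : IsClosed {p : PrimeSpectrum R | Disjoint (S : Set R) p.asIdeal}) :
    IsOpen {p : PrimeSpectrum R | Disjoint (S : Set R) p.asIdeal} := by
  rw [← isClosed_compl_iff]
  have : {p : PrimeSpectrum R | Disjoint (S : Set R) p.asIdeal}ᶜ =
      ⋃ m ∈ {m ∈ minimalPrimes R | ¬ Disjoint (S : Set R) m}, zeroLocus (m : Set R) := by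
    ext x
    simp only [Set.mem_compl_iff, Set.mem_ofPred_eq, Set.mem_iUnion, mem_zeroLocus,
      SetLike.coe_subset_coe, exists_prop]
    constructor
    · intro hx
      obtain ⟨m, hm, hmx⟩ := Ideal.exists_minimalPrimes_le (bot_le : (⊥ : Ideal R) ≤ x.asIdeal)
      refine ⟨m, ⟨hm, ?_⟩, hmx⟩
      intro hdisj
      apply hx
      have hmprime : m.IsPrime := hm.1.1
      have hspec : (⟨m, hmprime⟩ : PrimeSpectrum R) ⤳ x := by
        rw [← le_iff_specializes]
        exact hmx
      exact hcl.stableUnderSpecialization hspec hdisj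
    · rintro ⟨m, ⟨_, hm⟩, hmx⟩ hx
      exact hm (Set.disjoint_of_subset_right hmx hx)
  rw [this]
  apply Set.Finite.isClosed_biUnion
  · exact finite_minimalPrimes_of_noetherianSpace.subset fun m hm => hm.1
  · intro m _
    exact isClosed_zeroLocus _

theorem main_of_isClopen (A : Type u) [CommRing A] [Algebra R A] [IsLocalization S A]
    (hclopen : IsClopen (Set.range (PrimeSpectrum.comap (algebraMap R A)))) :
    ∃ (R' : Type u) (_ : CommRing R') (e : R ≃+* A × R'),
      ∀ x : R, (e x).1 = algebraMap R A x := by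
  obtain ⟨e, he, hZ⟩ := exists_idempotent_basicOpen_eq_of_isClopen hclopen
  have hZ' : ∀ p : PrimeSpectrum R, e ∉ p.asIdeal ↔ Disjoint (S : Set R) p.asIdeal := by
    intro p
    have h1 : p ∈ Set.range (PrimeSpectrum.comap (algebraMap R A)) ↔
        p ∈ (basicOpen e : Set (PrimeSpectrum R)) := by rw [hZ]
    rw [localization_comap_range A S] at h1
    exact h1.symm
  have hee : e * (1 - e) = 0 := by rw [mul_sub, mul_one, he.eq, sub_self]
  -- `e ↦ 1`
  have he1 : algebraMap R A e = 1 := by
    have hidem : algebraMap R A e * algebraMap R A e = algebraMap R A e := by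
      rw [← map_mul, he.eq]
    have hu : IsUnit (algebraMap R A e) := by
      by_contra hnu
      obtain ⟨M, hM, heM⟩ := exists_max_ideal_of_mem_nonunits hnu
      have hMp : M.IsPrime := hM.isPrime
      have h1 : PrimeSpectrum.comap (algebraMap R A) ⟨M, hMp⟩ ∈
          Set.range (PrimeSpectrum.comap (algebraMap R A)) := Set.mem_range_self _
      rw [hZ] at h1
      exact h1 heM
    have : algebraMap R A e * algebraMap R A e = algebraMap R A e * 1 := by rw [hidem, mul_one]
    exact hu.mul_left_cancel this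
  -- elements of `S` are units modulo `1 - e`
  have hS : ∀ s ∈ S, ∃ t u : R, s * t = 1 + (1 - e) * u := by
    intro s hs
    have hu : IsUnit (Ideal.Quotient.mk (Ideal.span {1 - e}) s) := by
      by_contra hnu
      obtain ⟨M, hM, hsM⟩ := exists_max_ideal_of_mem_nonunits hnu
      have hMp : M.IsPrime := hM.isPrime
      let P : PrimeSpectrum R := ⟨M.comap (Ideal.Quotient.mk (Ideal.span {1 - e})), inferInstance⟩
      have h1e : 1 - e ∈ P.asIdeal := by
        show Ideal.Quotient.mk (Ideal.span {1 - e}) (1 - e) ∈ M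
        rw [Ideal.Quotient.eq_zero_iff_mem.mpr (Ideal.mem_span_singleton_self _)]
        exact M.zero_mem
      have heP : e ∉ P.asIdeal := by
        intro h
        have : (1 : R) ∈ P.asIdeal := by
          have := P.asIdeal.add_mem h1e h
          rwa [sub_add_cancel] at this
        exact P.isPrime.ne_top ((Ideal.eq_top_iff_one _).mpr this)
      have hdisj := (hZ' P).mp heP
      exact Set.disjoint_left.mp hdisj hs hsM
    obtain ⟨tb, htb⟩ := hu.exists_right_inv
    obtain ⟨t, rfl⟩ := Ideal.Quotient.mk_surjective tb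
    rw [← map_mul, ← map_one (Ideal.Quotient.mk (Ideal.span {1 - e})), Ideal.Quotient.eq,
      Ideal.mem_span_singleton'] at htb
    obtain ⟨u, hu⟩ := htb
    exact ⟨t, u, by rw [mul_comm (1 - e) u, hu]; ring⟩
  let φ : R →+* A × (R ⧸ Ideal.span {e}) :=
    (algebraMap R A).prod (Ideal.Quotient.mk (Ideal.span {e}))
  have hφinj : Function.Injective φ := by
    rw [injective_iff_map_eq_zero]
    intro x hx
    have hx1 : algebraMap R A x = 0 := congrArg Prod.fst hx
    have hx2 : Ideal.Quotient.mk (Ideal.span {e}) x = 0 := congrArg Prod.snd hx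
    rw [Ideal.Quotient.eq_zero_iff_mem, Ideal.mem_span_singleton'] at hx2
    obtain ⟨y, rfl⟩ := hx2
    rw [map_mul, he1, mul_one, IsLocalization.map_eq_zero_iff S A] at hx1
    obtain ⟨⟨s, hs⟩, hsy⟩ := hx1
    obtain ⟨t, u, htu⟩ := hS s hs
    have h1 : (1 + (1 - e) * u) * y = 0 := by
      rw [← htu, mul_comm s t, mul_assoc]
      show t * (s * y) = 0
      rw [show s * y = (⟨s, hs⟩ : S) * y from rfl, hsy, mul_zero]
    have h2 : y * e = e * ((1 + (1 - e) * u) * y) - (e * (1 - e)) * (u * y) := by ring
    rw [h2, h1, hee, mul_zero, zero_mul, sub_zero]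
  have hφsurj : Function.Surjective φ := by
    rintro ⟨a, rb⟩
    obtain ⟨r', rfl⟩ := Ideal.Quotient.mk_surjective rb
    obtain ⟨x, ⟨s, hs⟩, rfl⟩ := IsLocalization.exists_mk'_eq S a
    obtain ⟨t, u, htu⟩ := hS s hs
    have hst : algebraMap R A s * algebraMap R A t = 1 := by
      rw [← map_mul, htu, map_add, map_mul, map_sub, map_one, he1, sub_self, zero_mul, add_zero]
    refine ⟨e * (x * t) + (1 - e) * r', Prod.ext ?_ ?_⟩
    · show algebraMap R A (e * (x * t) + (1 - e) * r') = IsLocalization.mk' A x ⟨s, hs⟩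
      rw [eq_comm, IsLocalization.mk'_eq_iff_eq_mul]
      simp only [map_add, map_mul, map_sub, map_one, he1, sub_self, zero_mul, add_zero, one_mul]
      rw [mul_assoc, mul_comm (algebraMap R A t), hst, mul_one]
    · show Ideal.Quotient.mk (Ideal.span {e}) (e * (x * t) + (1 - e) * r') =
        Ideal.Quotient.mk (Ideal.span {e}) r'
      rw [Ideal.Quotient.eq, Ideal.mem_span_singleton']
      exact ⟨x * t - r', by ring⟩
  exact ⟨R ⧸ Ideal.span {e}, inferInstance, RingEquiv.ofBijective φ ⟨hφinj, hφsurj⟩,
    fun x => rfl⟩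

theorem main (A : Type u) [CommRing A] [Algebra R A] [IsLocalization S A] (hcl : IsClosed (Set.range (PrimeSpectrum.comap (algebraMap R A))))
    (h : TopologicalSpace.NoetherianSpace (PrimeSpectrum R) ∨ S.FG) :
    ∃ (R' : Type u) (_ : CommRing R') (e : R ≃+* A × R'),
      ∀ x : R, (e x).1 = algebraMap R A x := by
  apply main_of_isClopen S A
  refine ⟨hcl, ?_⟩
  rw [localization_comap_range A S] at hcl ⊢
  rcases h with h | h
  · exact isOpen_of_noetherianSpace S hcl
  · exact isOpen_of_fg S h

end Groth.Agent.H3.LocProd
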