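import Mathlib

set_option autoImplicit false

universe u

open Polynomial

namespace Groth.Agent.H3.MonoUnram

variable (A B : Type u) [CommRing A] [IsLocalRing A] [CommRing B] [Algebra A B]
  [Module.Finite A B] (u : B)

local notation "𝔪" => IsLocalRing.maximalIdeal A
local notation "k" => A ⧸ IsLocalRing.maximalIdeal A
local notation "mB" => Ideal.map (algebraMap A B) (IsLocalRing.maximalIdeal A)
local notation "Bb" => B ⧸ Ideal.map (algebraMap A B) (IsLocalRing.maximalIdeal A)

/-- reduction commutes with evaluation -/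
theorem mk_aeval (G : A[X]) :
    Ideal.Quotient.mk mB (aeval u G) =
      aeval (Ideal.Quotient.mk mB u) (G.map (Ideal.Quotient.mk 𝔪)) :=
  map_aeval_eq_aeval_map (φ := Ideal.Quotient.mk 𝔪) (ψ := Ideal.Quotient.mk mB) rfl G u

theorem aeval_mem_of_map_eq_zero (E : A[X]) (hE : E.map (Ideal.Quotient.mk 𝔪) = 0) :
    aeval u E ∈ mB := by
  rw [← Ideal.Quotient.eq_zero_iff_mem, mk_aeval, hE, map_zero]

theorem exists_monic (hu : Algebra.adjoin A ({u} : Set B) = ⊤) :
    letI : Field k := Ideal.Quotient.field 𝔪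
    ∃ F : A[X], F.Monic ∧ aeval u F = 0 ∧
      F.map (Ideal.Quotient.mk 𝔪) = minpoly k (Ideal.Quotient.mk mB u) := by
  letI : Field k := Ideal.Quotient.field 𝔪
  set ub : Bb := Ideal.Quotient.mk mB u with hub
  have hint : IsIntegral k ub := by
    have h1 : IsIntegral A ub := IsIntegral.of_finite A ub
    exact h1.tower_top
  set fb := minpoly k ub with hfb
  have hfbmonic : fb.Monic := minpoly.monic hint
  set n := fb.natDegree with hn
  -- a monic lift
  obtain ⟨F₁, hF₁map, hF₁deg, hF₁monic⟩ :=
    lifts_and_natDegree_eq_and_monic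
      (show fb ∈ lifts (Ideal.Quotient.mk 𝔪) from
        (mem_lifts _).mpr (map_surjective _ Ideal.Quotient.mk_surjective fb)) hfbmonic
  have hF₁u : aeval u F₁ ∈ mB := by
    rw [← Ideal.Quotient.eq_zero_iff_mem, mk_aeval, hF₁map]
    exact minpoly.aeval k ub
  -- Nakayama: powers `< n` span
  set N : Submodule A B := Submodule.span A (Set.range fun i : Fin n => u ^ (i : ℕ)) with hN
  have hsurj : ∀ b : B, ∃ G : A[X], aeval u G = b := by
    intro b
    have : b ∈ Algebra.adjoin A ({u} : Set B) := by rw [hu]; trivial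
    rw [Algebra.adjoin_singleton_eq_range_aeval] at this
    exact this
  have hNtop : N = ⊤ := by
    rw [eq_top_iff]
    apply Submodule.le_of_le_smul_of_le_jacobson_bot (I := 𝔪) Module.Finite.fg_top
      (IsLocalRing.maximalIdeal_le_jacobson _)
    intro b _
    obtain ⟨G, rfl⟩ := hsurj b
    have hdiv := modByMonic_add_div G F₁
    rw [← hdiv, map_add, map_mul]
    apply Submodule.add_mem_sup
    · rw [hN, PowerBasis.mem_span_pow']
      refine ⟨G %ₘ F₁, ?_, rfl⟩
      have := degree_modByMonic_lt G hF₁monic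
      rw [degree_eq_natDegree hF₁monic.ne_zero, hF₁deg] at this
      exact this
    · rw [Ideal.smul_top_eq_map]
      exact Ideal.mul_mem_right _ _ hF₁u
  -- now `u ^ n` is a combination of lower powers
  have hun : u ^ n ∈ N := by rw [hNtop]; trivial
  rw [hN, PowerBasis.mem_span_pow'] at hun
  obtain ⟨R, hRdeg, hRu⟩ := hun
  refine ⟨X ^ n - R, ?_, ?_, ?_⟩
  · exact (monic_X_pow n).sub_of_left (by rwa [degree_X_pow])
  · rw [map_sub, map_pow, aeval_X, hRu, sub_self]
  · have hmonic : (X ^ n - R).Monic := (monic_X_pow n).sub_of_left (by rwa [degree_X_pow])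
    have hmonic' : ((X ^ n - R).map (Ideal.Quotient.mk 𝔪)).Monic := hmonic.map _
    have hroot : aeval ub ((X ^ n - R).map (Ideal.Quotient.mk 𝔪)) = 0 := by
      rw [← mk_aeval, map_sub, map_pow, aeval_X, hRu, sub_self, map_zero]
    have hdvd : fb ∣ (X ^ n - R).map (Ideal.Quotient.mk 𝔪) := minpoly.dvd k ub hroot
    apply eq_of_monic_of_dvd_of_natDegree_le hfbmonic hmonic' hdvd
    rw [hmonic.natDegree_map]
    refine (natDegree_sub_le _ _).trans (max_le ?_ ?_)
    · rw [natDegree_X_pow]
    · exact natDegree_le_of_degree_le hRdeg.le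


theorem main (hu : Algebra.adjoin A ({u} : Set B) = ⊤) :
    ∃ F : A[X], F.Monic ∧ aeval u F = 0 ∧
      ∀ (n : Ideal B) [n.IsMaximal], Algebra.IsUnramifiedAt A n →
        aeval u (derivative F) ∉ n := by
  letI : Field k := Ideal.Quotient.field 𝔪
  obtain ⟨F, hFmonic, hFu, hFmap⟩ := exists_monic A B u hu
  refine ⟨F, hFmonic, hFu, ?_⟩
  intro n hn hunr hF'
  set ub : Bb := Ideal.Quotient.mk mB u with hub
  have hmBn : mB ≤ n := by
    rw [Ideal.map_le_iff_le_comap]
    have : (n.comap (algebraMap A B)).IsMaximal :=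
      Ideal.isMaximal_comap_of_isIntegral_of_isMaximal n
    rw [IsLocalRing.eq_maximalIdeal this]
  have key : ∀ G : A[X], aeval u G = 0 → aeval u (derivative G) ∈ n := by
    intro G hG
    have hroot : aeval ub (G.map (Ideal.Quotient.mk 𝔪)) = 0 := by
      rw [← mk_aeval, hG, map_zero]
    have hdvd : minpoly k ub ∣ G.map (Ideal.Quotient.mk 𝔪) := minpoly.dvd k ub hroot
    rw [← hFmap] at hdvd
    obtain ⟨hb, hhb⟩ := hdvd
    obtain ⟨H, rfl⟩ := map_surjective (Ideal.Quotient.mk 𝔪) Ideal.Quotient.mk_surjective hb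
    set E := G - F * H with hEdef
    have hE : E.map (Ideal.Quotient.mk 𝔪) = 0 := by
      rw [hEdef, Polynomial.map_sub, Polynomial.map_mul, hhb, sub_self]
    have hE' : (derivative E).map (Ideal.Quotient.mk 𝔪) = 0 := by
      rw [← derivative_map, hE, derivative_zero]
    have hG' : derivative G = derivative F * H + F * derivative H + derivative E := by
      rw [hEdef, derivative_sub, derivative_mul]
      ring
    rw [hG', map_add, map_add, map_mul, map_mul, hFu, zero_mul, add_zero]
    exact n.add_mem (n.mul_mem_right _ hF') (hmBn (aeval_mem_of_map_eq_zero A B u _ hE'))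
  -- the derivation
  let π : A[X] →ₗ[A] B := (aeval u).toLinearMap
  have hπsurj : Function.Surjective π := by
    intro b
    have : b ∈ Algebra.adjoin A ({u} : Set B) := by rw [hu]; trivial
    rw [Algebra.adjoin_singleton_eq_range_aeval] at this
    exact this
  let D₀ : A[X] →ₗ[A] B ⧸ n :=
    ((Submodule.mkQ n).restrictScalars A) ∘ₗ π ∘ₗ (derivative : A[X] →ₗ[A] A[X])
  have hD₀ : LinearMap.ker π ≤ LinearMap.ker D₀ := by
    intro G hG
    rw [LinearMap.mem_ker] at hG ⊢
    show Ideal.Quotient.mk n (aeval u (derivative G)) = 0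
    exact Ideal.Quotient.eq_zero_iff_mem.mpr (key G hG)
  let Dl : B →ₗ[A] B ⧸ n :=
    ((LinearMap.ker π).liftQ D₀ hD₀) ∘ₗ (π.quotKerEquivOfSurjective hπsurj).symm.toLinearMap
  have hDl : ∀ G : A[X], Dl (aeval u G) = Ideal.Quotient.mk n (aeval u (derivative G)) := by
    intro G
    have h1 : (π.quotKerEquivOfSurjective hπsurj).symm (aeval u G) =
        Submodule.Quotient.mk G := by
      rw [LinearEquiv.symm_apply_eq]
      rfl
    show ((LinearMap.ker π).liftQ D₀ hD₀)
      ((π.quotKerEquivOfSurjective hπsurj).symm (aeval u G)) = _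
    rw [h1]
    rfl
  let D : Derivation A B (B ⧸ n) := Derivation.mk' Dl (by
    intro a b
    obtain ⟨P, rfl⟩ := hπsurj a
    obtain ⟨Q, rfl⟩ := hπsurj b
    show Dl (aeval u P * aeval u Q) = aeval u P • Dl (aeval u Q) + aeval u Q • Dl (aeval u P)
    rw [← map_mul, hDl, hDl, hDl, derivative_mul, map_add, map_mul, map_mul, map_add]
    show _ = Ideal.Quotient.mk n (aeval u P * aeval u (derivative Q)) +
      Ideal.Quotient.mk n (aeval u Q * aeval u (derivative P))
    rw [add_comm, mul_comm (aeval u (derivative P))])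
  have hDu : D u = 1 := by
    have : D u = Dl (aeval u (X : A[X])) := by rw [aeval_X]; rfl
    rw [this, hDl, derivative_X, map_one, map_one]
  -- unramified: `du` is killed by some `s ∉ n`
  let P : PrimeSpectrum B := ⟨n, hn.isPrime⟩
  have hP : P ∈ Algebra.unramifiedLocus A B := hunr
  rw [Algebra.unramifiedLocus_eq_compl_support, Set.mem_compl_iff,
    Module.notMem_support_iff'] at hP
  obtain ⟨s, hs, hsd⟩ := hP (KaehlerDifferential.D A B u)
  have h1 := congrArg D.liftKaehlerDifferential hsd
  rw [map_smul, Derivation.liftKaehlerDifferential_comp_D, hDu, map_zero] at h1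
  apply hs
  show s ∈ n
  rw [← Ideal.Quotient.eq_zero_iff_mem, ← h1]
  show _ = Ideal.Quotient.mk n (s * 1)
  rw [mul_one]

end Groth.Agent.H3.MonoUnram
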