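import Mathlib
import Groth.Prelude.Def_EGA4b
import Groth.Agent.Lib.Helper3.CA.NorLocus

/-!
# Finite products of normal rings are normal (helper3)
-/

set_option autoImplicit false
universe u

namespace Groth.Agent.H3.NorPi

theorem main {ι : Type u} [Finite ι] (A : ι → Type u) [∀ i, CommRing (A i)]
    (hA : ∀ i, EGA4.IsNormalRing (A i)) : EGA4.IsNormalRing (∀ i, A i) := by
  classical
  intro q _
  obtain ⟨i, qi, hqi⟩ := PrimeSpectrum.exists_comap_evalRingHom_eq (R := A) ⟨q, inferInstance⟩
  letI : Algebra (∀ a, A a) (A i) := (Pi.evalRingHom A i).toAlgebra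
  haveI : IsLocalization.Away (Pi.single i 1 : ∀ a, A a) (A i) := by
    refine IsLocalization.away_of_isIdempotentElem ?_ (RingHom.ker_evalRingHom _ _)
      ((Pi.evalRingHom A i).surjective)
    simp [IsIdempotentElem, ← Pi.single_mul_left]
  have hq : q = qi.asIdeal.comap (algebraMap (∀ a, A a) (A i)) := by
    have := congrArg PrimeSpectrum.asIdeal hqi
    exact this.symm
  subst hq
  exact (NorLoc.nor_iff_comap (Submonoid.powers (Pi.single i 1 : ∀ a, A a)) qi.asIdeal).mpr
    (hA i qi.asIdeal)

end Groth.Agent.H3.NorPi
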