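import Mathlib
import Groth.Prelude.Def_EGA4b
import Groth.Agent.Lib.Helper3.CA.NormTens4
import Groth.Agent.Lib.Helper3.CA.GeomNormalLoc
import Groth.Agent.Lib.Helper3.CA.PHom
import Groth.Agent.S9634

/-!
# `A ⊗_k B` is normal for `A` geometrically normal and `B` normal (Stacks 06DF) (helper3)
-/

set_option autoImplicit false
universe u
open TensorProduct

namespace Groth.Agent.H3.NormTens

open Groth.Agent.H3.OnePlus

theorem isReduced_of_isNormalRing (R : Type u) [CommRing R] (h : EGA4.IsNormalRing R) :
    IsReduced R := by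
  refine isReduced_ofLocalizationMaximal R fun m hm => ?_
  haveI : m.IsPrime := hm.isPrime
  have := (h m).1
  infer_instance

theorem isGeometricallyReduced_of_isGeomNormal (k S : Type u) [Field k] [CommRing S] [Algebra k S]
    (h : EGA4.IsGeomNormal k S) : Algebra.IsGeometricallyReduced k S := by
  refine ((Groth.Agent.S9634.result (k := k) (S := S)).out 0 1).mp ?_
  intro k' _ _ hfin _
  exact isReduced_of_isNormalRing _ (h k' hfin)

theorem normal_congr {T : Type u} [CommRing T] {p p' : Ideal T} [p.IsPrime] [p'.IsPrime]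
    (h : p = p')
    (hn : IsDomain (Localization.AtPrime p) ∧ IsIntegrallyClosed (Localization.AtPrime p)) :
    IsDomain (Localization.AtPrime p') ∧ IsIntegrallyClosed (Localization.AtPrime p') := by
  subst h; exact hn

/-- pointwise transfer of normality from a localization -/
theorem normal_atPrime_of_isLocalization {T T' : Type u} [CommRing T] [CommRing T'] [Algebra T T']
    (M : Submonoid T) [IsLocalization M T'] (r : Ideal T) [r.IsPrime]
    (hd : Disjoint (M : Set T) (r : Set T))
    (h : ∀ (Q : Ideal T') [Q.IsPrime], Q.comap (algebraMap T T') = r →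
      IsDomain (Localization.AtPrime Q) ∧ IsIntegrallyClosed (Localization.AtPrime Q)) :
    IsDomain (Localization.AtPrime r) ∧ IsIntegrallyClosed (Localization.AtPrime r) := by
  haveI hQ : (r.map (algebraMap T T')).IsPrime :=
    IsLocalization.isPrime_of_isPrime_disjoint M T' r inferInstance hd
  have hc : (r.map (algebraMap T T')).comap (algebraMap T T') = r :=
    IsLocalization.under_map_of_isPrime_disjoint M T' inferInstance hd
  have h1 := (NorLoc.nor_iff_comap M (r.map (algebraMap T T'))).mpr (h _ hc)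
  exact normal_congr hc h1

variable (k : Type u) [Field k] (A B : Type u) [CommRing A] [CommRing B] [Algebra k A] [Algebra k B]

/-- `A' ⊗ B` is the localization of `A ⊗ B` at `M ⊗ 1`. -/
theorem exists_isLocalization_tensor_left (M : Submonoid A) (A' : Type u) [CommRing A']
    [Algebra A A'] [IsLocalization M A'] [Algebra k A'] [IsScalarTower k A A'] :
    ∃ (_ : Algebra (A ⊗[k] B) (A' ⊗[k] B)),
      IsLocalization (Algebra.algebraMapSubmonoid (A ⊗[k] B) M) (A' ⊗[k] B) ∧
      ∀ b : B, algebraMap (A ⊗[k] B) (A' ⊗[k] B) (1 ⊗ₜ b) = 1 ⊗ₜ b := by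
  let φ : A ⊗[k] B →ₐ[k] A' ⊗[k] B :=
    Algebra.TensorProduct.map (IsScalarTower.toAlgHom k A A') (AlgHom.id k B)
  letI : Algebra (A ⊗[k] B) (A' ⊗[k] B) := φ.toRingHom.toAlgebra
  have hmap : ∀ x, algebraMap (A ⊗[k] B) (A' ⊗[k] B) x = φ x := fun _ => rfl
  haveI : IsScalarTower A (A ⊗[k] B) (A' ⊗[k] B) :=
    IsScalarTower.of_algebraMap_eq fun a => by
      rw [hmap, Algebra.TensorProduct.algebraMap_apply, Algebra.TensorProduct.algebraMap_apply]
      simp [φ]
  have H : (algebraMap (A ⊗[k] B) (A' ⊗[k] B)).comp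
      (Algebra.TensorProduct.includeRight : B →ₐ[k] A ⊗[k] B).toRingHom =
      (Algebra.TensorProduct.includeRight : B →ₐ[k] A' ⊗[k] B).toRingHom := by
    ext x
    simp [hmap, φ]
  refine ⟨inferInstance, IsLocalization.tensorProduct_tensorProduct k B M A' H, fun b => ?_⟩
  rw [hmap]; simp [φ]

/-- S9413 (Stacks 06DF). -/
theorem isNormalRing_tensor_of_isGeomNormal (hA : EGA4.IsGeomNormal k A)
    (hB : EGA4.IsNormalRing B) : EGA4.IsNormalRing (A ⊗[k] B) := by
  -- `A` is normal
  have hAn : EGA4.IsNormalRing A :=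
    Groth.Agent.H8.GNorm.NormalLoc.of_ringEquiv (Algebra.TensorProduct.lid k A).toRingEquiv
      (hA k inferInstance)
  intro r _
  -- the primes `p`, `q`
  let p : Ideal A := r.comap (algebraMap A (A ⊗[k] B))
  let q : Ideal B := r.comap (Algebra.TensorProduct.includeRight : B →ₐ[k] A ⊗[k] B).toRingHom
  haveI : p.IsPrime := Ideal.comap_isPrime _ _
  haveI : q.IsPrime := Ideal.comap_isPrime _ _
  obtain ⟨hAd, hAic⟩ := hAn p
  obtain ⟨hBd, hBic⟩ := hB q
  -- geometric normality of `A_p` and of its fraction field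
  have hA' : EGA4.IsGeomNormal k (Localization.AtPrime p) :=
    NorLoc.isGeomNormal_of_isLocalization k A p.primeCompl _ hA
  have hK : EGA4.IsGeomNormal k (FractionRing (Localization.AtPrime p)) :=
    NorLoc.isGeomNormal_of_isLocalization k (Localization.AtPrime p)
      (nonZeroDivisors (Localization.AtPrime p)) _ hA'
  haveI : Algebra.IsGeometricallyReduced k (FractionRing (Localization.AtPrime p)) :=
    isGeometricallyReduced_of_isGeomNormal k _ hK
  -- `A_p ⊗ B_q` is normal
  have hn : EGA4.IsNormalRing (Localization.AtPrime p ⊗[k] Localization.AtPrime q) := by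
    refine isNormalRing_tensor_of_domains k (Localization.AtPrime p) (Localization.AtPrime q)
      fun F _ _ _ => ?_
    have h1 := Groth.Agent.H8.GNorm.normalLoc_tensor_of_forall_finite_purelyInseparable k
      (Localization.AtPrime p) (fun k' _ _ hfin _ => hA' k' hfin) F
    exact Groth.Agent.H8.GNorm.NormalLoc.of_ringEquiv
      (Algebra.TensorProduct.comm k F (Localization.AtPrime p)).toRingEquiv h1
  -- first localization step
  obtain ⟨_, hl₁, hf₁⟩ := exists_isLocalization_tensor_left k A B p.primeCompl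
    (Localization.AtPrime p)
  refine normal_atPrime_of_isLocalization (T' := Localization.AtPrime p ⊗[k] B)
    (Algebra.algebraMapSubmonoid (A ⊗[k] B) p.primeCompl) r ?_ fun Q₁ _ hQ₁ => ?_
  · rw [Set.disjoint_left]
    rintro _ ⟨a, ha, rfl⟩ har
    exact ha har
  -- second localization step
  obtain ⟨_, _, hl₂⟩ := PHom.exists_isLocalization_tensor k (Localization.AtPrime p) B
    (Localization.AtPrime q) q.primeCompl
  refine normal_atPrime_of_isLocalization
    (T' := Localization.AtPrime p ⊗[k] Localization.AtPrime q)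
    (q.primeCompl.map (Algebra.TensorProduct.includeRight (R := k)
      (A := Localization.AtPrime p))) Q₁ ?_ fun Q₂ _ _ => hn Q₂
  rw [Set.disjoint_left]
  rintro _ ⟨b, hb, rfl⟩ hbQ
  apply hb
  show (Algebra.TensorProduct.includeRight : B →ₐ[k] A ⊗[k] B) b ∈ r
  rw [← hQ₁, Ideal.mem_comap]
  have : algebraMap (A ⊗[k] B) (Localization.AtPrime p ⊗[k] B)
      ((Algebra.TensorProduct.includeRight : B →ₐ[k] A ⊗[k] B) b) = 1 ⊗ₜ b := hf₁ b
  rw [this]
  exact hbQ

end Groth.Agent.H3.NormTens
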