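import Mathlib
import Groth.Prelude.Def_EGA4b
import Groth.Agent.Lib.Helper3.CA.NorLocus
import Groth.Agent.Lib.Helper3.CA.OnePlusDomain
import Groth.Agent.Lib.Helper3.CA.NormTens5

/-!
# The polynomial ring over a normal ring is normal (helper3)
-/

set_option autoImplicit false
universe u
open Polynomial

namespace Groth.Agent.H3.NorPoly

attribute [local instance] Polynomial.algebra

theorem main (R : Type u) [CommRing R] (hR : EGA4.IsNormalRing R) :
    EGA4.IsNormalRing (Polynomial R) := by
  classical
  intro Q _
  set p : Ideal R := Q.comap (C : R →+* R[X]) with hp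
  haveI : p.IsPrime := Ideal.comap_isPrime _ _
  haveI : IsDomain (Localization.AtPrime p) := (hR p).1
  haveI : IsIntegrallyClosed (Localization.AtPrime p) := (hR p).2
  haveI hloc : IsLocalization (p.primeCompl.map (C : R →+* R[X])) (Localization.AtPrime p)[X] :=
    Polynomial.isLocalization p.primeCompl (Localization.AtPrime p)
  have hdisj : Disjoint ((p.primeCompl.map (C : R →+* R[X]) : Submonoid R[X]) : Set R[X]) (Q : Set R[X]) := by
    rw [Set.disjoint_left]
    rintro _ ⟨r, hr, rfl⟩ hQ
    exact hr hQ
  haveI hQ'p : (Q.map (algebraMap R[X] (Localization.AtPrime p)[X])).IsPrime :=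
    IsLocalization.isPrime_of_isPrime_disjoint (p.primeCompl.map (C : R →+* R[X])) _ Q
      inferInstance hdisj
  have hQ' : (Q.map (algebraMap R[X] (Localization.AtPrime p)[X])).comap
      (algebraMap R[X] (Localization.AtPrime p)[X]) = Q :=
    IsLocalization.under_map_of_isPrime_disjoint (p.primeCompl.map (C : R →+* R[X])) _
      inferInstance hdisj
  have hn : EGA4.IsNormalRing (Localization.AtPrime p)[X] :=
    OnePlus.isNormalRing_of_isIntegrallyClosed _
  have := (NorLoc.nor_iff_comap (p.primeCompl.map (C : R →+* R[X]))
    (Q.map (algebraMap R[X] (Localization.AtPrime p)[X]))).mpr (hn _)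
  exact NormTens.normal_congr hQ' this

end Groth.Agent.H3.NorPoly
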