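import Mathlib
import Groth.Prelude.Def_EGA4b
import Groth.Agent.Lib.Helper8.GeomNormal

set_option autoImplicit false
universe u
open EGA4
open scoped TensorProduct

namespace Groth.Agent.H3.NormHomDim1

/-- a local normal ring is a domain -/
theorem isDomain_of_local_normal (Q : Type u) [CommRing Q] [IsLocalRing Q]
    (h : EGA4.IsNormalRing Q) : IsDomain Q := by
  have h1 := (h (IsLocalRing.maximalIdeal Q)).1
  have hinj : Function.Injective
      (algebraMap Q (Localization.AtPrime (IsLocalRing.maximalIdeal Q))) := by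
    apply IsLocalization.injective (M := (IsLocalRing.maximalIdeal Q).primeCompl)
    intro x hx
    have : IsUnit x := by
      by_contra hu
      exact hx ((IsLocalRing.mem_maximalIdeal x).mpr hu)
    exact this.mem_nonZeroDivisors
  exact hinj.isDomain (algebraMap Q (Localization.AtPrime (IsLocalRing.maximalIdeal Q)))

/-- the closed fibre is the quotient by `𝔪 A'` -/
noncomputable def fibEquiv (A A' : Type u) [CommRing A] [CommRing A'] [IsLocalRing A]
    [Algebra A A'] :
    (A' ⧸ (IsLocalRing.maximalIdeal A).map (algebraMap A A')) ≃+*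
      (IsLocalRing.maximalIdeal A).Fiber A' :=
  ((Algebra.TensorProduct.quotIdealMapEquivTensorQuot A' (IsLocalRing.maximalIdeal A)).toRingEquiv.trans
    (Algebra.TensorProduct.comm A A' (A ⧸ IsLocalRing.maximalIdeal A)).toRingEquiv).trans
    (Algebra.TensorProduct.congr
      (AlgEquiv.ofBijective (IsScalarTower.toAlgHom A (A ⧸ IsLocalRing.maximalIdeal A)
        (IsLocalRing.maximalIdeal A).ResidueField)
        (IsLocalRing.maximalIdeal A).bijective_algebraMap_quotient_residueField)
      (AlgEquiv.refl (R := A) (A₁ := A'))).toRingEquiv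

theorem main (A A' : Type u) [CommRing A] [CommRing A']
    [IsNoetherianRing A] [IsNoetherianRing A'] [IsLocalRing A] [IsLocalRing A'] [IsDomain A]
    (hA : ringKrullDim A = 1) [Algebra A A'] [IsLocalHom (algebraMap A A')] (h : EGA4.IsNormalHom A A') :
    ((IsLocalRing.maximalIdeal A).map (algebraMap A A')).IsPrime ∧
      ((IsLocalRing.maximalIdeal A).map (algebraMap A A')).height = 1 := by
  classical
  set 𝔪 := IsLocalRing.maximalIdeal A with h𝔪
  set P := 𝔪.map (algebraMap A A') with hP
  haveI := h.1
  -- fibre normal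
  have hF : EGA4.IsNormalRing (𝔪.Fiber A') := by
    have h0 := h.2 𝔪 𝔪.ResidueField inferInstance
    exact H8.GNorm.NormalLoc.of_ringEquiv
      (Algebra.TensorProduct.lid 𝔪.ResidueField (𝔪.Fiber A')).toRingEquiv h0
  have hQ : EGA4.IsNormalRing (A' ⧸ P) :=
    H8.GNorm.NormalLoc.of_ringEquiv (fibEquiv A A').symm hF
  have hPle : P ≤ IsLocalRing.maximalIdeal A' := by
    rw [hP, Ideal.map_le_iff_le_comap]
    intro x hx
    exact (IsLocalRing.mem_maximalIdeal _).mpr (fun hu => hx (isUnit_of_map_unit (algebraMap A A') x hu))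
  have hPne : P ≠ ⊤ := fun h => (IsLocalRing.maximalIdeal.isMaximal A').ne_top (top_le_iff.mp (h ▸ hPle))
  haveI : Nontrivial (A' ⧸ P) := Ideal.Quotient.nontrivial_iff.mpr hPne
  haveI : IsLocalRing (A' ⧸ P) := IsLocalRing.of_surjective' (Ideal.Quotient.mk P) Ideal.Quotient.mk_surjective
  haveI hdom : IsDomain (A' ⧸ P) := isDomain_of_local_normal _ hQ
  have hprime : P.IsPrime := (Ideal.Quotient.isDomain_iff_prime P).mp hdom
  refine ⟨hprime, ?_⟩
  -- a nonzero element of 𝔪
  have hne : 𝔪 ≠ ⊥ := by
    intro hbot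
    have : IsField A := IsLocalRing.isField_iff_maximalIdeal_eq.mpr hbot
    have := ringKrullDim_eq_zero_of_isField this
    rw [hA] at this
    exact one_ne_zero this
  obtain ⟨a, ha, ha0⟩ := Submodule.exists_mem_ne_zero_of_ne_bot hne
  -- 𝔪 = radical (a)
  have hrad : (Ideal.span {a}).radical = 𝔪 := by
    apply le_antisymm
    · exact (IsLocalRing.maximalIdeal.isMaximal A).isPrime.radical_le_iff.mpr
        ((Ideal.span_singleton_le_iff_mem _).mpr ha)
    · rw [Ideal.radical_eq_sInf]
      refine le_sInf ?_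
      rintro q ⟨hq1, hq2⟩
      have hqne : q ≠ ⊥ := by
        intro hq
        rw [hq] at hq1
        exact ha0 (by simpa using hq1)
      -- q is maximal since dim 1
      haveI := hq2
      have : q.IsMaximal := by
        have : Ring.KrullDimLE 1 A := by
          rw [Ring.krullDimLE_iff, hA]; rfl
        exact hq2.isMaximal_of_ne_bot hqne
      rw [IsLocalRing.eq_maximalIdeal this]
  obtain ⟨n, hn⟩ : ∃ n, 𝔪 ^ n ≤ Ideal.span {a} := by
    have := Ideal.exists_radical_pow_le_of_fg (Ideal.span {a}) (IsNoetherian.noetherian _)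
    rwa [hrad] at this
  have hPn : P ^ n ≤ Ideal.span {algebraMap A A' a} := by
    rw [hP, ← Ideal.map_pow]
    refine (Ideal.map_mono hn).trans ?_
    rw [Ideal.map_span, Set.image_singleton]
  have hmin : P ∈ (Ideal.span {algebraMap A A' a}).minimalPrimes := by
    refine ⟨⟨hprime, ?_⟩, ?_⟩
    · rw [Ideal.span_singleton_le_iff_mem]
      exact Ideal.mem_map_of_mem _ ha
    · rintro q ⟨hq1, hq2⟩ _
      exact hq1.le_of_pow_le (hPn.trans hq2)
  have hle : P.height ≤ 1 := Ideal.height_le_one_of_isPrincipal_of_mem_minimalPrimes _ _ hmin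
  refine le_antisymm hle ?_
  -- height ≥ 1
  by_contra hlt
  have h0 : P.height = 0 := by
    have : P.height < 1 := not_le.mp hlt
    exact Order.lt_one_iff.mp this
  have hminP : P ∈ minimalPrimes A' := by
    rw [Ideal.height_eq_zero_iff] at h0  -- may need adaptation
    exact h0
  have hnzd : algebraMap A A' a ∈ nonZeroDivisors A' := by
    have hreg : IsSMulRegular A' a :=
      Module.Flat.isSMulRegular_of_nonZeroDivisors (mem_nonZeroDivisors_of_ne_zero ha0)
    rw [mem_nonZeroDivisors_iff_right]
    intro x hx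
    apply hreg
    show a • x = a • 0
    rw [smul_zero, Algebra.smul_def, mul_comm]
    exact hx
  exact (Ideal.disjoint_nonZeroDivisors_of_mem_minimalPrimes hminP).le_bot
    ⟨Ideal.mem_map_of_mem _ ha, hnzd⟩

end Groth.Agent.H3.NormHomDim1
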