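import Mathlib
import Groth.Agent.H4.PCDesc1
import Groth.Agent.H4.BC1

set_option autoImplicit false
universe u
open CategoryTheory CategoryTheory.Limits CategoryTheory.Pretriangulated MonoidalCategory

namespace Groth.Agent.H3.PCLoc

attribute [local instance] HasDerivedCategory.standard

open DerivedCategory DRing Groth.Agent.H4.LDer Groth.Agent.H4.PC Groth.Agent.H4.ResP
  Groth.Agent.H4.DRing1 Groth.Agent.H4.PCDesc

variable {A : Type u} [CommRing A] {ι : Type} (B : ι → Type u) [∀ i, CommRing (B i)]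
  (φ : ∀ i, A →+* B i) [∀ i, DRing.HasLBaseChange (φ i)]

theorem isPC_of_family_aux
    (D2 : ∀ M : ModuleCat.{u} A,
      (∀ i, Module.Finite (B i) ((ModuleCat.extendScalars.{u, u, u} (φ i)).obj M)) →
      Module.Finite A M) (m : ℤ) (d : ℕ) : ∀ (b : ℤ) (K : Dual.D A), b < m + d → K.IsLE b →
      (∀ i, IsPseudoCoherent (B i) m ((DRing.LBaseChange (φ i)).obj K)) →
      IsPseudoCoherent A m K := by
  induction d with
  | zero =>
    intro b K hb hK _
    haveI : K.IsLE (m - 1) := TStructure.t.isLE_of_le K b (m - 1) (by push_cast at hb; omega)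
    exact isPC_of_isLE m K
  | succ d ih =>
    intro b K hb hK h
    by_cases hbm : b < m
    · haveI : K.IsLE (m - 1) := TStructure.t.isLE_of_le K b (m - 1) (by omega)
      exact isPC_of_isLE m K
    have hmb : m ≤ b := by omega
    -- `H^b(K)` is finite
    have hfin : Module.Finite A ((homologyFunctor (ModuleCat.{u} A) b).obj K) := by
      obtain ⟨P, hP, ⟨e⟩⟩ := exists_iso_of_isLE K b
      haveI := hP.isKProjective
      have e2 : P.homology b ≅ (homologyFunctor (ModuleCat.{u} A) b).obj K :=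
        (homologyToDIso P b).symm ≪≫ (homologyFunctor (ModuleCat.{u} A) b).mapIso e
      refine D2 _ (fun i => ?_)
      set G := ModuleCat.extendScalars.{u, u, u} (φ i) with hG
      haveI : ((DRing.LBaseChange (φ i)).obj K).IsLE b := isLE_LG G K b
      have h1 : Module.Finite (B i) ((homologyFunctor (ModuleCat.{u} (B i)) b).obj
          ((DRing.LBaseChange (φ i)).obj K)) :=
        finite_homology _ b (isPC_mono hmb (h i)) (fun j hj => isZero_of_isLE _ b j hj)
      have e1 := isoOfIso G P e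
      have h2 : Module.Finite (B i) (((GC G).obj P).homology b) :=
        finite_of_epi ((homologyFunctor (ModuleCat.{u} (B i)) b).map e1.hom ≫
          (homologyToDIso _ b).hom) h1
      have h3 := finite_ext_homology_top (φ i) P b hP.1 h2
      exact finite_of_epi (G.map e2.hom) h3
    obtain ⟨k, ψ, hψ⟩ := exists_wit_from_sgl K b hfin
    obtain ⟨C, g, hh, hT⟩ := distinguished_cocone_triangle ψ
    have hC : C.IsLE (b - 1) := (isWit_iff_isLE _ hT b).1 hψ
    have hsgl : ∀ j : ℤ, IsPseudoCoherent A j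
        (toD (Groth.Agent.H4.ProjAmp.sgl (ModuleCat.of A (Fin k → A)) b)) :=
      fun j => isPC_toD j _ (isBFF_sgl _ b)
    have hC' : IsPseudoCoherent A m C := by
      refine ih (b - 1) C (by push_cast at hb; omega) hC (fun i => ?_)
      set G := ModuleCat.extendScalars.{u, u, u} (φ i) with hG
      obtain ⟨T', hT', ⟨e₁⟩, ⟨e₂⟩, ⟨e₃⟩⟩ := exists_distTriang_LG' G _ hT
      have h₁ : IsPseudoCoherent (B i) (m + 1) T'.obj₁ :=
        isPC_of_iso e₁.symm (isPC_LBaseChange (φ i) (m + 1) _ (hsgl _))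
      have h₂ : IsPseudoCoherent (B i) m T'.obj₂ := isPC_of_iso e₂.symm (h i)
      exact isPC_of_iso e₃ (isPC_obj₃ T' hT' m h₁ h₂)
    exact isPC_obj₂ _ hT m (hsgl m) hC'

/-- **Descent of pseudo-coherence along a finite jointly-detecting family.** -/
theorem isPC_of_family [Finite ι]
    (D1 : ∀ (K : Dual.D A) (b : ℤ), (∀ i, ((DRing.LBaseChange (φ i)).obj K).IsLE b) → K.IsLE b)
    (D2 : ∀ M : ModuleCat.{u} A,
      (∀ i, Module.Finite (B i) ((ModuleCat.extendScalars.{u, u, u} (φ i)).obj M)) →
      Module.Finite A M) (m : ℤ) (K : Dual.D A)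
    (h : ∀ i, IsPseudoCoherent (B i) m ((DRing.LBaseChange (φ i)).obj K)) :
    IsPseudoCoherent A m K := by
  choose bb hbb using fun i => exists_bound_of_isPC (h i)
  obtain ⟨b, hb⟩ : ∃ b : ℤ, ∀ i, bb i ≤ b := by
    obtain ⟨b, hb⟩ := (Set.finite_range bb).bddAbove
    exact ⟨b, fun i => hb ⟨i, rfl⟩⟩
  have hK : K.IsLE b := D1 K b (fun i => isLE_of_forall_isZero _ b
    (fun j hj => hbb i j (by have := hb i; omega)))
  exact isPC_of_family_aux B φ D2 m (b + 1 - m).toNat b K (by
    have := Int.self_le_toNat (b + 1 - m); omega) hK h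

end Groth.Agent.H3.PCLoc
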