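import Mathlib
import Groth.Agent.Lib.Helper3.CA.PCLoc1

set_option autoImplicit false
universe u
open CategoryTheory CategoryTheory.Limits CategoryTheory.Pretriangulated MonoidalCategory

namespace Groth.Agent.H3.PCLoc

attribute [local instance] HasDerivedCategory.standard

open DerivedCategory DRing Groth.Agent.H4.LDer Groth.Agent.H4.PC Groth.Agent.H4.ResP
  Groth.Agent.H4.DRing1 Groth.Agent.H4.PCDesc TensorProduct

variable {R : Type u} [CommRing R] {r : ℕ} (f : Fin r → R)

/-- the localization maps -/
abbrev locMap (i : Fin r) : R →+* Localization.Away (f i) := algebraMap R (Localization.Away (f i))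

/-- extension of scalars to the localizations -/
noncomputable abbrev locG (i : Fin r) : ModuleCat.{u} R ⥤ ModuleCat.{u} (Localization.Away (f i)) :=
  ModuleCat.extendScalars.{u, u, u} (locMap f i)

lemma flat_locMap (i : Fin r) : (locMap f i).Flat :=
  (RingHom.flat_algebraMap_iff).2 inferInstance

include f in
theorem isZero_of_forall_isZero (hf : Ideal.span (Set.range f) = ⊤) (M : ModuleCat.{u} R)
    (h : ∀ i, IsZero ((locG f i).obj M)) : IsZero M := by
  rw [ModuleCat.isZero_iff_subsingleton]
  refine ⟨fun x y => ?_⟩
  suffices H : ∀ z : M, z = 0 by rw [H x, H y]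
  intro z
  have hz : z ∈ (⊥ : Submodule R M) := by
    refine Submodule.mem_of_span_eq_top_of_smul_pow_mem _ (Set.range f) hf z ?_
    rintro ⟨_, i, rfl⟩
    have hs : Subsingleton ((locG f i).obj M) := ModuleCat.isZero_iff_subsingleton.1 (h i)
    have hs' : Subsingleton (Localization.Away (f i) ⊗[R] M) :=
      (Groth.Agent.H8.ExtBridge.extEquiv (B := Localization.Away (f i)) M).symm.injective.subsingleton
    have h0 : TensorProduct.mk R (Localization.Away (f i)) M 1 z = 0 := Subsingleton.elim _ _
    obtain ⟨⟨_, n, rfl⟩, hn⟩ :=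
      (IsLocalizedModule.eq_zero_iff (Submonoid.powers (f i))
        (TensorProduct.mk R (Localization.Away (f i)) M 1)).1 h0
    exact ⟨n, (Submodule.mem_bot R).2 hn⟩
  simpa using hz

include f in
theorem finite_of_forall_finite (hf : Ideal.span (Set.range f) = ⊤) (M : ModuleCat.{u} R)
    (h : ∀ i, Module.Finite (Localization.Away (f i)) ((locG f i).obj M)) : Module.Finite R M := by
  refine Module.Finite.of_localizationSpan' (Set.range f) hf
    (Mₚ := fun g => Localization.Away g.val ⊗[R] M) (Rₚ := fun g => Localization.Away g.val)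
    (fun g => TensorProduct.mk R (Localization.Away g.val) M 1) ?_
  rintro ⟨_, i, rfl⟩
  exact Module.Finite.equiv (Groth.Agent.H8.ExtBridge.extEquiv (B := Localization.Away (f i)) M)

include f in
theorem isLE_of_forall_isLE (hf : Ideal.span (Set.range f) = ⊤)
    [∀ i, DRing.HasLBaseChange (locMap f i)] (K : Dual.D R) (b : ℤ)
    (h : ∀ i, ((DRing.LBaseChange (locMap f i)).obj K).IsLE b) : K.IsLE b := by
  let X := Q.objPreimage K
  let e : toD X ≅ K := Q.objObjPreimageIso K
  have hX : (toD X).IsLE b := by
    refine isLE_of_exactAt X b (fun j hj => ?_)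
    rw [HomologicalComplex.exactAt_iff, ShortComplex.exact_iff_isZero_homology]
    refine isZero_of_forall_isZero f hf _ (fun i => ?_)
    haveI := Groth.Agent.H4.BC.preservesFiniteLimits_extendScalars (locMap f i) (flat_locMap f i)
    have e1 := Groth.Agent.H4.BC.isoOfFlatMap (locMap f i) (flat_locMap f i) X
    haveI := h i
    haveI : (toD ((GC (locG f i)).obj X)).IsLE b :=
      TStructure.t.isLE_of_iso (((DRing.LBaseChange (locMap f i)).mapIso e.symm) ≪≫ e1) b
    have hex := exactAt_of_isLE ((GC (locG f i)).obj X) b j hj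
    have hex' : ((X.sc j).map (locG f i)).Exact := hex
    exact IsZero.of_iso ((ShortComplex.exact_iff_isZero_homology _).1 hex')
      ((X.sc j).mapHomologyIso (locG f i)).symm
  exact TStructure.t.isLE_of_iso e b

include f in
/-- `m`-pseudo-coherence is local for a finite family generating the unit ideal. -/
theorem isPC_of_localization_away (hf : Ideal.span (Set.range f) = ⊤) (K : Cx R) (m : ℤ)
    (hK : ∀ i, IsPseudoCoherent (Localization.Away (f i)) m (toD ((GC (locG f i)).obj K))) :
    IsPseudoCoherent R m (toD K) := by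
  haveI : ∀ i, DRing.HasLBaseChange (locMap f i) :=
    fun i => Groth.Agent.H4.KProj.hasLBaseChange _
  refine isPC_of_family (fun i => Localization.Away (f i)) (locMap f)
    (isLE_of_forall_isLE f hf) (finite_of_forall_finite f hf) m _ (fun i => ?_)
  exact isPC_of_iso (Groth.Agent.H4.BC.isoOfFlatMap (locMap f i) (flat_locMap f i) K).symm (hK i)

end Groth.Agent.H3.PCLoc
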