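import Mathlib
import Groth.Prelude.Def_EGA4b
import Groth.Agent.Lib.Helper8.Japanese.QE5
import Groth.Agent.Lib.Helper8.Japanese.QE1
import Groth.Agent.Lib.Helper8.Japanese.NormFin3

/-!
# Integral closure of an excellent DVR in a finite purely inseparable extension (helper3)
-/

set_option autoImplicit false
universe u

namespace Groth.Agent.H3.PIDvr

variable (R K L : Type u) [CommRing R] [IsDomain R]
    [Field K] [Algebra R K] [IsFractionRing R K] [Field L] [Algebra K L]
    [Algebra R L] [IsScalarTower R K L]

theorem finite_part [FiniteDimensional K L] (hR : EGA4.IsExcellent R) :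
    Module.Finite R ↥(integralClosure R L) := by
  obtain ⟨hN, _, hG, hJ⟩ := hR
  have hNag : CAlg.IsNagata R :=
    H8.Jap.QE.isNagata_of_geomReducedFormalFibres_of_isJ2 R
      (fun m _ => H8.Jap.QE.hasGeomReducedFormalFibres_of_isRegularHom _ (hG.2 m)) hJ
  refine H8.Jap.NormFin.finite_integralClosure_field R hNag K L (fun z => ?_)
  obtain ⟨⟨a, s⟩, hs⟩ := IsLocalization.surj (nonZeroDivisors R) z
  refine ⟨a, s, ?_, hs⟩
  exact IsFractionRing.to_map_ne_zero_of_mem_nonZeroDivisors s.2

/-- every element of the integral closure has a positive power in the image of `R` -/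
theorem exists_pow_mem_range [IsIntegrallyClosed R] [IsPurelyInseparable K L]
    (x : integralClosure R L) :
    ∃ n > 0, x ^ n ∈ (algebraMap R (integralClosure R L)).range := by
  obtain ⟨n, y, hy⟩ := IsPurelyInseparable.pow_mem K (ringExpChar K) (x : L)
  have hq : 0 < ringExpChar K ^ n := pow_pos (expChar_pos K (ringExpChar K)) n
  refine ⟨ringExpChar K ^ n, hq, ?_⟩
  -- y is integral over R
  have hyint : IsIntegral R y := by
    have h1 : IsIntegral R ((x : L) ^ ringExpChar K ^ n) := (x.2).pow _
    rw [← hy] at h1
    exact (isIntegral_algHom_iff (IsScalarTower.toAlgHom R K L)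
      (algebraMap K L).injective).mp h1
  obtain ⟨r, hr⟩ := IsIntegrallyClosed.isIntegral_iff.mp hyint
  refine ⟨r, ?_⟩
  apply Subtype.ext
  rw [SubmonoidClass.coe_pow, ← hy, ← hr]
  rw [← IsScalarTower.algebraMap_apply R K L]
  rfl

theorem comap_injective [IsIntegrallyClosed R] [IsPurelyInseparable K L] :
    Function.Injective (PrimeSpectrum.comap (algebraMap R (integralClosure R L))) := by
  refine (PrimeSpectrum.isHomeomorph_comap _ (exists_pow_mem_range R K L) ?_).injective
  have : Function.Injective (algebraMap R (integralClosure R L)) := by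
    intro a b hab
    have h1 : algebraMap R L a = algebraMap R L b := congrArg Subtype.val hab
    rw [IsScalarTower.algebraMap_apply R K L, IsScalarTower.algebraMap_apply R K L] at h1
    exact IsFractionRing.injective R K ((algebraMap K L).injective h1)
  rw [(RingHom.injective_iff_ker_eq_bot _).mp this]
  exact bot_le

include K in
theorem algebraMap_injective :
    Function.Injective (algebraMap R (integralClosure R L)) := by
  intro a b hab
  have h1 : algebraMap R L a = algebraMap R L b := congrArg Subtype.val hab
  rw [IsScalarTower.algebraMap_apply R K L, IsScalarTower.algebraMap_apply R K L] at h1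
  exact IsFractionRing.injective R K ((algebraMap K L).injective h1)

theorem main [IsDiscreteValuationRing R] (hR : EGA4.IsExcellent R) [FiniteDimensional K L]
    [IsPurelyInseparable K L] :
    IsDiscreteValuationRing ↥(integralClosure R L) ∧ Module.Finite R ↥(integralClosure R L) := by
  have hfin := finite_part R K L hR
  refine ⟨?_, hfin⟩
  haveI : IsNoetherianRing R := hR.1
  haveI : IsNoetherianRing (integralClosure R L) := IsNoetherianRing.of_finite R _
  have hinj := comap_injective R K L
  have hai := algebraMap_injective R K L
  -- local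
  haveI : IsLocalRing (integralClosure R L) := by
    apply IsLocalRing.of_unique_max_ideal
    obtain ⟨M, hM⟩ := Ideal.exists_maximal (integralClosure R L)
    refine ⟨M, hM, fun M' hM' => ?_⟩
    have h1 : (M.comap (algebraMap R (integralClosure R L))).IsMaximal :=
      Ideal.isMaximal_comap_of_isIntegral_of_isMaximal M
    have h2 : (M'.comap (algebraMap R (integralClosure R L))).IsMaximal :=
      Ideal.isMaximal_comap_of_isIntegral_of_isMaximal M'
    have := hinj (a₁ := ⟨M', hM'.isPrime⟩) (a₂ := ⟨M, hM.isPrime⟩)
      (PrimeSpectrum.ext (by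
        show M'.comap _ = M.comap _
        rw [IsLocalRing.eq_maximalIdeal h1, IsLocalRing.eq_maximalIdeal h2]))
    exact congrArg PrimeSpectrum.asIdeal this
  have hnf : ¬ IsField (integralClosure R L) := fun hf =>
    IsDiscreteValuationRing.not_isField R (isField_of_isIntegral_of_isField hai hf)
  have key : IsIntegrallyClosed (integralClosure R L) ∧
      ∃! P : Ideal (integralClosure R L), P ≠ ⊥ ∧ P.IsPrime := by
    refine ⟨?_, ?_⟩
    rotate_left
    · have hne : IsLocalRing.maximalIdeal (integralClosure R L) ≠ ⊥ :=
        IsLocalRing.isField_iff_maximalIdeal_eq.not.mp hnf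
      refine ⟨IsLocalRing.maximalIdeal (integralClosure R L), ⟨hne, inferInstance⟩, ?_⟩
      rintro P ⟨hP0, hPp⟩
      have hc0 : P.comap (algebraMap R (integralClosure R L)) ≠ ⊥ := by
        intro h0
        apply hP0
        have := hinj (a₁ := ⟨P, hPp⟩) (a₂ := ⟨⊥, Ideal.isPrime_bot⟩)
          (PrimeSpectrum.ext (by
            show P.comap _ = (⊥ : Ideal _).comap _
            rw [h0, Ideal.comap_bot_of_injective _ hai]))
        exact congrArg PrimeSpectrum.asIdeal this
      haveI : (P.comap (algebraMap R (integralClosure R L))).IsPrime := Ideal.comap_isPrime _ _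
      have hcm : (P.comap (algebraMap R (integralClosure R L))).IsMaximal :=
        Ideal.IsPrime.isMaximal_of_ne_bot inferInstance hc0
      have hcm' : ((IsLocalRing.maximalIdeal (integralClosure R L)).comap
          (algebraMap R (integralClosure R L))).IsMaximal :=
        Ideal.isMaximal_comap_of_isIntegral_of_isMaximal _
      have := hinj (a₁ := ⟨P, hPp⟩) (a₂ := ⟨IsLocalRing.maximalIdeal _, inferInstance⟩)
        (PrimeSpectrum.ext (by
          show P.comap _ = (IsLocalRing.maximalIdeal _).comap _
          rw [IsLocalRing.eq_maximalIdeal hcm, IsLocalRing.eq_maximalIdeal hcm']))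
      exact congrArg PrimeSpectrum.asIdeal this
    · exact integralClosure.isIntegrallyClosedOfFiniteExtension K
  exact ((IsDiscreteValuationRing.TFAE (integralClosure R L) hnf).out 0 3).mpr key

end Groth.Agent.H3.PIDvr
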