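import Mathlib
import Groth.Agent.Lib.Helper3.CA.KrullAkizuki2

set_option autoImplicit false
universe u

namespace Groth.Agent.H3.PrimesOverH1

open IsLocalRing

variable (A B : Type u) [CommRing A] [IsDomain A] [IsNoetherianRing A] [CommRing B] [IsDomain B]
  [Algebra A B] [FaithfulSMul A B] [Algebra.FiniteType A B] [Algebra.IsAlgebraic A B]
  (p : Ideal A) [p.IsPrime]

/-- the multiplicative set -/
abbrev MM : Submonoid B := Algebra.algebraMapSubmonoid B p.primeCompl

omit [IsNoetherianRing A] [Algebra.FiniteType A B] [Algebra.IsAlgebraic A B] in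
lemma MM_le : MM A B p ≤ nonZeroDivisors B := by
  rintro _ ⟨a, ha, rfl⟩
  rw [mem_nonZeroDivisors_iff_ne_zero]
  intro h
  have : a = 0 := (FaithfulSMul.algebraMap_injective A B) (by simpa using h)
  exact ha (this ▸ p.zero_mem)

section abstract

variable (R S : Type u) [CommRing R] [IsDomain R] [Algebra A R] [IsLocalization.AtPrime R p]
  [CommRing S] [IsDomain S] [Algebra B S] [IsLocalization (MM A B p) S] [Algebra R S] [Algebra A S]
  [IsScalarTower A R S] [IsScalarTower A B S]

omit [IsNoetherianRing A] [Algebra.FiniteType A B] [Algebra.IsAlgebraic A B] [IsDomain R]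
  [IsDomain S] in
include A B p in
lemma algebraMap_RS_injective : Function.Injective (algebraMap R S) := by
  rw [injective_iff_map_eq_zero]
  intro r hr
  obtain ⟨a, s, rfl⟩ := IsLocalization.exists_mk'_eq p.primeCompl r
  have h1 : algebraMap R S (algebraMap A R a) = 0 := by
    have := IsLocalization.mk'_spec R a s
    rw [← this, map_mul, hr, zero_mul]
  rw [← IsScalarTower.algebraMap_apply, IsScalarTower.algebraMap_apply A B S] at h1
  have h2 : algebraMap A B a = 0 :=
    (IsLocalization.injective S (MM_le A B p)) (by rw [h1, map_zero])
  have h3 : a = 0 := (FaithfulSMul.algebraMap_injective A B) (by rw [h2, map_zero])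
  rw [h3, IsLocalization.mk'_zero]

omit [IsNoetherianRing A] in
include A B p in
lemma finiteDimensional :
    letI : FaithfulSMul R (FractionRing S) :=
      (faithfulSMul_iff_algebraMap_injective _ _).mpr (by
        rw [IsScalarTower.algebraMap_eq R S (FractionRing S)]
        exact (IsFractionRing.injective S (FractionRing S)).comp
          (algebraMap_RS_injective A B p R S))
    letI : Algebra (FractionRing R) (FractionRing S) := FractionRing.liftAlgebra _ _
    FiniteDimensional (FractionRing R) (FractionRing S) := by
  letI : FaithfulSMul R (FractionRing S) :=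
      (faithfulSMul_iff_algebraMap_injective _ _).mpr (by
        rw [IsScalarTower.algebraMap_eq R S (FractionRing S)]
        exact (IsFractionRing.injective S (FractionRing S)).comp
          (algebraMap_RS_injective A B p R S))
  letI : Algebra (FractionRing R) (FractionRing S) := FractionRing.liftAlgebra _ _
  haveI : IsScalarTower R (FractionRing R) (FractionRing S) :=
    FractionRing.isScalarTower_liftAlgebra _ _
  haveI : FaithfulSMul R S :=
    (faithfulSMul_iff_algebraMap_injective _ _).mpr (algebraMap_RS_injective A B p R S)
  haveI : Algebra.IsAlgebraic R S := by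
    haveI : Algebra.IsAlgebraic B S := IsLocalization.isAlgebraic _ (MM A B p)
    haveI : Algebra.IsAlgebraic A S := Algebra.IsAlgebraic.trans A B _
    exact Algebra.IsAlgebraic.extendScalars (R := A)
      (IsLocalization.injective R p.primeCompl_le_nonZeroDivisors)
  haveI : Algebra.IsAlgebraic R (FractionRing S) :=
    (IsFractionRing.isAlgebraic_iff' R S (FractionRing S)).mp inferInstance
  haveI : Algebra.IsAlgebraic (FractionRing R) (FractionRing S) :=
    IsFractionRing.comap_isAlgebraic_iff.mp ‹Algebra.IsAlgebraic R (FractionRing S)›
  haveI : Algebra.EssFiniteType B S := Algebra.EssFiniteType.of_isLocalization _ (MM A B p)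
  haveI : Algebra.EssFiniteType A S := Algebra.EssFiniteType.comp A B S
  haveI : Algebra.EssFiniteType R S := Algebra.EssFiniteType.of_comp A _ _
  haveI : Algebra.EssFiniteType R (FractionRing S) :=
    Algebra.EssFiniteType.comp _ S _
  haveI : Algebra.EssFiniteType (FractionRing R) (FractionRing S) :=
    Algebra.EssFiniteType.of_comp R _ _
  exact Algebra.finite_of_essFiniteType_of_isAlgebraic

include A B p in
/-- Krull–Akizuki consequence on the localizations. -/
lemma main_loc [IsLocalRing R] (hp : p.height = 1) :
    (∀ n ∈ (maximalIdeal R).primesOver S, n.IsMaximal) ∧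
      ((maximalIdeal R).primesOver S).Finite := by
  letI : FaithfulSMul R (FractionRing S) :=
      (faithfulSMul_iff_algebraMap_injective _ _).mpr (by
        rw [IsScalarTower.algebraMap_eq R S (FractionRing S)]
        exact (IsFractionRing.injective S (FractionRing S)).comp
          (algebraMap_RS_injective A B p R S))
  letI : Algebra (FractionRing R) (FractionRing S) := FractionRing.liftAlgebra _ _
  haveI : IsScalarTower R (FractionRing R) (FractionRing S) :=
    FractionRing.isScalarTower_liftAlgebra _ _
  haveI := finiteDimensional A B p R S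
  haveI : IsNoetherianRing R := IsLocalization.isNoetherianRing p.primeCompl R inferInstance
  have hdim : ringKrullDim R = 1 := by
    rw [IsLocalization.AtPrime.ringKrullDim_eq_height p R, hp]; rfl
  haveI : Ring.KrullDimLE 1 R := (Order.krullDimLE_iff _ _).mpr hdim.le
  have hne : maximalIdeal R ≠ ⊥ := by
    intro h
    have hf : IsField R := IsLocalRing.isField_iff_maximalIdeal_eq.mpr h
    have h0 := ringKrullDim_eq_zero_of_isField hf
    rw [hdim] at h0
    exact one_ne_zero h0
  obtain ⟨x, hxm, hx0⟩ := Submodule.exists_mem_ne_zero_of_ne_bot hne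
  have := Groth.Agent.H3.KA.main (K := FractionRing R) (L := FractionRing S)
    (IsFractionRing.injective S (FractionRing S)) hx0 (maximalIdeal R) hxm
  exact ⟨this.1, this.2.1⟩

omit [IsNoetherianRing A] [Algebra.FiniteType A B] [Algebra.IsAlgebraic A B] [IsDomain R]
  [IsDomain S] [IsDomain A] [IsDomain B] [FaithfulSMul A B] in
/-- For `q` over `p`: `q.map` is a prime of `S` over the maximal ideal of `R` with comap `q`. -/
lemma toS [IsLocalRing R] (q : Ideal B) (hq : q ∈ p.primesOver B) :
    q.map (algebraMap B S) ∈ (maximalIdeal R).primesOver S ∧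
      (q.map (algebraMap B S)).comap (algebraMap B S) = q := by
  obtain ⟨hqp, hqo⟩ := hq
  have hdisj : Disjoint (MM A B p : Set B) (q : Set B) := by
    rw [Set.disjoint_left]
    rintro _ ⟨a, ha, rfl⟩ haq
    apply ha
    have : p = q.under A := hqo.over
    rw [this]
    exact haq
  have hprime : (q.map (algebraMap B S)).IsPrime :=
    IsLocalization.isPrime_of_isPrime_disjoint (MM A B p) S q hqp hdisj
  have hcomap : (q.map (algebraMap B S)).comap (algebraMap B S) = q :=
    IsLocalization.under_map_of_isPrime_disjoint (MM A B p) S hqp hdisj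
  refine ⟨⟨hprime, ⟨?_⟩⟩, hcomap⟩
  have h1 : ((q.map (algebraMap B S)).under R).comap (algebraMap A R) = p := by
    rw [Ideal.under_def, Ideal.comap_comap, ← IsScalarTower.algebraMap_eq,
      IsScalarTower.algebraMap_eq A B S, ← Ideal.comap_comap, hcomap]
    exact hqo.over.symm
  have h2 : (maximalIdeal R).comap (algebraMap A R) = p :=
    IsLocalization.AtPrime.under_maximalIdeal R p
  rw [← IsLocalization.map_under p.primeCompl R (maximalIdeal R), Ideal.under_def, h2, ← h1]
  exact IsLocalization.map_under p.primeCompl R _

end abstract

theorem main (hp : p.height = 1) :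
    (p.primesOver B).Finite ∧ ∀ q ∈ p.primesOver B, q.height = 1 := by
  haveI : IsDomain (Localization (MM A B p)) :=
    IsLocalization.isDomain_localization (MM_le A B p)
  obtain ⟨hmax, hfin⟩ :=
    main_loc A B p (Localization.AtPrime p) (Localization (MM A B p)) hp
  have hpbot : p ≠ ⊥ := Ideal.ne_bot_of_height_eq_one hp
  constructor
  · refine (hfin.image (Ideal.comap (algebraMap B (Localization (MM A B p))))).subset ?_
    intro q hq
    obtain ⟨h1, h2⟩ := toS A B p (Localization.AtPrime p) (Localization (MM A B p)) q hq
    exact ⟨_, h1, h2⟩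
  · intro q hq
    haveI := hq.1
    have hqo : p = q.under A := hq.2.over
    apply le_antisymm
    · rw [show (1 : ℕ∞) = ((1 : ℕ) : ℕ∞) from rfl, Ideal.height_le_iff]
      intro q' hq'p hlt
      have : q' = ⊥ := by
        by_contra hne
        obtain ⟨x, hxm, hx0⟩ := Submodule.exists_mem_ne_zero_of_ne_bot hne
        have hne' : q'.under A ≠ ⊥ :=
          Ideal.comap_ne_bot_of_algebraic_mem hx0 hxm (Algebra.IsAlgebraic.isAlgebraic x)
        have hle : q'.under A ≤ p := by
          rw [hqo]; exact Ideal.comap_mono hlt.le
        have heq : q'.under A = p := by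
          by_contra hneq
          have hlt' : q'.under A < p := lt_of_le_of_ne hle hneq
          have := Ideal.height_add_one_le_of_lt_of_isPrime hlt'
          rw [hp] at this
          have h0 : (q'.under A).height = 0 := by
            have h1 : (q'.under A).height + 1 ≤ 0 + 1 := by simpa using this
            exact le_antisymm ((ENat.add_le_add_iff_right ENat.one_ne_top).mp h1) bot_le
          exact hne' (Ideal.height_eq_zero_iff_eq_bot.mp h0)
        have hq' : q' ∈ p.primesOver B := ⟨hq'p, ⟨heq.symm⟩⟩
        obtain ⟨h1, h2⟩ := toS A B p (Localization.AtPrime p) (Localization (MM A B p)) q hq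
        obtain ⟨h1', h2'⟩ := toS A B p (Localization.AtPrime p) (Localization (MM A B p)) q' hq'
        have hmx := hmax _ h1'
        have hle' : q'.map (algebraMap B (Localization (MM A B p))) ≤
            q.map (algebraMap B (Localization (MM A B p))) := Ideal.map_mono hlt.le
        have heq' := hmx.eq_of_le h1.1.ne_top hle'
        apply hlt.ne
        rw [← h2, ← h2', heq']
      rw [this, Ideal.height_bot]; exact zero_lt_one
    · rw [Order.one_le_iff_ne_zero, Ne, Ideal.height_eq_zero_iff_eq_bot]
      intro h
      apply hpbot
      rw [hqo, h]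
      ext a
      simp [Ideal.under_def]

end Groth.Agent.H3.PrimesOverH1
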