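import Mathlib

set_option autoImplicit false

universe u

open scoped TensorProduct

namespace Groth.Agent.H3.RedProj

variable {R : Type u} [CommRing R] {M : Type u} [AddCommGroup M] [Module R M]

/-- `κ ⊗ M` is spanned by the `1 ⊗ m`. -/
theorem span_one_tmul (κ : Type u) [Field κ] [Algebra R κ] :
    Submodule.span κ (Set.range fun m : M => (1 : κ) ⊗ₜ[R] m) = ⊤ := by
  rw [eq_top_iff]
  rintro t -
  induction t using TensorProduct.induction_on with
  | zero => exact zero_mem _
  | add a b ha hb => exact add_mem ha hb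
  | tmul a m =>
    have : a ⊗ₜ[R] m = a • ((1 : κ) ⊗ₜ[R] m) := by
      rw [TensorProduct.smul_tmul', smul_eq_mul, mul_one]
    rw [this]
    exact Submodule.smul_mem _ _ (Submodule.subset_span ⟨m, rfl⟩)

/-- Lemma A. -/
theorem span_one_tmul_eq_top {n : ℕ} (x : Fin n → M) (f : R)
    (hx : ∀ m : M, f • m ∈ Submodule.span R (Set.range x)) (q : Ideal R) [q.IsPrime]
    (hf : f ∉ q) :
    Submodule.span q.ResidueField (Set.range fun i => (1 : q.ResidueField) ⊗ₜ[R] x i) = ⊤ := by
  rw [eq_top_iff, ← span_one_tmul (R := R) (M := M) q.ResidueField, Submodule.span_le]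
  rintro _ ⟨m, rfl⟩
  have hfne : algebraMap R q.ResidueField f ≠ 0 := by
    rwa [Ne, Ideal.algebraMap_residueField_eq_zero]
  let ψ : M →ₗ[R] q.ResidueField ⊗[R] M := TensorProduct.mk R q.ResidueField M 1
  have h1 : (1 : q.ResidueField) ⊗ₜ[R] m =
      (algebraMap R q.ResidueField f)⁻¹ • ψ (f • m) := by
    rw [map_smul, ← algebraMap_smul q.ResidueField f (ψ m), smul_smul, inv_mul_cancel₀ hfne,
      one_smul]
    rfl
  show (1 : q.ResidueField) ⊗ₜ[R] m ∈ _
  rw [h1]
  apply Submodule.smul_mem
  have h2 : ψ (f • m) ∈ (Submodule.span R (Set.range x)).map ψ :=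
    Submodule.mem_map_of_mem (hx m)
  rw [Submodule.map_span, ← Set.range_comp] at h2
  exact Submodule.span_le_restrictScalars R q.ResidueField _ h2

/-- Lemma B. -/
theorem mem_of_sum_smul_eq_zero {n : ℕ} (x : Fin n → M) (q : Ideal R) [q.IsPrime]
    (hspan : Submodule.span q.ResidueField
      (Set.range fun i => (1 : q.ResidueField) ⊗ₜ[R] x i) = ⊤)
    (hrank : Module.finrank q.ResidueField (q.ResidueField ⊗[R] M) = n)
    (v : Fin n → R) (hv : ∑ i, v i • x i = 0) (i : Fin n) : v i ∈ q := by
  have hli : LinearIndependent q.ResidueField (fun i => (1 : q.ResidueField) ⊗ₜ[R] x i) :=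
    linearIndependent_of_top_le_span_of_card_eq_finrank hspan.ge (by simp [hrank])
  have h1 : ∑ i, (algebraMap R q.ResidueField (v i)) • ((1 : q.ResidueField) ⊗ₜ[R] x i) = 0 := by
    have : ∀ i, (algebraMap R q.ResidueField (v i)) • ((1 : q.ResidueField) ⊗ₜ[R] x i) =
        (1 : q.ResidueField) ⊗ₜ[R] (v i • x i) := by
      intro i
      rw [algebraMap_smul, TensorProduct.tmul_smul]
    simp_rw [this]
    rw [← TensorProduct.tmul_sum, hv, TensorProduct.tmul_zero]
  have h2 := Fintype.linearIndependent_iff.mp hli _ h1 i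
  rwa [Ideal.algebraMap_residueField_eq_zero] at h2

/-- Lemma C. -/
theorem exists_gens [Module.Finite R M] (p : Ideal R) [p.IsPrime] :
    ∃ (n : ℕ) (x : Fin n → M) (f : R),
      n = Module.finrank p.ResidueField (p.ResidueField ⊗[R] M) ∧ f ∉ p ∧
        ∀ m : M, f • m ∈ Submodule.span R (Set.range x) := by
  set κ := p.ResidueField with hκ
  set s : Set (κ ⊗[R] M) := Set.range fun m : M => (1 : κ) ⊗ₜ[R] m with hs
  have hs_top : Submodule.span κ s = ⊤ := span_one_tmul κ
  haveI : Module.Finite κ (Submodule.span κ s) := by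
    rw [hs_top]; infer_instance
  obtain ⟨y, hys, hyspan, -⟩ := Submodule.exists_fun_fin_finrank_span_eq κ s
  have hn : Module.finrank κ (Submodule.span κ s) = Module.finrank κ (κ ⊗[R] M) := by
    rw [hs_top, finrank_top]
  choose x hx using hys
  refine ⟨_, x, ?_⟩
  -- the quotient
  set N : Submodule R M := Submodule.span R (Set.range x) with hN
  have hsub : Subsingleton (κ ⊗[R] (M ⧸ N)) := by
    have hsurj : Function.Surjective (N.mkQ.lTensor κ) :=
      LinearMap.lTensor_surjective κ N.mkQ_surjective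
    -- the `κ`-linear version
    let g : κ ⊗[R] M →ₗ[κ] κ ⊗[R] (M ⧸ N) := TensorProduct.AlgebraTensorModule.lTensor κ κ N.mkQ
    have hg : ∀ t, g t = N.mkQ.lTensor κ t := fun t => rfl
    have hzero : g = 0 := by
      apply LinearMap.ext_on_range (v := y) (by rw [hyspan, hs_top])
      intro i
      rw [← hx i, hg, LinearMap.lTensor_tmul, LinearMap.zero_apply]
      have : N.mkQ (x i) = 0 := by
        rw [Submodule.mkQ_apply, Submodule.Quotient.mk_eq_zero]
        exact Submodule.subset_span ⟨i, rfl⟩
      rw [this, TensorProduct.tmul_zero]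
    refine ⟨fun a b => ?_⟩
    obtain ⟨a', rfl⟩ := hsurj a
    obtain ⟨b', rfl⟩ := hsurj b
    rw [← hg, ← hg, hzero, LinearMap.zero_apply, LinearMap.zero_apply]
  have hsupp : (⟨p, inferInstance⟩ : PrimeSpectrum R) ∉ Module.support R (M ⧸ N) := by
    rw [Module.mem_support_iff_nontrivial_residueField_tensorProduct]
    exact not_nontrivial _
  rw [Module.mem_support_iff_of_finite] at hsupp
  obtain ⟨f, hfann, hfp⟩ := SetLike.not_le_iff_exists.mp hsupp
  refine ⟨f, hn.symm ▸ rfl, hfp, fun m => ?_⟩
  have := Module.mem_annihilator.mp hfann (Submodule.Quotient.mk m)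
  rwa [← Submodule.Quotient.mk_smul, Submodule.Quotient.mk_eq_zero] at this

end Groth.Agent.H3.RedProj

namespace Groth.Agent.H3.RedProj

variable {R : Type u} [CommRing R] {M : Type u} [AddCommGroup M] [Module R M]

/-- Lemma D. -/
theorem exists_local_pres [IsReduced R] [Module.Finite R M]
    (hr : IsLocallyConstant (fun p : PrimeSpectrum R =>
      Module.finrank p.asIdeal.ResidueField (p.asIdeal.ResidueField ⊗[R] M)))
    (p : Ideal R) [hp : p.IsPrime] :
    ∃ (f : R) (n : ℕ) (φ : (Fin n → R) →ₗ[R] M), f ∉ p ∧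
      (∀ m : M, ∃ v, φ v = f • m) ∧ ∀ v, φ v = 0 → f • v = 0 := by
  obtain ⟨n, x, f₁, hn, hf₁, hgen⟩ := exists_gens (M := M) p
  set r := (fun q : PrimeSpectrum R =>
      Module.finrank q.asIdeal.ResidueField (q.asIdeal.ResidueField ⊗[R] M)) with hrdef
  let P : PrimeSpectrum R := ⟨p, hp⟩
  have hUopen : IsOpen (r ⁻¹' {r P}) := hr.isOpen_fiber _
  have hPU : P ∈ r ⁻¹' {r P} := rfl
  obtain ⟨_, ⟨g, rfl⟩, hPg, hgU⟩ :=
    PrimeSpectrum.isTopologicalBasis_basic_opens.exists_subset_of_mem_open hPU hUopen
  have hgp : g ∉ p := hPg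
  refine ⟨f₁ * g, n, Fintype.linearCombination R x, ?_, ?_, ?_⟩
  · exact fun h => (hp.mem_or_mem h).elim hf₁ hgp
  · intro m
    have h1 : (f₁ * g) • m ∈ Submodule.span R (Set.range x) := by
      rw [mul_comm, mul_smul]
      exact Submodule.smul_mem _ _ (hgen m)
    rw [← Fintype.range_linearCombination R x] at h1
    exact h1
  · intro v hv
    rw [Fintype.linearCombination_apply] at hv
    ext i
    simp only [Pi.smul_apply, Pi.zero_apply, smul_eq_mul]
    apply IsNilpotent.eq_zero
    rw [nilpotent_iff_mem_prime]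
    intro q hq
    by_cases hfq : f₁ * g ∈ q
    · exact q.mul_mem_right _ hfq
    · apply q.mul_mem_left
      have hf₁q : f₁ ∉ q := fun h => hfq (q.mul_mem_right _ h)
      have hgq : g ∉ q := fun h => hfq (q.mul_mem_left _ h)
      have hrq : r ⟨q, hq⟩ = r P := hgU (show (⟨q, hq⟩ : PrimeSpectrum R) ∈ _ from hgq)
      have hrank : Module.finrank q.ResidueField (q.ResidueField ⊗[R] M) = n := by
        rw [hn]; exact hrq
      exact mem_of_sum_smul_eq_zero x q (span_one_tmul_eq_top x f₁ hgen q hf₁q) hrank v hv i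

/-- Lemma E. -/
theorem free_away {f : R} {n : ℕ} (φ : (Fin n → R) →ₗ[R] M)
    (hsurj : ∀ m : M, ∃ v, φ v = f • m) (hker : ∀ v, φ v = 0 → f • v = 0) :
    Module.Free (Localization.Away f) (LocalizedModule.Away f M) := by
  let S := Submonoid.powers f
  let ψ : (Fin n → R) →ₗ[R] LocalizedModule S M := (LocalizedModule.mkLinearMap S M) ∘ₗ φ
  haveI : IsLocalizedModule S ψ := by
    refine ⟨?_, ?_, ?_⟩
    · exact IsLocalizedModule.map_units (LocalizedModule.mkLinearMap S M)
    · intro y
      obtain ⟨⟨m, s⟩, hms⟩ := IsLocalizedModule.surj S (LocalizedModule.mkLinearMap S M) y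
      obtain ⟨v, hv⟩ := hsurj m
      refine ⟨⟨v, ⟨f, Submonoid.mem_powers f⟩ * s⟩, ?_⟩
      show (⟨f, Submonoid.mem_powers f⟩ * s) • y = LocalizedModule.mkLinearMap S M (φ v)
      rw [mul_smul, hms, hv, map_smul]
      rfl
    · intro v w hvw
      have h1 : LocalizedModule.mkLinearMap S M (φ (v - w)) = 0 := by
        rw [map_sub, map_sub, sub_eq_zero]; exact hvw
      rw [← map_zero (LocalizedModule.mkLinearMap S M),
        IsLocalizedModule.eq_iff_exists S] at h1
      obtain ⟨c, hc⟩ := h1
      rw [smul_zero, Submonoid.smul_def, ← map_smul] at hc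
      have h2 := hker _ hc
      refine ⟨⟨f, Submonoid.mem_powers f⟩ * c, ?_⟩
      rw [← sub_eq_zero, ← smul_sub, mul_smul]
      exact h2
  exact Module.free_of_isLocalizedModule S ψ

theorem projective_of_isLocallyConstant [IsReduced R] [Module.Finite R M]
    (hr : IsLocallyConstant (fun p : PrimeSpectrum R =>
      Module.finrank p.asIdeal.ResidueField (p.asIdeal.ResidueField ⊗[R] M))) :
    Module.Projective R M := by
  let s : Set R := {f | Module.Free (Localization.Away f) (LocalizedModule.Away f M)}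
  have hs : Ideal.span s = ⊤ := by
    by_contra hne
    obtain ⟨m, hm, hsm⟩ := Ideal.exists_le_maximal _ hne
    haveI : m.IsPrime := hm.isPrime
    obtain ⟨f, n, φ, hfm, hsurj, hker⟩ := exists_local_pres hr m
    exact hfm (hsm (Ideal.subset_span (free_away φ hsurj hker)))
  haveI : Module.FinitePresentation R M := by
    apply Module.FinitePresentation.of_localizationSpan s hs
    intro g
    haveI : Module.Free (Localization.Away g.1) (LocalizedModule.Away g.1 M) := g.2
    exact Module.finitePresentation_of_projective _ _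
  haveI : Module.Flat R M := by
    apply Module.flat_of_localized_span R M s hs
    intro g
    haveI : Module.Free (Localization.Away g.1) (LocalizedModule.Away g.1 M) := g.2
    exact Module.Flat.trans R (Localization.Away g.1) (LocalizedModule.Away g.1 M)
  exact Module.Flat.projective_of_finitePresentation

theorem main (R : Type u) [CommRing R] [IsReduced R] (M : Type u) [AddCommGroup M] [Module R M] :
    (Module.Finite R M ∧ Module.Projective R M) ↔
      (Module.Finite R M ∧ IsLocallyConstant (fun p : PrimeSpectrum R =>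
        Module.finrank p.asIdeal.ResidueField (p.asIdeal.ResidueField ⊗[R] M))) := by
  constructor
  · rintro ⟨hfin, hproj⟩
    refine ⟨hfin, ?_⟩
    haveI : Module.FinitePresentation R M := Module.finitePresentation_of_projective R M
    have h1 := Module.isLocallyConstant_rankAtStalk (R := R) (M := M)
    have h2 : (fun p : PrimeSpectrum R =>
        Module.finrank p.asIdeal.ResidueField (p.asIdeal.ResidueField ⊗[R] M)) =
        Module.rankAtStalk M := by
      funext p
      exact (Module.rankAtStalk_eq p).symm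
    rw [h2]
    exact h1
  · rintro ⟨hfin, hr⟩
    exact ⟨hfin, projective_of_isLocallyConstant hr⟩

end Groth.Agent.H3.RedProj
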