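import Mathlib
import Groth.Agent.Lib.Helper3.CA.RegColim3

/-!
# Abstract form: a Noetherian ring which is a directed colimit of regular rings is regular (helper3)
-/

set_option autoImplicit false
universe u

namespace Groth.Agent.H3.RegColim

theorem isRegularRing_of_colimit {ι : Type u} [Preorder ι] [Nonempty ι] [IsDirectedOrder ι]
    (G : ι → Type u) [∀ i, CommRing (G i)]
    (f : ∀ i j, i ≤ j → G i →+* G j) [DirectedSystem G (fun i j h ↦ f i j h)]
    (T : Type u) [CommRing T] [IsNoetherianRing T] (g : ∀ i, G i →+* T)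
    (hg : ∀ i j (h : i ≤ j) (x : G i), g j (f i j h x) = g i x)
    (hsurj : ∀ t : T, ∃ (i : ι) (x : G i), g i x = t)
    (hzero : ∀ (i : ι) (x : G i), g i x = 0 → ∃ (j : ι) (h : i ≤ j), f i j h x = 0)
    (hreg : ∀ i, IsRegularRing (G i)) : IsRegularRing T := by
  let Φ : Ring.DirectLimit G (fun i j h ↦ f i j h) →+* T :=
    Ring.DirectLimit.lift G (fun i j h ↦ f i j h) T g hg
  have hΦinj : Function.Injective Φ := by
    rw [injective_iff_map_eq_zero]
    intro x hx
    obtain ⟨k, y, rfl⟩ := Ring.DirectLimit.exists_of x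
    rw [Ring.DirectLimit.lift_of] at hx
    obtain ⟨j, hkj, hj⟩ := hzero k y hx
    rw [← Ring.DirectLimit.of_f hkj, hj, map_zero]
  have hΦsurj : Function.Surjective Φ := by
    intro t
    obtain ⟨k, y, rfl⟩ := hsurj t
    exact ⟨Ring.DirectLimit.of G (fun i j h ↦ f i j h) k y, Ring.DirectLimit.lift_of _ _ _ _ _⟩
  let e : Ring.DirectLimit G (fun i j h ↦ f i j h) ≃+* T := RingEquiv.ofBijective Φ ⟨hΦinj, hΦsurj⟩
  haveI : IsNoetherianRing (Ring.DirectLimit G (fun i j h ↦ f i j h)) :=
    isNoetherianRing_of_ringEquiv T e.symm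
  haveI := main G f hreg
  exact IsRegularRing.of_ringEquiv e

end Groth.Agent.H3.RegColim
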