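import Mathlib
import Groth.Prelude.Def_EGA4b
import Groth.Agent.Lib.Helper3.CA.GeomNormalLoc
import Groth.Agent.Lib.Helper8.GeomNormal

/-!
# Geometric normality and separable algebraic extensions of the base field (helper3), part 1:
for `k'/k` separable algebraic and `A` a `k'`-algebra, `A` is a localization of `k' ⊗_k A`.
-/

set_option autoImplicit false
universe u
open TensorProduct Polynomial

namespace Groth.Agent.H3.SepGN

variable (k k' A : Type u) [Field k] [Field k'] [Algebra k k'] [Algebra.IsSeparable k k']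
  [CommRing A] [Algebra k' A] [Algebra k A] [IsScalarTower k k' A]

/-- the multiplication map `k' ⊗_k A → A` -/
noncomputable def μ : k' ⊗[k] A →ₐ[k'] A :=
  Algebra.TensorProduct.lift (Algebra.ofId k' A) (AlgHom.id k A) (fun _ _ => Commute.all _ _)

omit [Algebra.IsSeparable k k'] in
@[simp] theorem μ_tmul (x : k') (a : A) : μ k k' A (x ⊗ₜ a) = algebraMap k' A x * a := by
  simp [μ, Algebra.ofId_apply]

/-- the elements that become units in `A` -/
noncomputable def MM : Submonoid (k' ⊗[k] A) := (IsUnit.submonoid A).comap (μ k k' A)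

omit [Algebra.IsSeparable k k'] in
theorem mem_MM {s : k' ⊗[k] A} : s ∈ MM k k' A ↔ IsUnit (μ k k' A s) := Iff.rfl

/-- separability: `x ⊗ 1 - 1 ⊗ x` is killed by an element of `MM` -/
theorem exists_mul_delta_eq_zero (x : k') :
    ∃ s ∈ MM k k' A, s * (x ⊗ₜ[k] (1 : A) - (1 : k') ⊗ₜ[k] (algebraMap k' A x)) = 0 := by
  set X : k' ⊗[k] A := x ⊗ₜ[k] (1 : A) with hX
  set Y : k' ⊗[k] A := (1 : k') ⊗ₜ[k] (algebraMap k' A x) with hY
  let f : k[X] := minpoly k x
  have hsep : f.Separable := Algebra.IsSeparable.isSeparable k x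
  have hfx : aeval x f = 0 := minpoly.aeval k x
  have hX0 : aeval X f = 0 := by
    have : X = (Algebra.TensorProduct.includeLeft : k' →ₐ[k] k' ⊗[k] A) x := rfl
    rw [this, aeval_algHom_apply, hfx, map_zero]
  have hY0 : aeval Y f = 0 := by
    have : Y = (Algebra.TensorProduct.includeRight : A →ₐ[k] k' ⊗[k] A)
        ((IsScalarTower.toAlgHom k k' A) x) := rfl
    rw [this, aeval_algHom_apply, aeval_algHom_apply, hfx, map_zero, map_zero]
  obtain ⟨c, hc⟩ := binomExpansion (f.map (algebraMap k (k' ⊗[k] A))) X (Y - X)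
  rw [add_sub_cancel, eval_map_algebraMap, eval_map_algebraMap, hX0, hY0, zero_add] at hc
  refine ⟨eval X (derivative (f.map (algebraMap k (k' ⊗[k] A)))) + c * (Y - X), ?_, ?_⟩
  · rw [mem_MM, map_add, map_mul, map_sub]
    have hμX : μ k k' A X = algebraMap k' A x := by simp [hX]
    have hμY : μ k k' A Y = algebraMap k' A x := by simp [hY]
    rw [hμX, hμY, sub_self, mul_zero, add_zero, derivative_map, eval_map_algebraMap]
    have h1 : μ k k' A (aeval X (derivative f)) =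
        algebraMap k' A (aeval x (derivative f)) := by
      have : X = (Algebra.TensorProduct.includeLeft : k' →ₐ[k] k' ⊗[k] A) x := rfl
      rw [this, aeval_algHom_apply]
      simp
    rw [h1]
    exact (IsUnit.mk0 _ (hsep.aeval_derivative_ne_zero hfx)).map _
  · have : (eval X (derivative (f.map (algebraMap k (k' ⊗[k] A)))) + c * (Y - X)) * (X - Y) =
        -(eval X (derivative (f.map (algebraMap k (k' ⊗[k] A)))) * (Y - X) + c * (Y - X) ^ 2) := by
      ring
    rw [this, ← hc, neg_zero]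

/-- every `z` is congruent to `1 ⊗ μ z` up to an element of `MM` -/
theorem exists_mul_sub_eq_zero (z : k' ⊗[k] A) :
    ∃ s ∈ MM k k' A, s * (z - (1 : k') ⊗ₜ[k] (μ k k' A z)) = 0 := by
  induction z with
  | zero => exact ⟨1, one_mem _, by simp⟩
  | tmul x a =>
    obtain ⟨s, hs, h⟩ := exists_mul_delta_eq_zero k k' A x
    refine ⟨s, hs, ?_⟩
    have : x ⊗ₜ[k] a - (1 : k') ⊗ₜ[k] (μ k k' A (x ⊗ₜ a)) =
        (x ⊗ₜ[k] (1 : A) - (1 : k') ⊗ₜ[k] (algebraMap k' A x)) * ((1 : k') ⊗ₜ[k] a) := by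
      rw [μ_tmul, sub_mul, Algebra.TensorProduct.tmul_mul_tmul, Algebra.TensorProduct.tmul_mul_tmul,
        mul_one, one_mul, one_mul]
    rw [this, ← mul_assoc, h, zero_mul]
  | add z₁ z₂ h₁ h₂ =>
    obtain ⟨s₁, hs₁, e₁⟩ := h₁
    obtain ⟨s₂, hs₂, e₂⟩ := h₂
    refine ⟨s₁ * s₂, mul_mem hs₁ hs₂, ?_⟩
    have : s₁ * s₂ * (z₁ + z₂ - (1 : k') ⊗ₜ[k] (μ k k' A (z₁ + z₂))) =
        s₂ * (s₁ * (z₁ - (1 : k') ⊗ₜ[k] (μ k k' A z₁))) +
          s₁ * (s₂ * (z₂ - (1 : k') ⊗ₜ[k] (μ k k' A z₂))) := by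
      rw [map_add, TensorProduct.tmul_add]; ring
    rw [this, e₁, e₂, mul_zero, mul_zero, add_zero]

/-- `A` is a localization of `k' ⊗_k A`. -/
theorem isLocalization_μ :
    letI : Algebra (k' ⊗[k] A) A := (μ k k' A).toRingHom.toAlgebra
    IsLocalization (MM k k' A) A := by
  letI : Algebra (k' ⊗[k] A) A := (μ k k' A).toRingHom.toAlgebra
  have hmap : ∀ z, algebraMap (k' ⊗[k] A) A z = μ k k' A z := fun _ => rfl
  refine ⟨fun s => ?_, fun a => ?_, fun {x y} h => ?_⟩
  · exact s.2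
  · refine ⟨((1 : k') ⊗ₜ[k] a, 1), ?_⟩
    simp [hmap]
  · rw [hmap, hmap] at h
    obtain ⟨s, hs, e⟩ := exists_mul_sub_eq_zero k k' A (x - y)
    refine ⟨⟨s, hs⟩, ?_⟩
    rw [map_sub, h, sub_self, TensorProduct.tmul_zero, sub_zero, mul_sub, sub_eq_zero] at e
    exact e

end Groth.Agent.H3.SepGN
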