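import Mathlib
import Groth.Prelude.Def_EGA4b
import Groth.Agent.Lib.Helper3.CA.SepGN1
import Groth.Agent.Lib.Helper3.CA.NormTens5
import Groth.Agent.Lib.Helper8.Japanese.SepGR

/-!
# Geometric normality and separable algebraic extensions of the base field (helper3), part 2
-/

set_option autoImplicit false
universe u
open TensorProduct Polynomial

namespace Groth.Agent.H3.SepGN

open Groth.Agent.H8.GNorm Groth.Agent.H3.NormTens

variable (k k' A : Type u) [Field k] [Field k'] [Algebra k k'] [Algebra.IsSeparable k k']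
  [CommRing A] [Algebra k' A] [Algebra k A] [IsScalarTower k k' A]

/-- (⇒) -/
theorem isGeomNormal_top (h : EGA4.IsGeomNormal k A) : EGA4.IsGeomNormal k' A := by
  have h1 : EGA4.IsGeomNormal k' (k' ⊗[k] A) := by
    intro F _ _ hfin
    letI : Algebra k F := ((algebraMap k' F).comp (algebraMap k k')).toAlgebra
    haveI : IsScalarTower k k' F := IsScalarTower.of_algebraMap_eq fun _ => rfl
    have h2 : NormalLoc (F ⊗[k] A) :=
      normalLoc_tensor_of_forall_finite_purelyInseparable k A (fun k'' _ _ hf _ => h k'' hf) F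
    exact (normalLoc_tensor_tensor_iff k A k' F).mpr h2
  letI : Algebra (k' ⊗[k] A) A := (μ k k' A).toRingHom.toAlgebra
  haveI : IsScalarTower k' (k' ⊗[k] A) A :=
    IsScalarTower.of_algebraMap_eq fun x => ((μ k k' A).commutes x).symm
  haveI := isLocalization_μ k k' A
  exact NorLoc.isGeomNormal_of_isLocalization k' (k' ⊗[k] A) (MM k k' A) A h1

/-- `k' ⊗_k F` is reduced of dimension zero for `F/k` finite -/
theorem isField_localization (F : Type u) [Field F] [Algebra k F] [Module.Finite k F]
    (𝔭 : Ideal (k' ⊗[k] F)) [𝔭.IsPrime] : IsField (Localization.AtPrime 𝔭) := by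
  haveI : Algebra.IsIntegral k' (k' ⊗[k] F) := inferInstance
  haveI : Ring.KrullDimLE 0 (k' ⊗[k] F) := Ring.KrullDimLE.mk₀ fun I hI => by
    haveI := hI
    refine Ideal.isMaximal_of_isIntegral_of_isMaximal_comap (R := k') I ?_
    have : I.comap (algebraMap k' (k' ⊗[k] F)) = ⊥ := by
      rcases Ideal.eq_bot_or_top (I.comap (algebraMap k' (k' ⊗[k] F))) with h | h
      · exact h
      · exact absurd h (Ideal.IsPrime.ne_top (Ideal.comap_isPrime _ _))
    rw [this]
    exact Ideal.bot_isMaximal
  haveI : Algebra.IsGeometricallyReduced k k' :=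
    Groth.Agent.H8.Jap.isGeometricallyReduced_of_isSeparable k k'
  haveI : IsReduced (F ⊗[k] k') := inferInstance
  haveI : IsReduced (k' ⊗[k] F) :=
    isReduced_of_injective (Algebra.TensorProduct.comm k k' F).toRingEquiv.toRingHom
      (Algebra.TensorProduct.comm k k' F).injective
  have hp : 𝔭 ∈ minimalPrimes (k' ⊗[k] F) := Ideal.mem_minimalPrimes_of_krullDimLE_zero 𝔭
  haveI : Ring.KrullDimLE 0 (Localization.AtPrime 𝔭) :=
    Ring.KrullDimLE.of_isLocalization 𝔭 hp _
  haveI : IsReduced (Localization.AtPrime 𝔭) :=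
    isReduced_localizationPreserves 𝔭.primeCompl _ inferInstance
  exact Ring.KrullDimLE.isField_of_isReduced

/-- (⇐) -/
theorem isGeomNormal_bot (h : EGA4.IsGeomNormal k' A) : EGA4.IsGeomNormal k A := by
  intro F _ _ hfin
  haveI := hfin
  have hW : NormalLoc (A ⊗[k'] (k' ⊗[k] F)) := by
    intro r _
    let 𝔭 : Ideal (k' ⊗[k] F) :=
      r.comap (Algebra.TensorProduct.includeRight : (k' ⊗[k] F) →ₐ[k'] A ⊗[k'] (k' ⊗[k] F)).toRingHom
    haveI : 𝔭.IsPrime := Ideal.comap_isPrime _ _
    letI : Field (Localization.AtPrime 𝔭) := (isField_localization k k' F 𝔭).toField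
    have hn : NormalLoc (A ⊗[k'] Localization.AtPrime 𝔭) := by
      have h1 := normalLoc_tensor_of_forall_finite_purelyInseparable k' A
        (fun k'' _ _ hf _ => h k'' hf) (Localization.AtPrime 𝔭)
      exact NormalLoc.of_ringEquiv
        (Algebra.TensorProduct.comm k' (Localization.AtPrime 𝔭) A).toRingEquiv h1
    obtain ⟨_, _, hl⟩ := PHom.exists_isLocalization_tensor k' A (k' ⊗[k] F)
      (Localization.AtPrime 𝔭) 𝔭.primeCompl
    refine normal_atPrime_of_isLocalization (T' := A ⊗[k'] Localization.AtPrime 𝔭)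
      (𝔭.primeCompl.map (Algebra.TensorProduct.includeRight (R := k') (A := A))) r ?_
      fun Q _ _ => hn Q
    rw [Set.disjoint_left]
    rintro _ ⟨b, hb, rfl⟩ hbr
    exact hb hbr
  have e1 : A ⊗[k'] (k' ⊗[k] F) ≃+* A ⊗[k] F :=
    (Algebra.TensorProduct.cancelBaseChange k k' k' A F).toRingEquiv
  exact (hW.of_ringEquiv e1).of_ringEquiv (Algebra.TensorProduct.comm k A F).toRingEquiv

theorem main : EGA4.IsGeomNormal k A ↔ EGA4.IsGeomNormal k' A :=
  ⟨isGeomNormal_top k k' A, isGeomNormal_bot k k' A⟩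

end Groth.Agent.H3.SepGN
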