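import Groth.Agent.Lib.Helper3.CA.SmoothSubalgU
import Mathlib.RingTheory.Extension.Cotangent.Basic
import Mathlib.RingTheory.Smooth.Basic

set_option autoImplicit false
universe u v

open MvPolynomial Algebra

namespace Groth.Agent.H3.SepU

lemma mem_toExtension_ker_iff {R S ι : Type*} [CommRing R] [CommRing S] [Algebra R S]
    (P : Algebra.Generators R S ι) (q : MvPolynomial ι R) :
    q ∈ P.toExtension.ker ↔ aeval P.val q = 0 := by
  change q ∈ P.ker ↔ _
  rw [Algebra.Generators.ker_eq_ker_aeval_val, RingHom.mem_ker]

/-- `H¹` of the naive cotangent complex of a separable field extension vanishes (no finiteness). -/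
theorem subsingleton_h1Cotangent_of_isGeometricallyReduced (k : Type u) (K : Type v) [Field k] [Field K]
    [Algebra k K] [Algebra.IsGeometricallyReduced k K] :
    Subsingleton (Algebra.H1Cotangent k K) := by
  classical
  let P := Algebra.Generators.self k K
  show Subsingleton P.toExtension.H1Cotangent
  rw [Algebra.Extension.subsingleton_h1Cotangent, injective_iff_map_eq_zero]
  intro c hc
  obtain ⟨x, rfl⟩ := Algebra.Extension.Cotangent.mk_surjective c
  rw [Algebra.Extension.cotangentComplex_mk] at hc
  rw [Algebra.Extension.Cotangent.mk_eq_zero_iff]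
  have hxker : aeval P.val x.1 = 0 := (mem_toExtension_ker_iff P x.1).mp x.2
  have hpd : ∀ s : K, aeval P.val (pderiv s x.1) = 0 := fun s => by
    have := congrArg (fun v => P.cotangentSpaceBasis.repr v s) hc
    simpa [Algebra.Generators.cotangentSpaceBasis_repr_one_tmul] using this
  obtain ⟨A, hEA, hA⟩ := exists_smooth_subalgebra_of_isGeometricallyReduced k K (x.1.vars)
  have hft : Algebra.FiniteType k A := inferInstance
  obtain ⟨G, hG⟩ := hft.out
  let F : Finset K := x.1.vars ∪ G.image Subtype.val
  have hFA : ∀ s ∈ F, s ∈ A := by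
    intro s hs
    rcases Finset.mem_union.mp hs with h | h
    · exact hEA h
    · obtain ⟨g, -, rfl⟩ := Finset.mem_image.mp h
      exact g.2
  let val : F → A := fun s => ⟨s.1, hFA s.1 s.2⟩
  have hsurj : Function.Surjective (aeval (R := k) val) := by
    rw [← AlgHom.range_eq_top, _root_.eq_top_iff, ← hG]
    refine Algebra.adjoin_le ?_
    intro g hg
    have hgF : (g : K) ∈ F := Finset.mem_union_right _ (Finset.mem_image_of_mem _ hg)
    exact ⟨X ⟨g, hgF⟩, by simp [val]⟩
  let Q := Algebra.Generators.ofSurjective val hsurj
  have hQval : ∀ q : MvPolynomial F k, ((aeval Q.val q : A) : K) =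
      aeval P.val (rename (Subtype.val : F → K) q) := by
    intro q
    rw [aeval_rename]
    have : (aeval (R := k) (P.val ∘ (Subtype.val : F → K))) = A.val.comp (aeval Q.val) := by
      apply MvPolynomial.algHom_ext
      intro i
      simp [Q, P, val, Algebra.Generators.ofSurjective, Algebra.Generators.self]
    rw [this]
    rfl
  obtain ⟨xF, hxF⟩ := exists_rename_eq_of_vars_subset_range x.1 (Subtype.val : F → K)
    Subtype.val_injective (by
      intro s hs
      exact ⟨⟨s, Finset.mem_union_left _ hs⟩, rfl⟩)
  have hxFker : xF ∈ Q.toExtension.ker := by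
    rw [mem_toExtension_ker_iff]
    apply Subtype.val_injective
    rw [hQval, hxF, hxker]
    rfl
  have hinj : Function.Injective Q.toExtension.cotangentComplex := by
    rw [← Algebra.Extension.subsingleton_h1Cotangent]
    haveI : Algebra.FormallySmooth k A := inferInstance
    exact Q.equivH1Cotangent.subsingleton
  have hzero : Q.toExtension.cotangentComplex (Algebra.Extension.Cotangent.mk ⟨xF, hxFker⟩) = 0 := by
    rw [Algebra.Extension.cotangentComplex_mk]
    apply Q.cotangentSpaceBasis.repr.injective
    ext s
    rw [Algebra.Generators.cotangentSpaceBasis_repr_one_tmul, map_zero, Finsupp.zero_apply]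
    show ((aeval Q.val (pderiv s xF) : A) : K) = ((0 : A) : K)
    rw [hQval, ← pderiv_rename Subtype.val_injective, hxF, hpd]
    rfl
  have hmk : Algebra.Extension.Cotangent.mk (P := Q.toExtension) ⟨xF, hxFker⟩ = 0 :=
    hinj (hzero.trans (map_zero _).symm)
  rw [Algebra.Extension.Cotangent.mk_eq_zero_iff] at hmk
  have hmap : Ideal.map (rename (Subtype.val : F → K) : MvPolynomial F k →ₐ[k] MvPolynomial K k)
      Q.toExtension.ker ≤ P.toExtension.ker := by
    rw [Ideal.map_le_iff_le_comap]
    intro q hq
    have hq' := (mem_toExtension_ker_iff Q q).mp hq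
    rw [Ideal.mem_comap]
    refine (mem_toExtension_ker_iff P _).mpr ?_
    have := hQval q
    rw [hq'] at this
    exact this.symm
  have h2 : (rename (Subtype.val : F → K) : MvPolynomial F k →ₐ[k] MvPolynomial K k) xF ∈
      P.toExtension.ker ^ 2 := by
    refine Ideal.pow_right_mono hmap 2 ?_
    rw [← Ideal.map_pow]
    exact Ideal.mem_map_of_mem _ hmk
  rw [hxF] at h2
  exact h2

/-- a separable field extension is formally smooth (no finiteness). -/
theorem formallySmooth_of_isGeometricallyReduced' (k : Type u) (K : Type v) [Field k] [Field K]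
    [Algebra k K] [Algebra.IsGeometricallyReduced k K] : Algebra.FormallySmooth k K :=
  ⟨Module.Projective.of_free, subsingleton_h1Cotangent_of_isGeometricallyReduced k K⟩

end Groth.Agent.H3.SepU
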