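import Mathlib

/-!
# Tensor products commute with abstract directed colimits: zero-exactness (helper3)
-/

set_option autoImplicit false

namespace Groth.Agent.H3.TensorColim

open TensorProduct

universe u v w

variable {R : Type u} [CommRing R] {ι : Type v} [Preorder ι] [Nonempty ι] [IsDirectedOrder ι]
  (G : ι → Type w) [∀ i, AddCommGroup (G i)] [∀ i, Module R (G i)]
  {S : Type w} [AddCommGroup S] [Module R S]
  (f : ∀ i j, i ≤ j → G i →ₗ[R] G j) [DirectedSystem G (f · · ·)] (of : ∀ i, G i →ₗ[R] S)

open Classical in
/-- If `S` is abstractly the directed colimit of the `G i`, then an element of `N ⊗ G i` dying in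
`N ⊗ S` already dies in some `N ⊗ G j`. -/
theorem lTensor_zero_exact (hof : ∀ i j (h : i ≤ j) (x : G i), of j (f i j h x) = of i x)
    (hsurj : ∀ s : S, ∃ (i : ι) (x : G i), of i x = s)
    (hzero : ∀ (i : ι) (x : G i), of i x = 0 → ∃ (j : ι) (h : i ≤ j), f i j h x = 0)
    (N : Type w) [AddCommGroup N] [Module R N] (i : ι) (w : N ⊗[R] G i)
    (hw : (of i).lTensor N w = 0) : ∃ (j : ι) (h : i ≤ j), (f i j h).lTensor N w = 0 := by
  -- the comparison map from the module direct limit
  let Φ : Module.DirectLimit G f →ₗ[R] S := Module.DirectLimit.lift R ι G f of hof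
  have hΦinj : Function.Injective Φ := by
    rw [injective_iff_map_eq_zero]
    intro x hx
    obtain ⟨k, y, rfl⟩ := Module.DirectLimit.exists_of x
    rw [Module.DirectLimit.lift_of] at hx
    obtain ⟨j, hkj, hj⟩ := hzero k y hx
    rw [← Module.DirectLimit.of_f (hij := hkj), hj, map_zero]
  have hΦsurj : Function.Surjective Φ := by
    intro s
    obtain ⟨k, y, rfl⟩ := hsurj s
    exact ⟨Module.DirectLimit.of R ι G f k y, Module.DirectLimit.lift_of _ _ _⟩
  let e : Module.DirectLimit G f ≃ₗ[R] S := LinearEquiv.ofBijective Φ ⟨hΦinj, hΦsurj⟩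
  have hΦof : (e : Module.DirectLimit G f →ₗ[R] S) ∘ₗ Module.DirectLimit.of R ι G f i = of i := by
    ext x; simp [e, Φ]
  have h1 : (Module.DirectLimit.of R ι G f i).lTensor N w = 0 := by
    have h2 : (e : Module.DirectLimit G f →ₗ[R] S).lTensor N
        ((Module.DirectLimit.of R ι G f i).lTensor N w) = 0 := by
      rw [← LinearMap.comp_apply, ← LinearMap.lTensor_comp, hΦof, hw]
    have hinj : Function.Injective ((e : Module.DirectLimit G f →ₗ[R] S).lTensor N) :=
      (LinearEquiv.lTensor N e).injective
    exact hinj (by rw [h2, map_zero])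
  have h3' : ∀ w : N ⊗[R] G i,
      TensorProduct.directLimitRight f N ((Module.DirectLimit.of R ι G f i).lTensor N w) =
      Module.DirectLimit.of R ι (fun i => N ⊗[R] G i) (fun i j h => (f i j h).lTensor N) i w := by
    intro w
    induction w using TensorProduct.induction_on with
    | zero => simp
    | tmul n g => simp
    | add a b ha hb => simp only [map_add, ha, hb]
  have h3 := h3' w
  rw [h1, map_zero] at h3
  exact Module.DirectLimit.of.zero_exact h3.symm

end Groth.Agent.H3.TensorColim
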