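import Mathlib
import Groth.Prelude.Def_Found
import Groth.Agent.Lib.Helper2.DirLimFlat
import Groth.Agent.Lib.Helper2.CycE
import Groth.Agent.Lib.Helper3.CA.TensorColim
import Groth.Agent.Lib.Helper3.CA.RegColim5
import Groth.Agent.Lib.Helper3.CA.RegHomBC

/-!
# A directed colimit of smooth algebras with Noetherian fibres is a regular homomorphism (helper3)
-/

set_option autoImplicit false

namespace Groth.Agent.H3.SmoothColim

universe u
open TensorProduct

variable (R : Type u) [CommRing R] {ι : Type u} [Preorder ι] [IsDirectedOrder ι] [Nonempty ι]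
  (G : ι → Type u) [∀ i, CommRing (G i)] [∀ i, Algebra R (G i)]
  (f : ∀ i j : ι, i ≤ j → (G i →ₐ[R] G j)) [DirectedSystem G (fun i j h => f i j h)]

/-- linear transition maps -/
def fl (i j : ι) (h : i ≤ j) : G i →ₗ[R] G j := (f i j h).toLinearMap

/-- linear structure maps -/
noncomputable def ofl (i : ι) : G i →ₗ[R] DirectLimit G f :=
  (DirectLimit.Algebra.of G f i).toLinearMap

instance : DirectedSystem G (fun i j h => fl R G f i j h) :=
  ‹DirectedSystem G (fun i j h => f i j h)›

lemma hof (i j : ι) (h : i ≤ j) (x : G i) : ofl R G f j (fl R G f i j h x) = ofl R G f i x :=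
  DirectLimit.Algebra.of_f h x

lemma hsurj (s : DirectLimit G f) : ∃ (i : ι) (x : G i), ofl R G f i x = s := by
  obtain ⟨i, x, rfl⟩ := DirectLimit.exists_eq_mk f s
  exact ⟨i, x, rfl⟩

lemma hzero (i : ι) (x : G i) (hx : ofl R G f i x = 0) :
    ∃ (j : ι) (h : i ≤ j), fl R G f i j h x = 0 := by
  have : (⟦⟨i, x⟩⟧ : DirectLimit G f) = 0 := hx
  rw [DirectLimit.exists_eq_zero] at this
  exact this

theorem flat (hs : ∀ i, Algebra.Smooth R (G i)) : Module.Flat R (DirectLimit G f) :=
  H2.DirLimFlat.flat_of_directed G (fl R G f) (ofl R G f) (hof R G f) (hsurj R G f) (hzero R G f)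
    (fun _ => inferInstance)

section tensor

variable (K : Type u) [Field K] [Algebra R K]

/-- ring transition maps on the base change -/
noncomputable def fK (i j : ι) (h : i ≤ j) : K ⊗[R] G i →+* K ⊗[R] G j :=
  (Algebra.TensorProduct.map (AlgHom.id K K) (f i j h)).toRingHom

/-- ring structure maps on the base change -/
noncomputable def gK (i : ι) : K ⊗[R] G i →+* K ⊗[R] DirectLimit G f :=
  (Algebra.TensorProduct.map (AlgHom.id K K) (DirectLimit.Algebra.of G f i)).toRingHom

lemma fK_apply (i j : ι) (h : i ≤ j) (x : K ⊗[R] G i) :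
    fK R G f K i j h x = (fl R G f i j h).lTensor K x := rfl

lemma gK_apply (i : ι) (x : K ⊗[R] G i) :
    gK R G f K i x = (ofl R G f i).lTensor K x := rfl

instance : DirectedSystem (fun i => K ⊗[R] G i) (fun i j h => fK R G f K i j h) :=
  inferInstanceAs (DirectedSystem (fun i => K ⊗[R] G i)
    (fun i j h => (fl R G f i j h).lTensor K))

theorem isRegularRing_tensor (hs : ∀ i, Algebra.Smooth R (G i))
    [IsNoetherianRing (K ⊗[R] DirectLimit G f)] :
    IsRegularRing (K ⊗[R] DirectLimit G f) := by
  refine RegColim.isRegularRing_of_colimit (fun i => K ⊗[R] G i) (fK R G f K) _ (gK R G f K)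
    ?_ ?_ ?_ ?_
  · intro i j h x
    rw [gK_apply, fK_apply, gK_apply, ← LinearMap.comp_apply, ← LinearMap.lTensor_comp]
    congr 2
    ext y
    exact hof R G f i j h y
  · intro t
    obtain ⟨j, w, hw⟩ := H2.DirLimFlat.exists_lTensor_eq G (fl R G f) (ofl R G f) (hof R G f)
      (hsurj R G f) (N := K) t
    exact ⟨j, w, hw⟩
  · intro i x hx
    exact TensorColim.lTensor_zero_exact G (fl R G f) (ofl R G f) (hof R G f) (hsurj R G f)
      (hzero R G f) K i x hx
  · intro i
    haveI := hs i
    exact H2.Cyc.isRegularRing_of_smooth K (K ⊗[R] G i)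

end tensor

theorem main (hs : ∀ i, Algebra.Smooth R (G i))
    (hN : ∀ (p : Ideal R) [p.IsPrime], IsNoetherianRing (p.Fiber (DirectLimit G f))) :
    CAlg.IsRegularHom R (DirectLimit G f) := by
  refine ⟨flat R G f hs, fun p _ => ⟨hN p, ?_⟩⟩
  intro K _ _ hfin
  haveI := hfin
  haveI := hN p
  letI : Algebra R K := ((algebraMap p.ResidueField K).comp (algebraMap R p.ResidueField)).toAlgebra
  haveI : IsScalarTower R p.ResidueField K := IsScalarTower.of_algebraMap_eq fun _ => rfl
  haveI : IsNoetherianRing (K ⊗[p.ResidueField] p.Fiber (DirectLimit G f)) :=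
    RegHomBC.isNoetherianRing_tensor_finite _ _ _
  let e := H8.NHB.isoF R (DirectLimit G f) p K
  haveI : IsNoetherianRing (K ⊗[R] DirectLimit G f) :=
    isNoetherianRing_of_ringEquiv (K ⊗[p.ResidueField] p.Fiber (DirectLimit G f)) e
  haveI := isRegularRing_tensor R G f K hs
  exact IsRegularRing.of_ringEquiv (R := K ⊗[R] DirectLimit G f) e.symm

end Groth.Agent.H3.SmoothColim
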