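import Mathlib
import Groth.Agent.Lib.Helper5.CA.NG20
import Groth.Agent.Lib.Helper5.CA.RegHom1

/-!
# Smooth iff flat with geometrically regular fibres (helper3)
-/

set_option autoImplicit false

open TensorProduct

namespace Groth.Agent.H3.SmoothGR

universe u

/-- A finite type algebra over a field which is geometrically regular is smooth. -/
theorem formallySmooth_of_isGeometricallyRegular (k C : Type u) [Field k] [CommRing C]
    [Algebra k C] [Algebra.FinitePresentation k C] (h : CAlg.IsGeometricallyRegular k C) :
    Algebra.FormallySmooth k C := by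
  rw [← Algebra.smoothLocus_eq_univ_iff, Set.eq_univ_iff_forall]
  intro q
  have hq : CAlg.IsGeometricallyRegular k (Localization.AtPrime q.asIdeal) :=
    H5.NG.isGeometricallyRegular_of_isLocalization k C q.asIdeal.primeCompl _ h
  have : Algebra.FiniteType k C := inferInstance
  have : Algebra.FormallySmooth k k := Algebra.FormallySmooth.inst
  exact ((H5.NG.tfae4578 (k₀ := k) (k := k) (C := C) q.asIdeal).out 3 0).mp hq

theorem smooth_iff (A B : Type u) [CommRing A] [CommRing B]
    [Algebra A B] [Algebra.FinitePresentation A B] :
    Algebra.Smooth A B ↔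
      Module.Flat A B ∧ ∀ (p : Ideal A) [p.IsPrime],
        CAlg.IsGeometricallyRegular p.ResidueField (p.Fiber B) := by
  constructor
  · intro h
    exact ⟨inferInstance, fun p _ => ((Groth.Agent.H5.RegHom.isRegularHom_of_smooth A B).2 p).2⟩
  · rintro ⟨hf, h⟩
    apply Algebra.Smooth.of_formallySmooth_fiber
    intro p _
    have : Algebra.FinitePresentation p.ResidueField (p.Fiber B) :=
      inferInstanceAs (Algebra.FinitePresentation p.ResidueField (p.ResidueField ⊗[A] B))
    exact formallySmooth_of_isGeometricallyRegular _ _ (h p)

end Groth.Agent.H3.SmoothGR
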