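import Groth.Agent.Lib.Helper5.SepGen
import Mathlib.RingTheory.Smooth.Locus
import Mathlib.FieldTheory.IntermediateField.Adjoin.Algebra

/-! A separable field extension is a directed union of smooth subalgebras. -/

set_option autoImplicit false
universe u v

namespace Groth.Agent.H3.SepU

open scoped IntermediateField.algebraAdjoinAdjoin in
theorem exists_smooth_subalgebra_of_isGeometricallyReduced (k : Type u) [Field k] (K : Type v) [Field K] [Algebra k K]
    [Algebra.IsGeometricallyReduced k K] (E : Finset K) :
    ∃ A : Subalgebra k K, (↑E : Set K) ⊆ (A : Set K) ∧ Algebra.Smooth k A := by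
  let A₀ := Algebra.adjoin k (E : Set K)
  let L := IntermediateField.adjoin k (E : Set K)
  have hft : Algebra.FiniteType k A₀ := .adjoin_of_finite E.finite_toSet
  have hfp : Algebra.FinitePresentation k A₀ := Algebra.FinitePresentation.of_finiteType.mp hft
  have h1 : Algebra.EssFiniteType A₀ L := .of_isLocalization _ (nonZeroDivisors _)
  have hess : Algebra.EssFiniteType k L := .comp _ A₀ _
  have hgr : Algebra.IsGeometricallyReduced k L :=
    Algebra.IsGeometricallyReduced.of_injective L.val Subtype.val_injective
  have hsm : Algebra.FormallySmooth k L := Groth.Agent.H5.formallySmooth_of_isGeometricallyReduced k L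
  have hbot : (⊥ : Ideal A₀).IsPrime := Ideal.isPrime_bot
  have hfr : IsFractionRing A₀ (Localization.AtPrime (⊥ : Ideal A₀)) := by
    have h2 : (⊥ : Ideal A₀).primeCompl = nonZeroDivisors A₀ := by
      ext x
      rw [mem_nonZeroDivisors_iff_ne_zero]
      rfl
    have h3 : IsLocalization (⊥ : Ideal A₀).primeCompl (Localization.AtPrime (⊥ : Ideal A₀)) :=
      inferInstance
    change IsLocalization (nonZeroDivisors A₀) (Localization.AtPrime (⊥ : Ideal A₀))
    convert h3 using 1
    exact h2.symm
  let e : L ≃ₐ[A₀] Localization.AtPrime (⊥ : Ideal A₀) :=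
    IsLocalization.algEquiv (nonZeroDivisors A₀) L _
  have hsmAt : Algebra.IsSmoothAt k (⊥ : Ideal A₀) :=
    Algebra.FormallySmooth.of_equiv (e.restrictScalars k)
  obtain ⟨g, hg, hsmooth⟩ := Algebra.IsSmoothAt.exists_notMem_smooth k (⊥ : Ideal A₀)
  have hg0 : g ≠ 0 := fun h => hg (by rw [h]; exact Ideal.zero_mem _)
  have hunit : ∀ y : Submonoid.powers g, IsUnit (A₀.val (y : A₀)) := by
    rintro ⟨_, n, rfl⟩
    rw [map_pow]
    refine IsUnit.pow n (IsUnit.mk0 _ ?_)
    exact fun h => hg0 (Subtype.ext h)
  let ψ : Localization.Away g →ₐ[k] K := IsLocalization.liftAlgHom (M := Submonoid.powers g) hunit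
  have hψinj : Function.Injective ψ := by
    change Function.Injective (IsLocalization.lift hunit)
    rw [IsLocalization.lift_injective_iff]
    intro x y
    have hinj : Function.Injective (algebraMap A₀ (Localization.Away g)) :=
      IsLocalization.injective _ (powers_le_nonZeroDivisors_of_noZeroDivisors hg0)
    rw [hinj.eq_iff]
    exact (Subtype.val_injective.eq_iff (a := x) (b := y)).symm
  refine ⟨ψ.range, ?_, ?_⟩
  · intro x hx
    refine ⟨algebraMap A₀ _ ⟨x, Algebra.subset_adjoin hx⟩, ?_⟩
    change IsLocalization.lift hunit _ = x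
    rw [IsLocalization.lift_eq]
    rfl
  · exact Algebra.Smooth.of_equiv (AlgEquiv.ofInjective ψ hψinj)

end Groth.Agent.H3.SepU
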