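import Mathlib

/-!
# The image of `Spec` of a filtered colimit (helper3)
-/

set_option autoImplicit false

universe u

open CategoryTheory CategoryTheory.Limits AlgebraicGeometry

namespace Groth.Agent.H3.SpecFilteredColimit

variable {I : Type u} [SmallCategory I] [IsFiltered I]
  (B : CommRingCat.{u}) (D : I ⥤ CommRingCat.{u}) (s : (Functor.const I).obj B ⟶ D) (c : Cocone D)

omit [IsFiltered I] in
lemma s_naturality {i j : I} (f : i ⟶ j) : s.app i ≫ D.map f = s.app j := by
  have := s.naturality f
  simp only [Functor.const_obj_obj, Functor.const_obj_map, Category.id_comp] at this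
  exact this.symm

lemma s_comp_ι (i j : I) : s.app i ≫ c.ι.app i = s.app j ≫ c.ι.app j := by
  obtain ⟨k, f, g, -⟩ := IsFilteredOrEmpty.cocone_objs i j
  rw [← c.w f, ← c.w g, ← Category.assoc, ← Category.assoc, s_naturality, s_naturality]

/-- the union of the images of the extended ideals, as an ideal of the colimit -/
def unionIdeal (hc : IsColimit c) (i₀ : I) (p : Ideal B) : Ideal c.pt where
  carrier := {a | ∃ (i : I) (x : D.obj i), x ∈ p.map (s.app i).hom ∧ (c.ι.app i).hom x = a}
  zero_mem' := ⟨i₀, 0, Submodule.zero_mem _, map_zero _⟩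
  add_mem' := by
    rintro a b ⟨i, x, hx, rfl⟩ ⟨j, y, hy, rfl⟩
    obtain ⟨k, f, g, -⟩ := IsFilteredOrEmpty.cocone_objs i j
    refine ⟨k, (D.map f).hom x + (D.map g).hom y, ?_, ?_⟩
    · refine Submodule.add_mem _ ?_ ?_
      · have : p.map (s.app k).hom = (p.map (s.app i).hom).map (D.map f).hom := by
          rw [Ideal.map_map, ← CommRingCat.hom_comp, s_naturality]
        rw [this]
        exact Ideal.mem_map_of_mem _ hx
      · have : p.map (s.app k).hom = (p.map (s.app j).hom).map (D.map g).hom := by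
          rw [Ideal.map_map, ← CommRingCat.hom_comp, s_naturality]
        rw [this]
        exact Ideal.mem_map_of_mem _ hy
    · rw [map_add, ← CommRingCat.comp_apply, ← CommRingCat.comp_apply, c.w, c.w]
  smul_mem' := by
    rintro r a ⟨i, x, hx, rfl⟩
    obtain ⟨j, y, rfl⟩ := Concrete.isColimit_exists_rep D hc r
    obtain ⟨k, f, g, -⟩ := IsFilteredOrEmpty.cocone_objs i j
    refine ⟨k, (D.map g).hom y * (D.map f).hom x, ?_, ?_⟩
    · refine Ideal.mul_mem_left _ _ ?_
      have : p.map (s.app k).hom = (p.map (s.app i).hom).map (D.map f).hom := by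
        rw [Ideal.map_map, ← CommRingCat.hom_comp, s_naturality]
      rw [this]
      exact Ideal.mem_map_of_mem _ hx
    · rw [map_mul, ← CommRingCat.comp_apply, ← CommRingCat.comp_apply, c.w, c.w]
      rfl

theorem mem_range_of_forall (hc : IsColimit c) (i₀ : I) (p : PrimeSpectrum B)
    (hp : ∀ i, p ∈ Set.range (PrimeSpectrum.comap (s.app i).hom)) :
    p ∈ Set.range (PrimeSpectrum.comap (s.app i₀ ≫ c.ι.app i₀).hom) := by
  have hp' : ∀ i, (p.asIdeal.map (s.app i).hom).comap (s.app i).hom = p.asIdeal := by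
    intro i
    exact (PrimeSpectrum.mem_range_comap_iff (f := (s.app i).hom)).1 (hp i)
  rw [PrimeSpectrum.mem_range_comap_iff]
  apply le_antisymm
  · intro b hb
    rw [Ideal.mem_comap] at hb
    have hle : p.asIdeal.map (s.app i₀ ≫ c.ι.app i₀).hom ≤ unionIdeal B D s c hc i₀ p.asIdeal := by
      rw [Ideal.map_le_iff_le_comap]
      intro x hx
      exact ⟨i₀, (s.app i₀).hom x, Ideal.mem_map_of_mem _ hx, rfl⟩
    obtain ⟨i, x, hx, hxb⟩ := hle hb
    have h1 : (c.ι.app i).hom x = (c.ι.app i).hom ((s.app i).hom b) := by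
      rw [hxb, ← CommRingCat.comp_apply, s_comp_ι B D s c i i₀]
    obtain ⟨k, f, g, hfg⟩ := Concrete.isColimit_exists_of_rep_eq D hc x ((s.app i).hom b) h1
    have h2 : (D.map g).hom ((s.app i).hom b) = (s.app k).hom b := by
      rw [← CommRingCat.comp_apply, s_naturality]
    have h3 : (D.map f).hom x ∈ p.asIdeal.map (s.app k).hom := by
      have : p.asIdeal.map (s.app k).hom = (p.asIdeal.map (s.app i).hom).map (D.map f).hom := by
        rw [Ideal.map_map, ← CommRingCat.hom_comp, s_naturality]
      rw [this]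
      exact Ideal.mem_map_of_mem _ hx
    have h4 : (s.app k).hom b ∈ p.asIdeal.map (s.app k).hom := by
      rw [← h2]
      have : (D.map f).hom x = (D.map g).hom ((s.app i).hom b) := hfg
      rw [← this]
      exact h3
    rw [← hp' k]
    exact h4
  · exact Ideal.le_comap_map

theorem range_eq_iInter (hc : IsColimit c) (i₀ : I) :
    Set.range (Spec.map (s.app i₀ ≫ c.ι.app i₀)).base =
      ⋂ i : I, Set.range (Spec.map (s.app i)).base := by
  apply Set.Subset.antisymm
  · rintro _ ⟨q, rfl⟩
    rw [Set.mem_iInter]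
    intro i
    rw [s_comp_ι B D s c i₀ i, Spec.map_comp]
    exact ⟨(Spec.map (c.ι.app i)).base q, rfl⟩
  · intro p hp
    rw [Set.mem_iInter] at hp
    exact mem_range_of_forall B D s c hc i₀ p hp

end Groth.Agent.H3.SpecFilteredColimit
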