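import Mathlib
import Groth.Agent.Lib.Helper3.CA.DefT1
import Groth.Agent.Lib.Helper3.CA.DefT2

set_option autoImplicit false

universe u

open scoped TensorProduct

namespace Groth.Agent.H3.SuppGD

open Groth.Agent.H3.DefT

/-- For a flat module `N` and a prime `p`, elements outside `p` are `N/pN`-regular. -/
theorem mem_smul_top_of_smul_mem {R : Type u} [CommRing R] {N : Type u} [AddCommGroup N]
    [Module R N] [Module.Flat R N] (p : Ideal R) [p.IsPrime] {r : R} (hr : r ∉ p) {m : N}
    (h : r • m ∈ p • (⊤ : Submodule R N)) : m ∈ p • (⊤ : Submodule R N) := by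
  rw [← one_tmul_eq_zero_iff] at h ⊢
  have hnz : Ideal.Quotient.mk p r ∈ nonZeroDivisors (R ⧸ p) := by
    rw [mem_nonZeroDivisors_iff_ne_zero]
    rwa [Ne, Ideal.Quotient.eq_zero_iff_mem]
  have hreg : IsSMulRegular ((R ⧸ p) ⊗[R] N) (Ideal.Quotient.mk p r) :=
    Module.Flat.isSMulRegular_of_nonZeroDivisors (R := R ⧸ p) (M := (R ⧸ p) ⊗[R] N) hnz
  apply hreg
  show Ideal.Quotient.mk p r • ((1 : R ⧸ p) ⊗ₜ[R] m) = Ideal.Quotient.mk p r • 0
  rw [smul_zero, ← h, TensorProduct.smul_tmul', TensorProduct.tmul_smul,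
    TensorProduct.smul_tmul']
  congr 1

theorem main {R S : Type u} [CommRing R] [CommRing S] [Algebra R S] (N : Type u)
    [AddCommGroup N] [Module S N] [Module R N] [IsScalarTower R S N] [Module.Finite S N]
    [Module.Flat R N] (p p' : Ideal R) [p.IsPrime] [p'.IsPrime] (hle : p ≤ p')
    (q' : PrimeSpectrum S) (hq' : q' ∈ Module.support S N) (hover : q'.asIdeal.under R = p') :
    ∃ q : PrimeSpectrum S, q ≤ q' ∧ q ∈ Module.support S N ∧ q.asIdeal.under R = p := by
  classical
  set J := Module.annihilator S N with hJ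
  set I := p.map (algebraMap R S) with hI
  have hIq' : I ≤ q'.asIdeal := by
    rw [hI, Ideal.map_le_iff_le_comap]
    intro x hx
    have : x ∈ q'.asIdeal.under R := by rw [hover]; exact hle hx
    exact this
  -- the multiplicative set
  let W : Submonoid S := q'.asIdeal.primeCompl ⊔ (p.primeCompl.map (algebraMap R S))
  have hW : ∀ x ∈ W, ∃ s ∉ q'.asIdeal, ∃ r ∉ p, x = s * algebraMap R S r := by
    intro x hx
    obtain ⟨s, hs, t, ht, rfl⟩ := Submonoid.mem_sup.mp hx
    obtain ⟨r, hr, rfl⟩ := Submonoid.mem_map.mp ht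
    exact ⟨s, hs, r, hr, rfl⟩
  have hdisj : Disjoint ((J ⊔ I : Ideal S) : Set S) (W : Set S) := by
    rw [Set.disjoint_left]
    intro x hxJI hxW
    obtain ⟨s, hs, r, hr, rfl⟩ := hW x hxW
    obtain ⟨a, ha, b, hb, hab⟩ := Submodule.mem_sup.mp hxJI
    -- `s r n ∈ I N` for all `n`
    have h1 : ∀ n : N, s • n ∈ I • (⊤ : Submodule S N) := by
      intro n
      have h2 : (s * algebraMap R S r) • n ∈ I • (⊤ : Submodule S N) := by
        rw [← hab, add_smul, Module.mem_annihilator.mp ha n, zero_add]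
        exact Submodule.smul_mem_smul hb Submodule.mem_top
      rw [mul_comm, mul_smul, algebraMap_smul, hI, mem_map_smul_top_iff] at h2
      rw [hI, mem_map_smul_top_iff]
      exact mem_smul_top_of_smul_mem p hr h2
    -- so `s` annihilates `N/IN`
    have h3 : s ∈ Module.annihilator S (N ⧸ (I • ⊤ : Submodule S N)) := by
      rw [Module.mem_annihilator]
      intro y
      obtain ⟨n, rfl⟩ := Submodule.Quotient.mk_surjective _ y
      rw [← Submodule.Quotient.mk_smul, Submodule.Quotient.mk_eq_zero]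
      exact h1 n
    have h4 : q' ∈ Module.support S (N ⧸ (I • ⊤ : Submodule S N)) := by
      rw [Module.support_quotient]
      exact ⟨hq', hIq'⟩
    exact hs (Module.annihilator_le_of_mem_support h4 h3)
  obtain ⟨q, hqprime, hJIq, hqW⟩ := Ideal.exists_le_prime_disjoint (J ⊔ I) W hdisj
  refine ⟨⟨q, hqprime⟩, ?_, ?_, ?_⟩
  · intro x hx
    by_contra hxq'
    have : x ∈ W := Submonoid.mem_sup_left (show x ∈ q'.asIdeal.primeCompl from hxq')
    exact Set.disjoint_left.mp hqW hx this
  · rw [Module.mem_support_iff_of_finite]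
    exact le_trans le_sup_left hJIq
  · apply le_antisymm
    · intro r hr
      by_contra hrp
      have h1 : algebraMap R S r ∈ W :=
        Submonoid.mem_sup_right (Submonoid.mem_map.mpr ⟨r, hrp, rfl⟩)
      exact Set.disjoint_left.mp hqW (show algebraMap R S r ∈ q from hr) h1
    · intro r hr
      show algebraMap R S r ∈ q
      exact hJIq (Submodule.mem_sup_right (Ideal.mem_map_of_mem _ hr))

end Groth.Agent.H3.SuppGD
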