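import Mathlib

set_option autoImplicit false

universe u

open scoped TensorProduct

namespace Groth.Agent.H3.TensorSubImg

variable (k : Type u) [Field k] (R S : Type u) [CommRing R] [Algebra k R] [CommRing S]
  [Algebra k S] (S' : Subalgebra k S)

theorem map_algebraMap (r : R) :
    Algebra.TensorProduct.map (AlgHom.id k R) S'.val (algebraMap R (R ⊗[k] S') r) =
      algebraMap R (R ⊗[k] S) r := by
  rw [Algebra.TensorProduct.algebraMap_apply, Algebra.TensorProduct.algebraMap_apply,
    Algebra.TensorProduct.map_tmul, map_one]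
  rfl

theorem mem_map_of_map_mem (p : Ideal R) (x : R ⊗[k] S')
    (h : Algebra.TensorProduct.map (AlgHom.id k R) S'.val x ∈
      p.map (algebraMap R (R ⊗[k] S))) :
    x ∈ p.map (algebraMap R (R ⊗[k] S')) := by
  let π : R →ₐ[k] R ⧸ p := Ideal.Quotient.mkₐ k p
  have hπ : Function.Surjective π := Ideal.Quotient.mkₐ_surjective k p
  have hker : RingHom.ker π = p := Ideal.Quotient.mkₐ_ker k p
  have h1 := Algebra.TensorProduct.rTensor_ker (R := k) (S := k) (C := S) π hπ
  have h2 := Algebra.TensorProduct.rTensor_ker (R := k) (S := k) (C := S') π hπ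
  rw [hker] at h1 h2
  have e1 : p.map (algebraMap R (R ⊗[k] S)) =
      p.map (Algebra.TensorProduct.includeLeft : R →ₐ[k] R ⊗[k] S) := rfl
  have e2 : p.map (algebraMap R (R ⊗[k] S')) =
      p.map (Algebra.TensorProduct.includeLeft : R →ₐ[k] R ⊗[k] S') := rfl
  rw [e1, ← h1, RingHom.mem_ker] at h
  rw [e2, ← h2, RingHom.mem_ker]
  have hcomm : ∀ y : R ⊗[k] S', Algebra.TensorProduct.map π (AlgHom.id k S)
      (Algebra.TensorProduct.map (AlgHom.id k R) S'.val y) =
      Algebra.TensorProduct.map (AlgHom.id k (R ⧸ p)) S'.val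
        (Algebra.TensorProduct.map π (AlgHom.id k S') y) := by
    intro y
    induction y using TensorProduct.induction_on with
    | zero => simp
    | tmul a b => simp
    | add a b ha hb => simp only [map_add, ha, hb]
  rw [hcomm] at h
  have hinj : Function.Injective (Algebra.TensorProduct.map (AlgHom.id k (R ⧸ p)) S'.val) := by
    have := Module.Flat.lTensor_preserves_injective_linearMap (R := k) (M := R ⧸ p)
      S'.val.toLinearMap Subtype.val_injective
    exact this
  exact hinj (by rw [h, map_zero])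

theorem main (f : R ⊗[k] S') (p : PrimeSpectrum R) :
    (∃ q : PrimeSpectrum (R ⊗[k] S),
        Algebra.TensorProduct.map (AlgHom.id k R) S'.val f ∉ q.asIdeal ∧
          q.asIdeal.comap (algebraMap R (R ⊗[k] S)) = p.asIdeal) ↔
      (∃ q' : PrimeSpectrum (R ⊗[k] S'),
        f ∉ q'.asIdeal ∧ q'.asIdeal.comap (algebraMap R (R ⊗[k] S')) = p.asIdeal) := by
  set φ := Algebra.TensorProduct.map (AlgHom.id k R) S'.val with hφ
  constructor
  · rintro ⟨q, hfq, hq⟩
    refine ⟨⟨q.asIdeal.comap φ.toRingHom, inferInstance⟩, ?_, ?_⟩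
    · exact hfq
    · rw [← hq]
      ext r
      simp only [Ideal.mem_comap]
      show φ (algebraMap R (R ⊗[k] S') r) ∈ q.asIdeal ↔ _
      rw [hφ, map_algebraMap]
  · rintro ⟨q', hfq', hq'⟩
    let P : Ideal (R ⊗[k] S) := p.asIdeal.map (algebraMap R (R ⊗[k] S))
    let W : Submonoid (R ⊗[k] S) :=
      Submonoid.powers (φ f) ⊔ (p.asIdeal.primeCompl.map (algebraMap R (R ⊗[k] S)))
    have hpq' : p.asIdeal.map (algebraMap R (R ⊗[k] S')) ≤ q'.asIdeal := by
      rw [Ideal.map_le_iff_le_comap, hq']
    have hdisj : Disjoint (P : Set (R ⊗[k] S)) (W : Set (R ⊗[k] S)) := by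
      rw [Set.disjoint_left]
      intro x hxP hxW
      obtain ⟨s, hs, t, ht, rfl⟩ := Submonoid.mem_sup.mp hxW
      obtain ⟨n, rfl⟩ := Submonoid.mem_powers_iff _ _ |>.mp hs
      obtain ⟨r, hr, rfl⟩ := Submonoid.mem_map.mp ht
      have h1 : φ (f ^ n * algebraMap R (R ⊗[k] S') r) ∈ P := by
        rw [map_mul, map_pow, hφ, map_algebraMap]
        exact hxP
      have h2 := hpq' (mem_map_of_map_mem k R S S' p.asIdeal _ h1)
      rcases q'.isPrime.mem_or_mem h2 with h3 | h3
      · exact hfq' (q'.isPrime.mem_of_pow_mem n h3)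
      · have : r ∈ q'.asIdeal.comap (algebraMap R (R ⊗[k] S')) := h3
        rw [hq'] at this
        exact hr this
    obtain ⟨q, hqprime, hPq, hqW⟩ := Ideal.exists_le_prime_disjoint P W hdisj
    refine ⟨⟨q, hqprime⟩, ?_, ?_⟩
    · intro hfq
      exact Set.disjoint_left.mp hqW hfq
        (Submonoid.mem_sup_left (Submonoid.mem_powers _))
    · apply le_antisymm
      · intro r hr
        by_contra hrp
        exact Set.disjoint_left.mp hqW (show algebraMap R (R ⊗[k] S) r ∈ q from hr)
          (Submonoid.mem_sup_right (Submonoid.mem_map.mpr ⟨r, hrp, rfl⟩))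
      · intro r hr
        exact hPq (Ideal.mem_map_of_mem _ hr)

end Groth.Agent.H3.TensorSubImg
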